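import Mathlib

set_option autoImplicit false

/-! Elementary computations in `SL₂(F)`. -/

namespace Cfsg.Agent.Lib.Helper5.Dk

variable {F : Type*} [Field F]

abbrev S2 (F : Type*) [Field F] := Matrix.SpecialLinearGroup (Fin 2) F

def al (g : S2 F) : F := g.1 0 0
def be (g : S2 F) : F := g.1 0 1
def ga (g : S2 F) : F := g.1 1 0
def de (g : S2 F) : F := g.1 1 1

theorem det_eq (g : S2 F) : al g * de g - be g * ga g = 1 := by
  have := g.2
  rw [Matrix.det_fin_two] at this
  exact this

theorem ext' {g h : S2 F} (h1 : al g = al h) (h2 : be g = be h) (h3 : ga g = ga h)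
    (h4 : de g = de h) : g = h := by
  apply Subtype.ext
  ext i j
  fin_cases i <;> fin_cases j
  exacts [h1, h2, h3, h4]

@[simp] theorem al_mul (g h : S2 F) : al (g * h) = al g * al h + be g * ga h := by
  simp [al, be, ga, Matrix.mul_apply, Fin.sum_univ_two]
@[simp] theorem be_mul (g h : S2 F) : be (g * h) = al g * be h + be g * de h := by
  simp [al, be, de, Matrix.mul_apply, Fin.sum_univ_two]
@[simp] theorem ga_mul (g h : S2 F) : ga (g * h) = ga g * al h + de g * ga h := by
  simp [al, de, ga, Matrix.mul_apply, Fin.sum_univ_two]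
@[simp] theorem de_mul (g h : S2 F) : de (g * h) = ga g * be h + de g * de h := by
  simp [be, de, ga, Matrix.mul_apply, Fin.sum_univ_two]

@[simp] theorem al_inv (g : S2 F) : al g⁻¹ = de g := by
  simp [al, de, Matrix.SpecialLinearGroup.coe_inv, Matrix.adjugate_fin_two]
@[simp] theorem be_inv (g : S2 F) : be g⁻¹ = - be g := by
  simp [be, Matrix.SpecialLinearGroup.coe_inv, Matrix.adjugate_fin_two]
@[simp] theorem ga_inv (g : S2 F) : ga g⁻¹ = - ga g := by
  simp [ga, Matrix.SpecialLinearGroup.coe_inv, Matrix.adjugate_fin_two]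
@[simp] theorem de_inv (g : S2 F) : de g⁻¹ = al g := by
  simp [al, de, Matrix.SpecialLinearGroup.coe_inv, Matrix.adjugate_fin_two]

@[simp] theorem al_one : al (1 : S2 F) = 1 := by simp [al]
@[simp] theorem be_one : be (1 : S2 F) = 0 := by simp [be]
@[simp] theorem ga_one : ga (1 : S2 F) = 0 := by simp [ga]
@[simp] theorem de_one : de (1 : S2 F) = 1 := by simp [de]

/-- general constructor -/
def mk4 (a b c d : F) (h : a * d - b * c = 1) : S2 F :=
  ⟨!![a, b; c, d], by rw [Matrix.det_fin_two_of]; exact h⟩

@[simp] theorem al_mk4 (a b c d : F) (h : a * d - b * c = 1) : al (mk4 a b c d h) = a := by simp [al, mk4]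
@[simp] theorem be_mk4 (a b c d : F) (h : a * d - b * c = 1) : be (mk4 a b c d h) = b := by simp [be, mk4]
@[simp] theorem ga_mk4 (a b c d : F) (h : a * d - b * c = 1) : ga (mk4 a b c d h) = c := by simp [ga, mk4]
@[simp] theorem de_mk4 (a b c d : F) (h : a * d - b * c = 1) : de (mk4 a b c d h) = d := by simp [de, mk4]

def xx (s : F) : S2 F := mk4 1 s 0 1 (by ring)
def yy (t : F) : S2 F := mk4 1 0 t 1 (by ring)
def mone : S2 F := mk4 (-1) 0 0 (-1) (by ring)

@[simp] theorem al_xx (s : F) : al (xx s) = 1 := by simp [xx]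
@[simp] theorem be_xx (s : F) : be (xx s) = s := by simp [xx]
@[simp] theorem ga_xx (s : F) : ga (xx s) = 0 := by simp [xx]
@[simp] theorem de_xx (s : F) : de (xx s) = 1 := by simp [xx]
@[simp] theorem al_yy (s : F) : al (yy s) = 1 := by simp [yy]
@[simp] theorem be_yy (s : F) : be (yy s) = 0 := by simp [yy]
@[simp] theorem ga_yy (s : F) : ga (yy s) = s := by simp [yy]
@[simp] theorem de_yy (s : F) : de (yy s) = 1 := by simp [yy]
@[simp] theorem al_mone : al (mone : S2 F) = -1 := by simp [mone]
@[simp] theorem be_mone : be (mone : S2 F) = 0 := by simp [mone]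
@[simp] theorem ga_mone : ga (mone : S2 F) = 0 := by simp [mone]
@[simp] theorem de_mone : de (mone : S2 F) = -1 := by simp [mone]

theorem xx_add (s t : F) : xx (s + t) = xx s * xx t := by
  apply ext' <;> simp [add_comm]
theorem xx_zero : xx (0 : F) = 1 := by apply ext' <;> simp
theorem xx_neg (s : F) : xx (-s) = (xx s)⁻¹ := by apply ext' <;> simp
theorem yy_add (s t : F) : yy (s + t) = yy s * yy t := by
  apply ext' <;> simp
theorem yy_zero : yy (0 : F) = 1 := by apply ext' <;> simp
theorem yy_neg (s : F) : yy (-s) = (yy s)⁻¹ := by apply ext' <;> simp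
theorem xx_pow (s : F) (n : ℕ) : (xx s) ^ n = xx (n * s) := by
  induction n with
  | zero => simp [xx_zero]
  | succ n ih => rw [pow_succ, ih, ← xx_add]; congr 1; push_cast; ring
theorem yy_pow (s : F) (n : ℕ) : (yy s) ^ n = yy (n * s) := by
  induction n with
  | zero => simp [yy_zero]
  | succ n ih => rw [pow_succ, ih, ← yy_add]; congr 1; push_cast; ring
theorem xx_injective : Function.Injective (xx : F → S2 F) := by
  intro s t h
  have := congrArg be h
  simpa using this

theorem mone_mul_mone : (mone : S2 F) * mone = 1 := by apply ext' <;> simp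
theorem mone_comm (g : S2 F) : mone * g = g * mone := by apply ext' <;> simp

def tr (g : S2 F) : F := al g + de g

theorem tr_conj (g h : S2 F) : tr (h * g * h⁻¹) = tr g := by
  have := det_eq h
  simp only [tr, al_mul, be_mul, ga_mul, de_mul, al_inv, be_inv, ga_inv, de_inv]
  linear_combination (al g + de g) * this

theorem tr_inv (g : S2 F) : tr g⁻¹ = tr g := by simp [tr, add_comm]

/-- commutation in coordinates -/
theorem comm_iff (g h : S2 F) : g * h = h * g ↔
    (be g * ga h = be h * ga g ∧ be h * (al g - de g) = be g * (al h - de h) ∧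
      ga h * (al g - de g) = ga g * (al h - de h)) := by
  constructor
  · intro e
    have e1 := congrArg al e
    have e2 := congrArg be e
    have e3 := congrArg ga e
    simp only [al_mul, be_mul, ga_mul] at e1 e2 e3
    refine ⟨by linear_combination e1, by linear_combination e2, by linear_combination -e3⟩
  · rintro ⟨e1, e2, e3⟩
    apply ext' <;> simp only [al_mul, be_mul, ga_mul, de_mul]
    · linear_combination e1
    · linear_combination e2
    · linear_combination -e3
    · linear_combination -e1

theorem eq_one_or_mone_iff (g : S2 F) : (g = 1 ∨ g = mone) ↔ (be g = 0 ∧ ga g = 0 ∧ al g = de g) := by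
  constructor
  · rintro (rfl | rfl) <;> simp
  · rintro ⟨h1, h2, h3⟩
    have h := det_eq g
    rw [h1, h3] at h
    have h4 : (de g - 1) * (de g + 1) = 0 := by linear_combination h
    rcases mul_eq_zero.mp h4 with h5 | h5
    · left
      apply ext' <;> simp [h1, h2, h3]
      · linear_combination h5
      · linear_combination h5
    · right
      apply ext' <;> simp [h1, h2, h3]
      · linear_combination h5
      · linear_combination h5

/-- centralizers of non-scalar elements are commutative -/
theorem comm_of_comm {g x y : S2 F} (hg : ¬ (g = 1 ∨ g = mone)) (hx : x * g = g * x)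
    (hy : y * g = g * y) : x * y = y * x := by
  rw [eq_one_or_mone_iff] at hg
  rw [comm_iff] at hx hy ⊢
  obtain ⟨x1, x2, x3⟩ := hx
  obtain ⟨y1, y2, y3⟩ := hy
  by_cases hb : be g = 0
  · by_cases hc : ga g = 0
    · have hd : al g - de g ≠ 0 := fun h => hg ⟨hb, hc, by linear_combination h⟩
      rw [hb] at x2 y2
      rw [hc] at x3 y3
      have hx2 : be x = 0 := by
        have : be x * (al g - de g) = 0 := by linear_combination -x2
        exact (mul_eq_zero.mp this).resolve_right hd
      have hy2 : be y = 0 := by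
        have : be y * (al g - de g) = 0 := by linear_combination -y2
        exact (mul_eq_zero.mp this).resolve_right hd
      have hx3 : ga x = 0 := by
        have : ga x * (al g - de g) = 0 := by linear_combination -x3
        exact (mul_eq_zero.mp this).resolve_right hd
      have hy3 : ga y = 0 := by
        have : ga y * (al g - de g) = 0 := by linear_combination -y3
        exact (mul_eq_zero.mp this).resolve_right hd
      simp [hx2, hy2, hx3, hy3]
    · have E1 : be x * ga y = be y * ga x := by
        apply mul_left_cancel₀ hc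
        linear_combination (ga y) * x1 - (ga x) * y1
      refine ⟨E1, mul_left_cancel₀ hc ?_, mul_left_cancel₀ hc ?_⟩
      · linear_combination (al x - de x) * y1 + (ga y) * x2 - (al y - de y) * x1 - (ga x) * y2 +
          (al g - de g) * E1
      · linear_combination (ga y) * x3 - (ga x) * y3
  · have E1 : be x * ga y = be y * ga x := by
      apply mul_left_cancel₀ hb
      linear_combination (be y) * x1 - (be x) * y1
    refine ⟨E1, mul_left_cancel₀ hb ?_, mul_left_cancel₀ hb ?_⟩
    · linear_combination (be y) * x2 - (be x) * y2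
    · linear_combination (be y) * x3 - (al x - de x) * y1 - (be x) * y3 + (al y - de y) * x1 -
        (al g - de g) * E1

theorem tr_sq_sub (g : S2 F) : tr g ^ 2 - 4 = (al g - de g) ^ 2 + 4 * (be g * ga g) := by
  have := det_eq g
  simp only [tr]
  linear_combination (4) * this

/-- an element of the centralizer of a semisimple `g` with the same trace is `g` or `g⁻¹` -/
theorem eq_or_eq_inv_of_comm (h2 : (2 : F) ≠ 0) {g g' : S2 F} (hc : g' * g = g * g')
    (ht : tr g' = tr g) (hs : tr g ^ 2 ≠ 4) : g' = g ∨ g' = g⁻¹ := by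
  rw [comm_iff] at hc
  obtain ⟨c1, c2, c3⟩ := hc
  have hD : (al g - de g) ^ 2 + 4 * (be g * ga g) ≠ 0 := by
    rw [← tr_sq_sub]; exact sub_ne_zero.mpr hs
  have hD' : (al g' - de g') ^ 2 + 4 * (be g' * ga g') = (al g - de g) ^ 2 + 4 * (be g * ga g) := by
    rw [← tr_sq_sub, ← tr_sq_sub, ht]
  have ht' : al g' + de g' = al g + de g := ht
  have he : (al g' - de g') ^ 2 = (al g - de g) ^ 2 := by
    apply mul_left_cancel₀ hD
    linear_combination (al g - de g) ^ 2 * hD' + 4 * (ga g * (al g' - de g')) * c2 +
      4 * (be g' * (al g - de g)) * c3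
  have he2 : (al g' - de g' - (al g - de g)) * (al g' - de g' + (al g - de g)) = 0 := by
    linear_combination he
  have half : ∀ u v : F, 2 * u = 2 * v → u = v := fun u v h => mul_left_cancel₀ h2 h
  by_cases e0 : al g - de g = 0
  · have e0' : al g' - de g' = 0 := by
      rw [e0] at he
      exact pow_eq_zero_iff (two_ne_zero) |>.mp (by rw [he]; ring)
    rw [e0] at hD hD'
    rw [e0'] at hD'
    have h4 : (4 : F) ≠ 0 := by
      have : (4 : F) = 2 * 2 := by norm_num
      rw [this]; exact mul_ne_zero h2 h2
    have hbc : be g * ga g ≠ 0 := by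
      intro h; apply hD; rw [h]; ring
    have hb : be g ≠ 0 := left_ne_zero_of_mul hbc
    have hcg : ga g ≠ 0 := right_ne_zero_of_mul hbc
    have hbc' : be g' * ga g' = be g * ga g := by
      apply mul_left_cancel₀ h4
      linear_combination hD'
    have hb2 : (be g' - be g) * (be g' + be g) = 0 := by
      apply mul_left_cancel₀ hcg
      linear_combination (be g') * c1 + (be g) * hbc'
    have ha : al g' = al g := half _ _ (by linear_combination ht' + e0' - e0)
    have hd : de g' = de g := half _ _ (by linear_combination ht' - e0' + e0)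
    rcases mul_eq_zero.mp hb2 with h | h
    · left
      have hb' : be g' = be g := by linear_combination h
      refine ext' ha hb' ?_ hd
      apply mul_left_cancel₀ hb
      rw [hb'] at c1
      linear_combination -c1
    · right
      have hb' : be g' = - be g := by linear_combination h
      apply ext'
      · rw [al_inv, ha]; linear_combination e0
      · rw [be_inv, hb']
      · rw [ga_inv]
        apply mul_left_cancel₀ hb
        rw [hb'] at c1
        linear_combination -c1
      · rw [de_inv, hd]; linear_combination -e0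
  · rcases mul_eq_zero.mp he2 with h | h
    · left
      have h' : al g' - de g' = al g - de g := by linear_combination h
      rw [h'] at c2 c3
      apply ext'
      · exact half _ _ (by linear_combination ht' + h')
      · exact (mul_right_cancel₀ e0 c2).symm
      · exact (mul_right_cancel₀ e0 c3).symm
      · exact half _ _ (by linear_combination ht' - h')
    · right
      have h' : al g' - de g' = -(al g - de g) := by linear_combination h
      rw [h'] at c2 c3
      apply ext'
      · rw [al_inv]; exact half _ _ (by linear_combination ht' + h')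
      · rw [be_inv]; apply mul_right_cancel₀ e0; linear_combination -c2
      · rw [ga_inv]; apply mul_right_cancel₀ e0; linear_combination -c3
      · rw [de_inv]; exact half _ _ (by linear_combination ht' - h')

/-- the Chebyshev-like sequence of a trace -/
def uu (t : F) : ℕ → F
  | 0 => 0
  | 1 => 1
  | (n + 2) => t * uu t (n + 1) - uu t n

theorem pow_entries (g : S2 F) (n : ℕ) :
    al (g ^ (n + 1)) = uu (tr g) (n + 1) * al g - uu (tr g) n ∧
    be (g ^ (n + 1)) = uu (tr g) (n + 1) * be g ∧
    ga (g ^ (n + 1)) = uu (tr g) (n + 1) * ga g ∧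
    de (g ^ (n + 1)) = uu (tr g) (n + 1) * de g - uu (tr g) n := by
  induction n with
  | zero => simp [uu]
  | succ n ih =>
    obtain ⟨i1, i2, i3, i4⟩ := ih
    have hd := det_eq g
    rw [pow_succ]
    simp only [al_mul, be_mul, ga_mul, de_mul, i1, i2, i3, i4, uu, tr]
    refine ⟨?_, ?_, ?_, ?_⟩
    · linear_combination (-uu (al g + de g) (n + 1)) * hd
    · ring
    · ring
    · linear_combination (-uu (al g + de g) (n + 1)) * hd

theorem uu_eq_zero_of_pow {g : S2 F} (hg : ¬ (g = 1 ∨ g = mone)) (n : ℕ)
    (h : g ^ (n + 1) = 1 ∨ g ^ (n + 1) = mone) : uu (tr g) (n + 1) = 0 := by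
  rw [eq_one_or_mone_iff] at h hg
  obtain ⟨i1, i2, i3, i4⟩ := pow_entries g n
  rw [i1, i2, i3, i4] at h
  by_contra hu
  apply hg
  obtain ⟨h1, h2, h3⟩ := h
  refine ⟨(mul_eq_zero.mp h1).resolve_left hu, (mul_eq_zero.mp h2).resolve_left hu, ?_⟩
  apply mul_left_cancel₀ hu
  linear_combination h3

theorem eq_one_or_mone_of_sq (h2 : (2 : F) ≠ 0) {g : S2 F} (h : g * g = 1) : g = 1 ∨ g = mone := by
  rw [eq_one_or_mone_iff]
  have h' : g = g⁻¹ := eq_inv_of_mul_eq_one_left h
  have e1 := congrArg al h'
  have e2 := congrArg be h'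
  have e3 := congrArg ga h'
  simp only [al_inv, be_inv, ga_inv] at e1 e2 e3
  refine ⟨?_, ?_, e1⟩
  · apply mul_left_cancel₀ h2; linear_combination e2
  · apply mul_left_cancel₀ h2; linear_combination e3

theorem tr_eq_zero_of_pow_four (h2 : (2 : F) ≠ 0) {g : S2 F} (hg : ¬ (g = 1 ∨ g = mone))
    (h : g ^ 4 = 1) : tr g = 0 := by
  have h1 : g ^ 2 = 1 ∨ g ^ 2 = mone := by
    apply eq_one_or_mone_of_sq h2
    rw [← pow_add]; exact h
  have := uu_eq_zero_of_pow hg 1 h1
  simpa [uu] using this

theorem tr_of_pow_ten (h2 : (2 : F) ≠ 0) {g : S2 F} (hg : ¬ (g = 1 ∨ g = mone))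
    (h : g ^ 10 = 1) : tr g ^ 4 - 3 * tr g ^ 2 + 1 = 0 := by
  have h1 : g ^ 5 = 1 ∨ g ^ 5 = mone := by
    apply eq_one_or_mone_of_sq h2
    rw [← pow_add]; exact h
  have := uu_eq_zero_of_pow hg 4 h1
  simp only [uu] at this
  linear_combination this

/-- powers of a unipotent element -/
theorem uu_two (n : ℕ) : uu (2 : F) n = n := by
  induction n using Nat.strong_induction_on with
  | _ n ih =>
    match n with
    | 0 => simp [uu]
    | 1 => simp [uu]
    | (m + 2) =>
      rw [uu, ih (m + 1) (by omega), ih m (by omega)]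
      push_cast; ring

theorem pow_char_of_tr_two {p : ℕ} [hp : Fact p.Prime] [CharP F p] {g : S2 F} (h : tr g = 2) :
    g ^ p = 1 := by
  obtain ⟨n, rfl⟩ : ∃ n, p = n + 1 := ⟨p - 1, by have := hp.out.pos; omega⟩
  obtain ⟨i1, i2, i3, i4⟩ := pow_entries g n
  simp only [h, uu_two] at i1 i2 i3 i4
  have h0 : ((n + 1 : ℕ) : F) = 0 := CharP.cast_eq_zero F (n + 1)
  have h1 : (n : F) = -1 := by
    push_cast at h0; linear_combination h0
  rw [h0, h1] at i1 i4
  rw [h0] at i2 i3
  apply ext' <;> simp [i1, i2, i3, i4]

theorem tr_mone_mul (g : S2 F) : tr (mone * g) = - tr g := by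
  simp [tr]; ring

theorem mone_pow_odd {n : ℕ} (hn : Odd n) : (mone : S2 F) ^ n = mone := by
  obtain ⟨k, rfl⟩ := hn
  rw [pow_succ, pow_mul, pow_two, mone_mul_mone, one_pow, one_mul]

theorem pow_char_of_tr_neg_two {p : ℕ} [hp : Fact p.Prime] [CharP F p] (hp2 : p ≠ 2) {g : S2 F}
    (h : tr g = -2) : g ^ p = mone := by
  have h1 : (mone * g) ^ p = 1 := pow_char_of_tr_two (by rw [tr_mone_mul, h]; ring)
  have hc : Commute (mone : S2 F) g := mone_comm g
  rw [hc.mul_pow, mone_pow_odd (hp.out.odd_of_ne_two hp2)] at h1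
  calc g ^ p = (mone * mone) * g ^ p := by rw [mone_mul_mone, one_mul]
    _ = mone * (mone * g ^ p) := by rw [mul_assoc]
    _ = mone := by rw [h1, mul_one]

/-- an element of `p`-power order has trace `2` -/
theorem tr_eq_two_of_pow {p : ℕ} [hp : Fact p.Prime] [CharP F p] {g : S2 F} (j : ℕ)
    (h : g ^ (p ^ j) = 1) : tr g = 2 := by
  have h1 : (g.1 - 1) ^ (p ^ j) = 0 := by
    rw [sub_pow_char_pow_of_commute p j (Commute.one_right _), one_pow, ← Matrix.SpecialLinearGroup.coe_pow, h]
    simp
  have h2 : IsNilpotent (g.1 - 1) := ⟨_, h1⟩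
  have h3 := Matrix.isNilpotent_trace_of_isNilpotent h2
  have h4 : (g.1 - 1).trace = 0 := h3.eq_zero
  rw [Matrix.trace_fin_two] at h4
  simp only [Matrix.sub_apply, Matrix.one_apply_eq] at h4
  simp only [tr, al, de]
  linear_combination h4

end Cfsg.Agent.Lib.Helper5.Dk
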