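import Mathlib
import Cfsg.Agent.Lib.Helper5.Dk1

set_option autoImplicit false
set_option linter.unusedSimpArgs false

/-! Generation of `SL₂(F_p)`. -/

namespace Cfsg.Agent.Lib.Helper5.Dk

variable {F : Type*} [Field F]

theorem mem_of_xx_yy (H : Subgroup (S2 F)) (hx : ∀ s, xx s ∈ H) (hy : ∀ t, yy t ∈ H) (g : S2 F) :
    g ∈ H := by
  have key : ∀ g : S2 F, ga g ≠ 0 → g ∈ H := by
    intro g hg
    have e : g = xx ((al g - 1) / ga g) * yy (ga g) * xx ((de g - 1) / ga g) := by
      have hd := det_eq g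
      apply ext' <;>
        simp only [al_mul, be_mul, ga_mul, de_mul, al_xx, be_xx, ga_xx, de_xx, al_yy, be_yy, ga_yy, de_yy]
      · field_simp; ring
      · field_simp; linear_combination -hd
      · ring
      · field_simp; ring
    rw [e]
    exact H.mul_mem (H.mul_mem (hx _) (hy _)) (hx _)
  by_cases hg : ga g = 0
  · have hal : al g ≠ 0 := by
      intro h0
      have hd := det_eq g
      rw [hg, h0] at hd
      simp at hd
    have h1 : yy 1 * g ∈ H := key _ (by simp [hg, hal])
    have h2 : g = (yy 1)⁻¹ * (yy 1 * g) := by group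
    rw [h2]
    exact H.mul_mem (H.inv_mem (hy 1)) h1
  · exact key g hg

theorem closure_zmod (p : ℕ) [hp : Fact p.Prime] {κ lam : ZMod p} (hκ : κ ≠ 0) (hlam : lam ≠ 0) :
    Subgroup.closure ({xx κ, yy lam} : Set (S2 (ZMod p))) = ⊤ := by
  rw [eq_top_iff]
  intro g _
  apply mem_of_xx_yy
  · intro s
    have h1 : xx κ ∈ Subgroup.closure ({xx κ, yy lam} : Set (S2 (ZMod p))) :=
      Subgroup.subset_closure (by simp)
    have h2 := pow_mem h1 (s / κ).val
    rw [xx_pow, ZMod.natCast_zmod_val] at h2
    have : s / κ * κ = s := by field_simp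
    rwa [this] at h2
  · intro s
    have h1 : yy lam ∈ Subgroup.closure ({xx κ, yy lam} : Set (S2 (ZMod p))) :=
      Subgroup.subset_closure (by simp)
    have h2 := pow_mem h1 (s / lam).val
    rw [yy_pow, ZMod.natCast_zmod_val] at h2
    have : s / lam * lam = s := by field_simp
    rwa [this] at h2

end Cfsg.Agent.Lib.Helper5.Dk
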