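import Mathlib

set_option autoImplicit false

/-! Counting unions of conjugates of TI subgroups (modulo a central subgroup). -/

namespace Cfsg.Agent.Lib.Helper5.Dk

variable {G : Type*} [Group G]

/-- union of the conjugates of `M \ Z` -/
def conjUnion (M Z : Subgroup G) : Set G := {w | ∃ x y, y ∈ M ∧ y ∉ Z ∧ w = x * y * x⁻¹}

theorem card_diff' [Finite G] (M Z : Subgroup G) (hZM : Z ≤ M) :
    Nat.card {y : G // y ∈ M ∧ y ∉ Z} = Nat.card M - Nat.card Z := by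
  have h1 : Nat.card {y : G // y ∈ M ∧ y ∉ Z} = ((M : Set G) \ (Z : Set G)).ncard := rfl
  rw [h1, Set.ncard_sdiff (by exact_mod_cast hZM)]
  rfl

theorem ti_count [Finite G] (M Z N : Subgroup G) (hZM : Z ≤ M)
    (hN : ∀ x ∈ N, ∀ y ∈ M, x⁻¹ * y * x ∈ M)
    (hZ : ∀ x y : G, x⁻¹ * y * x ∈ Z → y ∈ Z)
    (hTI : ∀ x y, y ∈ M → y ∉ Z → x * y * x⁻¹ ∈ M → x ∈ N) :
    (conjUnion M Z).ncard * Nat.card N = (Nat.card M - Nat.card Z) * Nat.card G := by
  classical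
  rw [← card_diff' M Z hZM, ← Nat.card_coe_set_eq, ← Nat.card_prod, ← Nat.card_prod]
  choose! xf yf h1 h2 h3 using (fun w (hw : w ∈ conjUnion M Z) => hw)
  apply Nat.card_congr
  refine Equiv.ofBijective
    (fun q : (conjUnion M Z) × N =>
      ((⟨(q.2 : G)⁻¹ * yf q.1 * q.2, hN _ q.2.2 _ (h1 _ q.1.2),
        fun h => h2 _ q.1.2 (hZ _ _ h)⟩ : {y : G // y ∈ M ∧ y ∉ Z}), xf q.1 * q.2)) ⟨?_, ?_⟩
  · rintro ⟨⟨w, hw⟩, ⟨ν, hν⟩⟩ ⟨⟨w', hw'⟩, ⟨ν', hν'⟩⟩ h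
    simp only [Prod.mk.injEq, Subtype.mk.injEq] at h
    obtain ⟨e1, e2⟩ := h
    have hww : w = w' := by
      rw [h3 w hw, h3 w' hw']
      calc xf w * yf w * (xf w)⁻¹ = (xf w * ν) * (ν⁻¹ * yf w * ν) * (xf w * ν)⁻¹ := by group
        _ = (xf w' * ν') * (ν'⁻¹ * yf w' * ν') * (xf w' * ν')⁻¹ := by rw [e1, e2]
        _ = xf w' * yf w' * (xf w')⁻¹ := by group
    subst hww
    have : ν = ν' := mul_left_cancel e2
    subst this
    rfl
  · rintro ⟨⟨y, hyM, hyZ⟩, x⟩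
    have hw : x * y * x⁻¹ ∈ conjUnion M Z := ⟨x, y, hyM, hyZ, rfl⟩
    have e := h3 _ hw
    have hν : (xf (x * y * x⁻¹))⁻¹ * x ∈ N := by
      apply hTI _ y hyM hyZ
      have : (xf (x * y * x⁻¹))⁻¹ * x * y * ((xf (x * y * x⁻¹))⁻¹ * x)⁻¹ =
          (xf (x * y * x⁻¹))⁻¹ * (x * y * x⁻¹) * xf (x * y * x⁻¹) := by group
      rw [this]
      nth_rewrite 2 [e]
      have : (xf (x * y * x⁻¹))⁻¹ * (xf (x * y * x⁻¹) * yf (x * y * x⁻¹) * (xf (x * y * x⁻¹))⁻¹) *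
          xf (x * y * x⁻¹) = yf (x * y * x⁻¹) := by group
      rw [this]
      exact h1 _ hw
    refine ⟨(⟨_, hw⟩, ⟨_, hν⟩), ?_⟩
    simp only [Prod.mk.injEq, Subtype.mk.injEq]
    constructor
    · have : yf (x * y * x⁻¹) = (xf (x * y * x⁻¹))⁻¹ * (x * y * x⁻¹) * xf (x * y * x⁻¹) := by
        nth_rewrite 3 [e]
        group
      rw [this]
      group
    · group

/-- the centralizer of an element -/
abbrev Cn (g : G) : Subgroup G := Subgroup.centralizer {g}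

theorem mem_Cn {g x : G} : x ∈ Cn g ↔ x * g = g * x := Subgroup.mem_centralizer_singleton_iff

/-- the class of `g`: union of conjugates of `C(g) \ Z`. -/
def cls (Z : Subgroup G) (g : G) : Set G := conjUnion (Cn g) Z

section CA

variable (Z : Subgroup G) (hZc : ∀ z ∈ Z, ∀ x : G, x * z = z * x)
  (hCA : ∀ g, g ∉ Z → ∀ x y : G, x * g = g * x → y * g = g * y → x * y = y * x)

include hZc in
theorem Z_le_Cn (g : G) : Z ≤ Cn g := fun z hz => by rw [mem_Cn]; exact (hZc z hz g).symm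

include hZc in
theorem conj_mem_Z {x y : G} (h : x⁻¹ * y * x ∈ Z) : y ∈ Z := by
  have h1 := hZc _ h x
  have h2 : y = x⁻¹ * y * x := by
    have : x * (x⁻¹ * y * x) = y * x := by group
    rw [this] at h1
    have h3 : y * x * x⁻¹ = x⁻¹ * y * x * x * x⁻¹ := by rw [h1]
    simpa [mul_assoc] using h3
  rw [h2]; exact h

include hCA in
theorem Cn_eq {g y : G} (hg : g ∉ Z) (hy : y ∈ Cn g) (hyZ : y ∉ Z) : Cn y = Cn g := by
  rw [mem_Cn] at hy
  ext x
  rw [mem_Cn, mem_Cn]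
  constructor
  · intro hx
    exact hCA y hyZ x g hx hy.symm
  · intro hx
    exact hCA g hg x y hx hy

theorem mem_Cn_conj {x h y : G} : x * h * x⁻¹ ∈ Cn (x * y * x⁻¹) ↔ h ∈ Cn y := by
  rw [mem_Cn, mem_Cn]
  constructor
  · intro e
    have : x⁻¹ * (x * h * x⁻¹ * (x * y * x⁻¹)) * x = x⁻¹ * (x * y * x⁻¹ * (x * h * x⁻¹)) * x := by rw [e]
    simpa [mul_assoc] using this
  · intro e
    calc x * h * x⁻¹ * (x * y * x⁻¹) = x * (h * y) * x⁻¹ := by group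
      _ = x * (y * h) * x⁻¹ := by rw [e]
      _ = _ := by group

include hZc hCA in
theorem cls_count [Finite G] {g : G} (hg : g ∉ Z) :
    (cls Z g).ncard * Nat.card (Subgroup.normalizer (Cn g : Set G)) =
      (Nat.card (Cn g) - Nat.card Z) * Nat.card G := by
  apply ti_count (Cn g) Z _ (Z_le_Cn Z hZc g)
  · intro x hx y hy
    have := (Subgroup.mem_normalizer_iff.mp (inv_mem hx) y).mp hy
    simpa using this
  · intro x y h
    exact conj_mem_Z Z hZc h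
  · intro x y hy hyZ hxy
    have hxyZ : x * y * x⁻¹ ∉ Z := fun h => hyZ (conj_mem_Z Z hZc (x := x⁻¹) (by simpa using h))
    have e1 := Cn_eq Z hCA hg hxy hxyZ
    have e2 := Cn_eq Z hCA hg hy hyZ
    rw [Subgroup.mem_normalizer_iff]
    intro h
    have h3 : x * h * x⁻¹ ∈ Cn g ↔ h ∈ Cn g := by
      conv_lhs => rw [← e1, mem_Cn_conj, e2]
    exact h3.symm

theorem mem_cls_self {g : G} (hg : g ∉ Z) : g ∈ cls Z g :=
  ⟨1, g, by rw [mem_Cn], hg, by simp⟩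

include hZc in
theorem not_mem_Z_of_mem_cls {g w : G} (hw : w ∈ cls Z g) : w ∉ Z := by
  obtain ⟨x, y, _, hyZ, rfl⟩ := hw
  exact fun h => hyZ (conj_mem_Z Z hZc (x := x⁻¹) (by simpa using h))

include hZc hCA in
theorem cls_eq_of_mem {g w : G} (hg : g ∉ Z) (hw : w ∈ cls Z g) : cls Z w = cls Z g := by
  have hwZ := not_mem_Z_of_mem_cls Z hZc hw
  obtain ⟨x, y, hy, hyZ, rfl⟩ := hw
  have e2 := Cn_eq Z hCA hg hy hyZ
  ext v
  constructor
  · rintro ⟨x', y', hy', hyZ', rfl⟩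
    refine ⟨x' * x, x⁻¹ * y' * x, ?_, fun h => hyZ' (conj_mem_Z Z hZc h), by group⟩
    rw [← e2, ← mem_Cn_conj (x := x)]
    have : x * (x⁻¹ * y' * x) * x⁻¹ = y' := by group
    rw [this]; exact hy'
  · rintro ⟨x', y', hy', hyZ', rfl⟩
    refine ⟨x' * x⁻¹, x * y' * x⁻¹, ?_,
      fun h => hyZ' (conj_mem_Z Z hZc (x := x⁻¹) (by simpa using h)), by group⟩
    rw [mem_Cn_conj, e2]; exact hy'

include hZc hCA in
theorem cls_disjoint {g g' : G} (hg : g ∉ Z) (hg' : g' ∉ Z) (h : g' ∉ cls Z g) :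
    Disjoint (cls Z g) (cls Z g') := by
  rw [Set.disjoint_left]
  intro w hw hw'
  apply h
  rw [← cls_eq_of_mem Z hZc hCA hg hw, cls_eq_of_mem Z hZc hCA hg' hw']
  exact mem_cls_self Z hg'

/-- elements of a class are killed by the order of the centralizer -/
theorem pow_card_of_mem_cls [Finite G] {g w : G} (hw : w ∈ cls Z g) : w ^ Nat.card (Cn g) = 1 := by
  obtain ⟨x, y, hy, _, rfl⟩ := hw
  have h1 : (⟨y, hy⟩ : Cn g) ^ Nat.card (Cn g) = 1 := pow_card_eq_one'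
  have h2 : y ^ Nat.card (Cn g) = 1 := congrArg Subtype.val h1
  rw [conj_pow, h2]; simp

end CA

end Cfsg.Agent.Lib.Helper5.Dk
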