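import Mathlib

set_option autoImplicit false

namespace Cfsg.Agent.Lib.Helper5

open MulAction

/-- `FixTrans G z`: the pointwise stabiliser of `z` is transitive on the complement of `z`. -/
def FixTrans (G : Type*) {α : Type*} [Group G] [MulAction G α] (z : Finset α) : Prop :=
  ∀ a b : α, a ∉ z → b ∉ z → ∃ g : G, (∀ x ∈ z, g • x = x) ∧ g • a = b

/-- If the pointwise stabiliser of every set of fewer than `k` points is transitive on the complement,
the action is `k`-transitive. -/
theorem multi_of_fixing {G α : Type*} [Group G] [MulAction G α] [DecidableEq α] (k : ℕ)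
    (h : ∀ z : Finset α, z.card < k → FixTrans G z) : IsMultiplyPretransitive G α k := by
  induction k with
  | zero => exact is_zero_pretransitive'
  | succ k ih =>
    have ih' := ih (fun z hz => h z (Nat.lt_succ_of_lt hz))
    refine ⟨fun x y => ?_⟩
    let x' : Fin k ↪ α := Fin.castSuccEmb.trans x
    let y' : Fin k ↪ α := Fin.castSuccEmb.trans y
    obtain ⟨g₁, hg₁⟩ := ih'.exists_smul_eq x' y'
    have hg₁' : ∀ i : Fin k, g₁ • x i.castSucc = y i.castSucc := fun i => DFunLike.congr_fun hg₁ i
    let z : Finset α := Finset.univ.map y'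
    have hz : z.card < k + 1 := by simp [z]
    have ha : g₁ • x (Fin.last k) ∉ z := by
      intro hmem
      obtain ⟨i, _, hi⟩ := Finset.mem_map.mp hmem
      have hi' : y i.castSucc = g₁ • x (Fin.last k) := hi
      rw [← hg₁' i] at hi'
      have := x.injective (MulAction.injective g₁ hi')
      exact (Fin.castSucc_lt_last i).ne this
    have hb : y (Fin.last k) ∉ z := by
      intro hmem
      obtain ⟨i, _, hi⟩ := Finset.mem_map.mp hmem
      have hi' : y i.castSucc = y (Fin.last k) := hi
      exact (Fin.castSucc_lt_last i).ne (y.injective hi')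
    obtain ⟨g₂, hg₂, hg₂'⟩ := h z hz _ _ ha hb
    refine ⟨g₂ * g₁, ?_⟩
    ext i
    show (g₂ * g₁) • x i = y i
    rw [mul_smul]
    rcases Fin.eq_castSucc_or_eq_last i with ⟨j, rfl⟩ | rfl
    · rw [hg₁' j]
      exact hg₂ _ (Finset.mem_map.mpr ⟨j, Finset.mem_univ _, rfl⟩)
    · exact hg₂'

/-- Downward propagation: if the pointwise stabilisers of all `m`-sets are transitive on the complements,
and `m + 2 ≤ n`, the same holds for all smaller sets. -/
theorem fixTrans_down {G α : Type*} [Group G] [MulAction G α] [Fintype α] [DecidableEq α] (m : ℕ)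
    (hm : m + 2 ≤ Fintype.card α)
    (h : ∀ z : Finset α, z.card = m → FixTrans G z) : ∀ z : Finset α, z.card ≤ m → FixTrans G z := by
  have key : ∀ d : ℕ, ∀ z : Finset α, z.card + d = m → FixTrans G z := by
    intro d
    induction d with
    | zero => intro z hz; exact h z hz
    | succ d ih =>
      intro z hz a b ha hb
      by_cases hab : a = b
      · exact ⟨1, fun x _ => one_smul _ x, by rw [one_smul, hab]⟩
      have hcard : (insert a (insert b z)).card < Fintype.card α := by
        have h1 := Finset.card_insert_le a (insert b z)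
        have h2 := Finset.card_insert_le b z
        omega
      obtain ⟨c, hc⟩ : ∃ c, c ∉ insert a (insert b z) := by
        by_contra hcon
        push Not at hcon
        have : insert a (insert b z) = Finset.univ := Finset.eq_univ_iff_forall.mpr hcon
        rw [this, Finset.card_univ] at hcard
        exact lt_irrefl _ hcard
      simp only [Finset.mem_insert, not_or] at hc
      have hcz : (insert c z).card + d = m := by
        rw [Finset.card_insert_of_notMem hc.2.2]; omega
      obtain ⟨g, hg, hg'⟩ := ih (insert c z) hcz a b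
        (by simp only [Finset.mem_insert, not_or]; exact ⟨fun h => hc.1 h.symm, ha⟩)
        (by simp only [Finset.mem_insert, not_or]; exact ⟨fun h => hc.2.1 h.symm, hb⟩)
      exact ⟨g, fun x hx => hg x (Finset.mem_insert_of_mem hx), hg'⟩
  intro z hz
  exact key (m - z.card) z (by omega)

/-- A `p`-group acting on a finite set, `O` an invariant subset: `|O| ≡ |O ∩ Fix|` mod `p`. -/
theorem ncard_modEq_inter_fixed {P α : Type*} [Group P] [MulAction P α] [Finite α] {p : ℕ} [Fact p.Prime]
    (hP : IsPGroup p P) (O : Set α) (hO : ∀ g : P, ∀ x ∈ O, g • x ∈ O) :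
    O.ncard ≡ (O ∩ fixedPoints P α).ncard [MOD p] := by
  let O' : SubMulAction P α := { carrier := O, smul_mem' := fun g x hx => hO g x hx }
  have h1 := hP.card_modEq_card_fixedPoints O'
  have h2 : Nat.card O' = O.ncard := rfl
  have h3 : Nat.card (fixedPoints P O') = (O ∩ fixedPoints P α).ncard := by
    rw [← Nat.card_coe_set_eq]
    apply Nat.card_congr
    exact
      { toFun := fun x => ⟨x.1.1, x.1.2, fun g => congrArg Subtype.val (x.2 g)⟩
        invFun := fun x => ⟨⟨x.1, x.2.1⟩, fun g => Subtype.ext (x.2.2 g)⟩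
        left_inv := fun x => rfl
        right_inv := fun x => rfl }
  rw [h2, h3] at h1
  exact h1

/-- `O` invariant, all orbits in `O` of length divisible by `c`: `c ∣ |O|`. -/
theorem dvd_ncard_of_invariant {H α : Type*} [Group H] [MulAction H α] [Finite α] (c : ℕ)
    (O : Set α) (hO : ∀ g : H, ∀ x ∈ O, g • x ∈ O) (h : ∀ x ∈ O, c ∣ (orbit H x).ncard) :
    c ∣ O.ncard := by
  classical
  let O' : SubMulAction H α := { carrier := O, smul_mem' := fun g x hx => hO g x hx }
  have h2 : Nat.card O' = O.ncard := rfl
  rw [← h2]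
  haveI : Fintype (orbitRel.Quotient H O') := Fintype.ofFinite _
  rw [Nat.card_congr (selfEquivSigmaOrbits H O'), Nat.card_sigma]
  apply Finset.dvd_sum
  intro q _
  have h3 := h q.out.1 q.out.2
  have h4 : Nat.card (orbit H q.out) = (orbit H q.out.1).ncard := by
    rw [← Nat.card_coe_set_eq]
    apply Nat.card_congr
    refine Equiv.ofBijective (fun y => ⟨y.1.1, ?_⟩) ⟨?_, ?_⟩
    · obtain ⟨g, hg⟩ := y.2
      exact ⟨g, by rw [← hg]; rfl⟩
    · intro y y' hyy
      have h5 : y.1.1 = y'.1.1 := (Subtype.mk.injEq _ _ _ _).mp hyy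
      exact Subtype.ext (Subtype.ext h5)
    · rintro ⟨_, g, rfl⟩
      exact ⟨⟨g • q.out, g, rfl⟩, rfl⟩
  rw [h4]
  exact h3

/-- Orbit-stabiliser for pointwise stabilisers. -/
theorem ncard_orbit_fixing_mul {G α : Type*} [Group G] [MulAction G α] [DecidableEq α]
    (z : Finset α) (c : α) :
    (orbit (fixingSubgroup G (z : Set α)) c).ncard *
      Nat.card (fixingSubgroup G ((insert c z : Finset α) : Set α)) =
      Nat.card (fixingSubgroup G (z : Set α)) := by
  rw [← index_stabilizer, mul_comm]
  have h1 : Nat.card (fixingSubgroup G ((insert c z : Finset α) : Set α)) =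
      Nat.card (stabilizer (fixingSubgroup G (z : Set α)) c) := by
    apply Nat.card_congr
    exact
      { toFun := fun g => ⟨⟨g.1, by
            rw [mem_fixingSubgroup_iff]
            intro y hy
            exact (mem_fixingSubgroup_iff G).mp g.2 y (by
              rw [Finset.coe_insert]; exact Set.mem_insert_of_mem _ hy)⟩, by
            rw [mem_stabilizer_iff]
            exact (mem_fixingSubgroup_iff G).mp g.2 c (by
              rw [Finset.coe_insert]; exact Set.mem_insert _ _)⟩
        invFun := fun g => ⟨g.1.1, by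
            rw [mem_fixingSubgroup_iff]
            intro y hy
            rw [Finset.coe_insert] at hy
            rcases hy with rfl | hy
            · exact g.2
            · exact (mem_fixingSubgroup_iff G).mp g.1.2 y hy⟩
        left_inv := fun g => rfl
        right_inv := fun g => rfl }
  rw [h1]
  exact Subgroup.card_mul_index _

/-- Converse of `multi_of_fixing`. -/
theorem fixTrans_of_multi {G α : Type*} [Group G] [MulAction G α] [Finite α] (k : ℕ)
    (hk : k ≤ Nat.card α) (h : IsMultiplyPretransitive G α k) (z : Finset α) (hz : z.card < k) :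
    FixTrans G z := by
  intro a b ha hb
  haveI : IsMultiplyPretransitive G α (z.card + 1) := isMultiplyPretransitive_of_le (n := k) hz hk
  let e : Fin z.card ↪ α := z.equivFin.symm.toEmbedding.trans (Function.Embedding.subtype _)
  have he : ∀ c, c ∉ z → c ∉ Set.range e := by
    rintro c hc ⟨i, rfl⟩
    exact hc (z.equivFin.symm i).2
  obtain ⟨g, hg⟩ := exists_smul_eq G (Fin.Embedding.snoc e (he a ha)) (Fin.Embedding.snoc e (he b hb))
  refine ⟨g, ?_, ?_⟩
  · intro x hx
    have h1 := DFunLike.congr_fun hg (z.equivFin ⟨x, hx⟩).castSucc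
    have h2 : g • (Fin.Embedding.snoc e (he a ha)) (z.equivFin ⟨x, hx⟩).castSucc =
      (Fin.Embedding.snoc e (he b hb)) (z.equivFin ⟨x, hx⟩).castSucc := h1
    rw [Fin.Embedding.snoc_castSucc, Fin.Embedding.snoc_castSucc] at h2
    have h3 : e (z.equivFin ⟨x, hx⟩) = x := by
      show ((z.equivFin.symm (z.equivFin ⟨x, hx⟩) : z) : α) = x
      rw [Equiv.symm_apply_apply]
    rwa [h3] at h2
  · have h1 := DFunLike.congr_fun hg (Fin.last _)
    have h2 : g • (Fin.Embedding.snoc e (he a ha)) (Fin.last _) =
      (Fin.Embedding.snoc e (he b hb)) (Fin.last _) := h1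
    rwa [Fin.Embedding.snoc_last, Fin.Embedding.snoc_last] at h2

/-- A `k`-transitive action is transitive on `k`-subsets. -/
theorem exists_smul_mem_of_multi {G α : Type*} [Group G] [MulAction G α] (k : ℕ)
    (h : IsMultiplyPretransitive G α k) (z s : Finset α) (hz : z.card = k) (hs : s.card = k) :
    ∃ g : G, ∀ x, x ∈ z ↔ g • x ∈ s := by
  subst hz
  let e : Fin z.card ↪ α := z.equivFin.symm.toEmbedding.trans (Function.Embedding.subtype _)
  let e' : Fin z.card ↪ α := (s.equivFinOfCardEq hs).symm.toEmbedding.trans (Function.Embedding.subtype _)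
  obtain ⟨g, hg⟩ := h.exists_smul_eq e e'
  refine ⟨g, fun x => ⟨fun hx => ?_, fun hx => ?_⟩⟩
  · have h1 : g • e (z.equivFin ⟨x, hx⟩) = e' (z.equivFin ⟨x, hx⟩) := DFunLike.congr_fun hg _
    have h3 : e (z.equivFin ⟨x, hx⟩) = x := by
      show ((z.equivFin.symm (z.equivFin ⟨x, hx⟩) : z) : α) = x
      rw [Equiv.symm_apply_apply]
    rw [h3] at h1
    rw [h1]
    exact ((s.equivFinOfCardEq hs).symm _).2
  · have h1 : g • e (s.equivFinOfCardEq hs ⟨g • x, hx⟩) = e' (s.equivFinOfCardEq hs ⟨g • x, hx⟩) :=
      DFunLike.congr_fun hg _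
    have h3 : e' (s.equivFinOfCardEq hs ⟨g • x, hx⟩) = g • x := by
      show (((s.equivFinOfCardEq hs).symm (s.equivFinOfCardEq hs ⟨g • x, hx⟩) : s) : α) = g • x
      rw [Equiv.symm_apply_apply]
    rw [h3] at h1
    rw [← MulAction.injective g h1]
    exact (z.equivFin.symm _).2

end Cfsg.Agent.Lib.Helper5
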