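import Mathlib
import Cfsg.Agent.Lib.Helper5.Dk1
import Cfsg.Agent.Lib.Helper5.Dk2
import Cfsg.Agent.Lib.Helper5.MultiTrans
import Cfsg.Agent.Lib.Helper4.Basic

set_option autoImplicit false

/-! Structure of a finite subgroup of `SL₂(F)` containing a transvection. -/

namespace Cfsg.Agent.Lib.Helper5.Dk

variable {F : Type*} [Field F]

def Zs : Subgroup (S2 F) where
  carrier := {g | g = 1 ∨ g = mone}
  mul_mem' := by
    rintro a b (rfl | rfl) (rfl | rfl)
    · left; simp
    · right; simp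
    · right; simp
    · left; exact mone_mul_mone
  one_mem' := Or.inl rfl
  inv_mem' := by
    rintro a (rfl | rfl)
    · left; simp
    · right; exact inv_eq_of_mul_eq_one_left mone_mul_mone

def Bs : Subgroup (S2 F) where
  carrier := {g | ga g = 0}
  mul_mem' := by
    intro a b (ha : ga a = 0) (hb : ga b = 0)
    show ga (a * b) = 0
    simp [ha, hb]
  one_mem' := by show ga (1 : S2 F) = 0; simp
  inv_mem' := by
    intro a (ha : ga a = 0)
    show ga a⁻¹ = 0
    simp [ha]

theorem de_eq_one {g : S2 F} (h1 : ga g = 0) (h2 : al g = 1) : de g = 1 := by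
  have := det_eq g
  rw [h1, h2] at this
  linear_combination this

def Us : Subgroup (S2 F) where
  carrier := {g | ga g = 0 ∧ al g = 1}
  mul_mem' := by
    rintro a b ⟨ha, ha'⟩ ⟨hb, hb'⟩
    show ga (a * b) = 0 ∧ al (a * b) = 1
    simp [ha, hb, ha', hb']
  one_mem' := by show ga (1 : S2 F) = 0 ∧ al (1 : S2 F) = 1; simp
  inv_mem' := by
    rintro a ⟨ha, ha'⟩
    show ga a⁻¹ = 0 ∧ al a⁻¹ = 1
    simp [ha, de_eq_one ha ha']

theorem mem_Zs {g : S2 F} : g ∈ (Zs : Subgroup (S2 F)) ↔ (g = 1 ∨ g = mone) := Iff.rfl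
theorem mem_Bs {g : S2 F} : g ∈ (Bs : Subgroup (S2 F)) ↔ ga g = 0 := Iff.rfl
theorem mem_Us {g : S2 F} : g ∈ (Us : Subgroup (S2 F)) ↔ (ga g = 0 ∧ al g = 1) := Iff.rfl

theorem eq_xx_of_mem_Us {g : S2 F} (h : g ∈ (Us : Subgroup (S2 F))) : g = xx (be g) := by
  apply ext' <;> simp [h.1, h.2, de_eq_one h.1 h.2]

theorem xx_mem_Us (s : F) : xx s ∈ (Us : Subgroup (S2 F)) := by rw [mem_Us]; simp

variable (K : Subgroup (S2 F))

abbrev ZK : Subgroup K := (Zs : Subgroup (S2 F)).subgroupOf K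
abbrev BK : Subgroup K := (Bs : Subgroup (S2 F)).subgroupOf K
abbrev UK : Subgroup K := (Us : Subgroup (S2 F)).subgroupOf K

theorem mem_ZK {g : K} : g ∈ ZK K ↔ ((g : S2 F) = 1 ∨ (g : S2 F) = mone) := Iff.rfl
theorem mem_BK {g : K} : g ∈ BK K ↔ ga (g : S2 F) = 0 := Iff.rfl
theorem mem_UK {g : K} : g ∈ UK K ↔ (ga (g : S2 F) = 0 ∧ al (g : S2 F) = 1) := Iff.rfl

theorem hZc : ∀ z ∈ ZK K, ∀ x : K, x * z = z * x := by
  intro z hz x
  apply Subtype.ext
  rw [Subgroup.coe_mul, Subgroup.coe_mul]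
  rcases (mem_ZK K).mp hz with h | h
  · rw [h]; simp
  · rw [h]; exact (mone_comm _).symm

theorem hCA : ∀ g, g ∉ ZK K → ∀ x y : K, x * g = g * x → y * g = g * y → x * y = y * x := by
  intro g hg x y hx hy
  apply Subtype.ext
  rw [Subgroup.coe_mul, Subgroup.coe_mul]
  exact comm_of_comm (g := (g : S2 F)) hg (congrArg Subtype.val hx) (congrArg Subtype.val hy)

theorem UK_le_BK : UK K ≤ BK K := fun _ h => h.1
theorem ZK_le_BK : ZK K ≤ BK K := by
  intro g hg
  rw [mem_BK]
  rcases (mem_ZK K).mp hg with h | h <;> rw [h] <;> simp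

section main

variable {p : ℕ} [hpF : Fact p.Prime] [CharP F p] (hp2 : p ≠ 2) {a₀ : F} (ha₀ : a₀ ≠ 0)
  (hx : xx a₀ ∈ K)

include hpF hp2 in
theorem two_ne_zero' : (2 : F) ≠ 0 := by
  intro h
  have h1 : ((2 : ℕ) : F) = 0 := by exact_mod_cast h
  rw [CharP.cast_eq_zero_iff F p] at h1
  exact hp2 ((Nat.prime_dvd_prime_iff_eq hpF.out Nat.prime_two).mp h1)

include ha₀ in
theorem mem_Cn_x {g : K} : g ∈ Cn (⟨xx a₀, hx⟩ : K) ↔
    (ga (g : S2 F) = 0 ∧ al (g : S2 F) = de (g : S2 F)) := by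
  rw [mem_Cn]
  have : g * (⟨xx a₀, hx⟩ : K) = ⟨xx a₀, hx⟩ * g ↔ (g : S2 F) * xx a₀ = xx a₀ * g :=
    ⟨fun h => congrArg Subtype.val h, fun h => Subtype.ext h⟩
  rw [this, comm_iff]
  simp only [ga_xx, be_xx, al_xx, de_xx, mul_zero, sub_self, zero_mul]
  constructor
  · rintro ⟨h1, h2, -⟩
    have h1' : ga (g : S2 F) = 0 := (mul_eq_zero.mp h1.symm).resolve_left ha₀
    have h2' := (mul_eq_zero.mp h2).resolve_left ha₀
    exact ⟨h1', by linear_combination h2'⟩
  · rintro ⟨h1, h2⟩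
    rw [h1, h2]; simp

theorem al_sq_of_mem {g : S2 F} (h1 : ga g = 0) (h2 : al g = de g) : al g = 1 ∨ al g = -1 := by
  have := det_eq g
  rw [h1, ← h2] at this
  have h4 : (al g - 1) * (al g + 1) = 0 := by linear_combination this
  rcases mul_eq_zero.mp h4 with h5 | h5
  · left; linear_combination h5
  · right; linear_combination h5

include hp2 in
/-- if `K` contains an element of trace `-2` it contains `-1`. -/
theorem mone_mem_of_tr {g : S2 F} (hg : g ∈ K) (h : tr g = -2) : mone ∈ K := by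
  rw [← pow_char_of_tr_neg_two (p := p) hp2 h]
  exact pow_mem hg p

include ha₀ hp2 in
theorem Cn_x_eq : Cn (⟨xx a₀, hx⟩ : K) = ZK K ⊔ UK K := by
  apply le_antisymm
  · intro g hg
    rw [mem_Cn_x K ha₀ hx] at hg
    rcases al_sq_of_mem hg.1 hg.2 with h | h
    · exact Subgroup.mem_sup_right ⟨hg.1, h⟩
    · have hm : (mone : S2 F) ∈ K := by
        apply mone_mem_of_tr K hp2 g.2
        rw [tr, ← hg.2, h]; ring
      have e : g = (⟨mone, hm⟩ : K) * (⟨mone, hm⟩ * g) := by
        apply Subtype.ext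
        simp only [Subgroup.coe_mul]
        rw [← mul_assoc, mone_mul_mone, one_mul]
      rw [e]
      apply Subgroup.mul_mem_sup
      · right; rfl
      · rw [mem_UK]
        simp [hg.1, h]
  · apply sup_le
    · exact Z_le_Cn _ (hZc K) _
    · intro g hg
      rw [mem_Cn_x K ha₀ hx]
      rw [mem_UK] at hg
      exact ⟨hg.1, by rw [hg.2, de_eq_one hg.1 hg.2]⟩

include hp2 hpF in
theorem ZK_inf_UK : ZK K ⊓ UK K = ⊥ := by
  rw [eq_bot_iff]
  rintro g ⟨h1, h2⟩
  rw [Subgroup.mem_bot]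
  apply Subtype.ext
  rcases (mem_ZK K).mp h1 with h | h
  · exact h
  · exfalso
    have h3 : al (g : S2 F) = 1 := ((mem_UK K).mp h2).2
    rw [h] at h3
    simp only [al_mone] at h3
    apply two_ne_zero' (F := F) hp2
    linear_combination -h3

include ha₀ hp2 in
theorem card_Cn_x : Nat.card (Cn (⟨xx a₀, hx⟩ : K)) = Nat.card (ZK K) * Nat.card (UK K) := by
  have h := Cfsg.Agent.Lib.Helper4.card_mul_card_eq_of_le_normalizer (ZK K) (UK K) (by
    intro z hz
    rw [Subgroup.mem_normalizer_iff]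
    intro u
    have : z * u * z⁻¹ = u := by rw [← hZc K z hz u]; group
    rw [this])
  rw [ZK_inf_UK K hp2, Subgroup.card_bot, mul_one] at h
  rw [Cn_x_eq K hp2 ha₀ hx, h]

include ha₀ in
theorem normalizer_Cn_x : Subgroup.normalizer (Cn (⟨xx a₀, hx⟩ : K) : Set K) = BK K := by
  ext ν
  rw [Subgroup.mem_normalizer_iff, mem_BK]
  constructor
  · intro h
    have h1 := (h ⟨xx a₀, hx⟩).mp (by rw [mem_Cn])
    rw [mem_Cn_x K ha₀ hx] at h1
    have h2 := h1.1
    simp only [Subgroup.coe_mul, Subgroup.coe_inv, ga_mul, de_mul, al_inv, ga_inv, al_xx, ga_xx,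
      be_xx, de_xx] at h2
    have h3 : a₀ * (ga (ν : S2 F) * ga (ν : S2 F)) = 0 := by linear_combination -h2
    have h4 := (mul_eq_zero.mp h3).resolve_left ha₀
    exact mul_self_eq_zero.mp h4
  · intro hν g
    rw [mem_Cn_x K ha₀ hx, mem_Cn_x K ha₀ hx]
    have hd := det_eq (ν : S2 F)
    rw [hν] at hd
    have hde : de (ν : S2 F) ≠ 0 := by
      intro h0; rw [h0] at hd; simp at hd
    simp only [Subgroup.coe_mul, Subgroup.coe_inv, ga_mul, de_mul, al_mul, be_mul, al_inv, ga_inv,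
      be_inv, de_inv, hν]
    constructor
    · rintro ⟨h1, h2⟩
      rw [h1, h2]
      refine ⟨by ring, by ring⟩
    · rintro ⟨h1, h2⟩
      have h3 : de (ν : S2 F) * de (ν : S2 F) * ga (g : S2 F) = 0 := by linear_combination h1
      have h4 : ga (g : S2 F) = 0 := (mul_eq_zero.mp h3).resolve_left (mul_ne_zero hde hde)
      rw [h4] at h2
      refine ⟨h4, ?_⟩
      linear_combination h2 - (al (g : S2 F) - de (g : S2 F)) * hd

theorem ga_conj_xx (g : S2 F) (s : F) : ga (g⁻¹ * xx s * g) = - s * (ga g * ga g) := by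
  simp only [ga_mul, de_mul, al_inv, ga_inv, be_inv, de_inv, al_xx, ga_xx, be_xx, de_xx]
  ring

variable [Finite K]

theorem index_BK : ∃ j, (BK K).index = 1 + Nat.card (UK K) * j := by
  classical
  have key := dvd_ncard_of_invariant (H := UK K) (α := K ⧸ BK K) (Nat.card (UK K))
    ({(QuotientGroup.mk (1 : K) : K ⧸ BK K)}ᶜ) ?_ ?_
  · obtain ⟨j, hj⟩ := key
    refine ⟨j, ?_⟩
    rw [Set.ncard_compl, Set.ncard_singleton] at hj
    have h1 : 0 < Nat.card (K ⧸ BK K) := Nat.card_pos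
    unfold Subgroup.index
    omega
  · intro u q hq hcon
    apply hq
    rw [Set.mem_singleton_iff] at hcon ⊢
    have h1 : q = u⁻¹ • (QuotientGroup.mk (1 : K) : K ⧸ BK K) := by rw [← hcon, inv_smul_smul]
    rw [h1]
    have h2 : u⁻¹ • (QuotientGroup.mk (1 : K) : K ⧸ BK K) = QuotientGroup.mk ((u⁻¹ : UK K) * 1 : K) := rfl
    rw [h2, QuotientGroup.eq]
    have : (((u⁻¹ : UK K) : K) * 1)⁻¹ * 1 = (u : K) := by simp
    rw [this]
    exact UK_le_BK K u.2
  · intro q hq
    rw [← MulAction.index_stabilizer]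
    have hst : MulAction.stabilizer (UK K) q = ⊥ := by
      rw [eq_bot_iff]
      intro u hu
      rw [MulAction.mem_stabilizer_iff] at hu
      induction q using QuotientGroup.induction_on with
      | H g =>
        have h2 : u • (QuotientGroup.mk g : K ⧸ BK K) = QuotientGroup.mk ((u : K) * g) := rfl
        rw [h2, eq_comm, QuotientGroup.eq, mem_BK] at hu
        have hgB : ga (g : S2 F) ≠ 0 := by
          intro h0
          apply hq
          rw [Set.mem_singleton_iff, QuotientGroup.eq, mem_BK]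
          simpa using h0
        have hu' := eq_xx_of_mem_Us u.2
        have e : ((g⁻¹ * ((u : K) * g) : K) : S2 F) = (g : S2 F)⁻¹ * xx (be ((u : K) : S2 F)) * g := by
          simp only [Subgroup.coe_mul, Subgroup.coe_inv]
          rw [mul_assoc]
          congr 2
        rw [e, ga_conj_xx] at hu
        have h3 : be ((u : K) : S2 F) = 0 := by
          rcases mul_eq_zero.mp hu with h | h
          · simpa using h
          · exact absurd (mul_self_eq_zero.mp h) hgB
        rw [Subgroup.mem_bot]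
        apply Subtype.ext
        apply Subtype.ext
        show ((u : K) : S2 F) = 1
        have hu'' : ((u : K) : S2 F) = xx (be ((u : K) : S2 F)) := hu'
        rw [hu'', h3, xx_zero]
    rw [hst, Subgroup.index_bot]

end main

end Cfsg.Agent.Lib.Helper5.Dk
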