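import Mathlib
import Cfsg.Agent.Lib.Helper5.Dk3

set_option autoImplicit false

namespace Cfsg.Agent.Lib.Helper5.Dk

variable {F : Type*} [Field F] (K : Subgroup (S2 F))

section main

variable {p : ℕ} [hpF : Fact p.Prime] [CharP F p] (hp2 : p ≠ 2) {a₀ : F} (ha₀ : a₀ ≠ 0)
  (hx : xx a₀ ∈ K)

theorem conj_mem_UK {b u : K} (hb : b ∈ BK K) (hu : u ∈ UK K) : b * u * b⁻¹ ∈ UK K := by
  rw [mem_BK] at hb
  rw [mem_UK] at hu ⊢
  have hd := det_eq (b : S2 F)
  rw [hb] at hd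
  simp only [Subgroup.coe_mul, Subgroup.coe_inv, ga_mul, de_mul, al_mul, be_mul, al_inv, ga_inv,
      be_inv, de_inv, hb, hu.1, hu.2]
  refine ⟨by ring, by linear_combination hd⟩

variable [Finite K]

include ha₀ in
/-- `|B : C(x)| ≤ |U| - 1`. -/
theorem relIndex_le : (Cn (⟨xx a₀, hx⟩ : K)).relIndex (BK K) ≤ Nat.card (UK K) - 1 := by
  classical
  have hcard := card_diff' (UK K) ⊥ bot_le
  rw [Subgroup.card_bot] at hcard
  rw [← hcard]
  unfold Subgroup.relIndex Subgroup.index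
  have hxU : (⟨xx a₀, hx⟩ : K) ∈ UK K := xx_mem_Us a₀
  have hx1 : (⟨xx a₀, hx⟩ : K) ≠ 1 := by
    intro h
    have h1 : xx a₀ = (1 : S2 F) := congrArg Subtype.val h
    have h2 := congrArg be h1
    simp at h2
    exact ha₀ h2
  let f : BK K → {y : K // y ∈ UK K ∧ y ∉ (⊥ : Subgroup K)} := fun b =>
    ⟨(b : K) * ⟨xx a₀, hx⟩ * (b : K)⁻¹, conj_mem_UK K b.2 hxU, by
      rw [Subgroup.mem_bot]
      intro h
      apply hx1
      have : (⟨xx a₀, hx⟩ : K) = (b : K)⁻¹ * ((b : K) * ⟨xx a₀, hx⟩ * (b : K)⁻¹) * (b : K) := by group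
      rw [this, h]; group⟩
  have hf : ∀ b b' : BK K, f b = f b' ↔
      b⁻¹ * b' ∈ (Cn (⟨xx a₀, hx⟩ : K)).subgroupOf (BK K) := by
    intro b b'
    rw [Subgroup.mem_subgroupOf, mem_Cn]
    simp only [f, Subtype.mk.injEq, Subgroup.coe_mul, Subgroup.coe_inv]
    constructor
    · intro h
      have h1 : (b : K)⁻¹ * ((b : K) * ⟨xx a₀, hx⟩ * (b : K)⁻¹) * (b' : K) =
        (b : K)⁻¹ * ((b' : K) * ⟨xx a₀, hx⟩ * (b' : K)⁻¹) * (b' : K) := by rw [h]
      have h2 : (b : K)⁻¹ * ((b : K) * ⟨xx a₀, hx⟩ * (b : K)⁻¹) * (b' : K) =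
        ⟨xx a₀, hx⟩ * ((b : K)⁻¹ * b') := by group
      have h3 : (b : K)⁻¹ * ((b' : K) * ⟨xx a₀, hx⟩ * (b' : K)⁻¹) * (b' : K) =
        (b : K)⁻¹ * b' * ⟨xx a₀, hx⟩ := by group
      rw [h2, h3] at h1
      exact h1.symm
    · intro h
      have h1 : (b : K) * ((b : K)⁻¹ * b' * ⟨xx a₀, hx⟩) * (b' : K)⁻¹ =
        (b : K) * (⟨xx a₀, hx⟩ * ((b : K)⁻¹ * b')) * (b' : K)⁻¹ := by rw [h]
      have h2 : (b : K) * ((b : K)⁻¹ * b' * ⟨xx a₀, hx⟩) * (b' : K)⁻¹ =
        (b' : K) * ⟨xx a₀, hx⟩ * (b' : K)⁻¹ := by group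
      have h3 : (b : K) * (⟨xx a₀, hx⟩ * ((b : K)⁻¹ * b')) * (b' : K)⁻¹ =
        (b : K) * ⟨xx a₀, hx⟩ * (b : K)⁻¹ := by group
      rw [h2, h3] at h1
      exact h1.symm
  apply Nat.card_le_card_of_injective
    (Quotient.lift f (fun b b' h => (hf b b').mpr (QuotientGroup.leftRel_apply.mp h)))
  intro q q'
  induction q using QuotientGroup.induction_on with
  | H b =>
    induction q' using QuotientGroup.induction_on with
    | H b' =>
      intro h
      exact QuotientGroup.eq.mpr ((hf b b').mp h)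

theorem tr_mul_xx (g : S2 F) (s : F) : tr (g * xx s) = tr g + s * ga g := by
  simp only [tr, al_mul, de_mul, al_xx, ga_xx, be_xx, de_xx]; ring

omit [Finite K] in
theorem isPGroup_UK : IsPGroup p (UK K) := by
  intro u
  refine ⟨1, ?_⟩
  apply Subtype.ext
  apply Subtype.ext
  rw [pow_one]
  show ((u : K) : S2 F) ^ p = 1
  apply pow_char_of_tr_two
  have h := (mem_UK K).mp u.2
  rw [tr, h.2, de_eq_one h.1 h.2]; norm_num

omit [Finite K] in
include ha₀ hx in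
/-- a `p`-subgroup containing `x` consists of upper unitriangular matrices -/
theorem le_UK_of_isPGroup (P : Subgroup K) (hP : IsPGroup p P) (hxP : (⟨xx a₀, hx⟩ : K) ∈ P) :
    P ≤ UK K := by
  have htr : ∀ s ∈ P, tr ((s : K) : S2 F) = 2 := by
    intro s hs
    obtain ⟨j, hj⟩ := hP ⟨s, hs⟩
    apply tr_eq_two_of_pow (p := p) j
    have := congrArg (fun z : P => ((z : K) : S2 F)) hj
    simpa using this
  intro s hs
  have h1 := htr s hs
  have h2 := htr _ (P.mul_mem hs hxP)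
  rw [Subgroup.coe_mul, tr_mul_xx, h1] at h2
  have h3 : ga (s : S2 F) = 0 := by
    have : a₀ * ga (s : S2 F) = 0 := by linear_combination h2
    exact (mul_eq_zero.mp this).resolve_left ha₀
  rw [mem_UK]
  refine ⟨h3, ?_⟩
  have hd := det_eq (s : S2 F)
  rw [h3] at hd
  have h4 : (al (s : S2 F) - 1) * (al (s : S2 F) - 1) = 0 := by
    rw [tr] at h1
    have : de (s : S2 F) = 2 - al (s : S2 F) := by linear_combination h1
    rw [this] at hd
    linear_combination -hd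
  have := mul_self_eq_zero.mp h4
  linear_combination this

include ha₀ hx hpF in
/-- every unipotent element of `K` is conjugate into `U`. -/
theorem exists_conj_mem_UK {u : K} (hu : tr (u : S2 F) = 2) : ∃ κ : K, κ * u * κ⁻¹ ∈ UK K := by
  have hup : u ^ p = 1 := Subtype.ext (by
    rw [Subgroup.coe_pow]; exact pow_char_of_tr_two hu)
  have hz : IsPGroup p (Subgroup.zpowers u) := by
    rw [IsPGroup.iff_orderOf]
    rintro ⟨_, k, rfl⟩
    have h1 : (⟨u ^ k, ⟨k, rfl⟩⟩ : Subgroup.zpowers u) ^ p = 1 := by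
      apply Subtype.ext
      show (u ^ k) ^ p = 1
      rw [← zpow_natCast, ← zpow_mul, mul_comm, zpow_mul, zpow_natCast, hup, one_zpow]
    have h2 := orderOf_dvd_of_pow_eq_one h1
    rcases (Nat.dvd_prime hpF.out).mp h2 with h | h
    · exact ⟨0, by rw [h, pow_zero]⟩
    · exact ⟨1, by rw [h, pow_one]⟩
  obtain ⟨P₀, hP₀⟩ := (isPGroup_UK (p := p) K).exists_le_sylow
  obtain ⟨P₁, hP₁⟩ := hz.exists_le_sylow
  obtain ⟨κ, hκ⟩ := MulAction.exists_smul_eq K P₁ P₀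
  refine ⟨κ, ?_⟩
  apply le_UK_of_isPGroup K ha₀ hx P₀ P₀.2 (hP₀ (xx_mem_Us a₀))
  rw [← hκ]
  have h3 : u ∈ (P₁ : Subgroup K) := hP₁ (Subgroup.mem_zpowers u)
  have h4 := Subgroup.smul_mem_pointwise_smul u (MulAut.conj κ) (P₁ : Subgroup K) h3
  exact h4

include ha₀ hp2 in
/-- non-central elements with `tr² = 4` lie in the class of `x`. -/
theorem mem_cls_x_of_tr {g : K} (hgZ : g ∉ ZK K) (ht : tr (g : S2 F) ^ 2 = 4) :
    g ∈ cls (ZK K) (⟨xx a₀, hx⟩ : K) := by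
  have h1 : (tr (g : S2 F) - 2) * (tr (g : S2 F) + 2) = 0 := by linear_combination ht
  have key : ∀ u : K, tr (u : S2 F) = 2 → ∀ ζ ∈ ZK K, g = ζ * u → g ∈ cls (ZK K) (⟨xx a₀, hx⟩ : K) := by
    intro u hu ζ hζ e
    obtain ⟨κ, hκ⟩ := exists_conj_mem_UK (p := p) K ha₀ hx hu
    refine ⟨κ⁻¹, ζ * (κ * u * κ⁻¹), ?_, ?_, ?_⟩
    · rw [Cn_x_eq K hp2 ha₀ hx]
      exact Subgroup.mul_mem_sup hζ hκ
    · intro h
      apply hgZ
      have h2 : κ * g * κ⁻¹ = ζ * (κ * u * κ⁻¹) := by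
        rw [e]
        have := hZc K ζ hζ κ
        calc κ * (ζ * u) * κ⁻¹ = (κ * ζ) * u * κ⁻¹ := by group
          _ = (ζ * κ) * u * κ⁻¹ := by rw [this]
          _ = _ := by group
      rw [← h2] at h
      exact conj_mem_Z (ZK K) (hZc K) (x := κ⁻¹) (by simpa using h)
    · rw [e]
      have := hZc K ζ hζ κ⁻¹
      calc ζ * u = (ζ * κ⁻¹) * (κ * u * κ⁻¹) * κ⁻¹⁻¹ := by group
        _ = (κ⁻¹ * ζ) * (κ * u * κ⁻¹) * κ⁻¹⁻¹ := by rw [this]
        _ = _ := by group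
  rcases mul_eq_zero.mp h1 with h | h
  · exact key g (by linear_combination h) 1 (one_mem _) (by simp)
  · have ht2 : tr (g : S2 F) = -2 := by linear_combination h
    have hm := mone_mem_of_tr K hp2 g.2 ht2
    refine key (⟨mone, hm⟩ * g) ?_ ⟨mone, hm⟩ (Or.inr rfl) ?_
    · rw [Subgroup.coe_mul, tr_mone_mul, ht2]; ring
    · apply Subtype.ext
      simp only [Subgroup.coe_mul]
      rw [← mul_assoc, mone_mul_mone, one_mul]

omit [Finite K] in
include hp2 hpF in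
theorem card_normalizer_semisimple {g : K} (hs : tr (g : S2 F) ^ 2 ≠ 4) :
    Nat.card (Subgroup.normalizer (Cn g : Set K)) = Nat.card (Cn g) ∨
    Nat.card (Subgroup.normalizer (Cn g : Set K)) = Nat.card (Cn g) * 2 := by
  have hCN : Cn g ≤ Subgroup.normalizer (Cn g : Set K) := Subgroup.le_normalizer
  have key : ∀ ν ∈ Subgroup.normalizer (Cn g : Set K), ν * g * ν⁻¹ = g ∨ ν * g * ν⁻¹ = g⁻¹ := by
    intro ν hν
    have h := (Subgroup.mem_normalizer_iff.mp hν g).mp (by rw [mem_Cn])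
    rw [mem_Cn] at h
    have h1 := eq_or_eq_inv_of_comm (two_ne_zero' (F := F) hp2) (g := (g : S2 F))
      (g' := ((ν * g * ν⁻¹ : K) : S2 F)) (congrArg Subtype.val h)
      (by simp only [Subgroup.coe_mul, Subgroup.coe_inv]; exact tr_conj _ _) hs
    rcases h1 with h1 | h1
    · left; exact Subtype.ext h1
    · right; exact Subtype.ext h1
  have hcomm : ∀ ν : K, ν * g * ν⁻¹ = g ↔ ν ∈ Cn g := by
    intro ν
    rw [mem_Cn]
    constructor
    · intro h
      calc ν * g = (ν * g * ν⁻¹) * ν := by group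
        _ = g * ν := by rw [h]
    · intro h
      rw [h]; group
  by_cases hall : ∀ ν ∈ Subgroup.normalizer (Cn g : Set K), ν * g * ν⁻¹ = g
  · left
    have : Subgroup.normalizer (Cn g : Set K) = Cn g :=
      le_antisymm (fun ν hν => (hcomm ν).mp (hall ν hν)) hCN
    rw [this]
  · right
    push Not at hall
    obtain ⟨ν₀, hν₀, hne⟩ := hall
    have hinv := (key ν₀ hν₀).resolve_left hne
    rw [Cfsg.Agent.Lib.Helper4.card_eq_mul_relIndex hCN]
    congr 1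
    unfold Subgroup.relIndex
    rw [Subgroup.index_eq_two_iff]
    refine ⟨⟨ν₀, hν₀⟩, ?_⟩
    intro b
    rw [Subgroup.mem_subgroupOf, Subgroup.mem_subgroupOf, Subgroup.coe_mul]
    by_cases hb : (b : K) ∈ Cn g
    · right
      refine ⟨hb, ?_⟩
      intro h
      apply hne
      rw [hcomm]
      have := (Cn g).mul_mem ((Cn g).inv_mem hb) h
      simpa using this
    · left
      refine ⟨?_, hb⟩
      have hb' := (key b b.2).resolve_left (fun h => hb ((hcomm _).mp h))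
      rw [← hcomm]
      calc (b : K) * ν₀ * g * ((b : K) * ν₀)⁻¹ = (b : K) * (ν₀ * g * ν₀⁻¹) * (b : K)⁻¹ := by group
        _ = (b : K) * g⁻¹ * (b : K)⁻¹ := by rw [hinv]
        _ = ((b : K) * g * (b : K)⁻¹)⁻¹ := by group
        _ = g := by rw [hb', inv_inv]

include ha₀ in
theorem exists_semisimple (hne : Nat.card (Cn (⟨xx a₀, hx⟩ : K)) ≠ Nat.card (BK K)) :
    ∃ g₁ : K, g₁ ∉ ZK K ∧ tr (g₁ : S2 F) ^ 2 ≠ 4 ∧
      Nat.card (BK K) = Nat.card (Cn g₁) * Nat.card (UK K) := by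
  have hle : Cn (⟨xx a₀, hx⟩ : K) ≤ BK K := fun g hg => ((mem_Cn_x K ha₀ hx).mp hg).1
  obtain ⟨g₁, hg₁B, hg₁C⟩ : ∃ g₁ ∈ BK K, g₁ ∉ Cn (⟨xx a₀, hx⟩ : K) := by
    by_contra hcon
    push Not at hcon
    exact hne (by rw [le_antisymm hle hcon])
  rw [mem_BK] at hg₁B
  rw [mem_Cn_x K ha₀ hx] at hg₁C
  have had : al (g₁ : S2 F) - de (g₁ : S2 F) ≠ 0 := fun h => hg₁C ⟨hg₁B, by linear_combination h⟩
  have hCB : Cn g₁ ≤ BK K := by
    intro m hm
    rw [mem_Cn] at hm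
    have h1 := (comm_iff _ _).mp (congrArg Subtype.val hm : (m : S2 F) * g₁ = g₁ * m)
    rw [mem_BK]
    have h2 := h1.2.2
    rw [hg₁B] at h2
    have h3 : ga (m : S2 F) * (al (g₁ : S2 F) - de (g₁ : S2 F)) = 0 := by linear_combination -h2
    exact (mul_eq_zero.mp h3).resolve_right had
  have hinf : Cn g₁ ⊓ UK K = ⊥ := by
    rw [eq_bot_iff]
    rintro m ⟨hm, hu⟩
    have hm' : m ∈ Cn g₁ := hm
    rw [mem_Cn] at hm'
    have hu' := (mem_UK K).mp hu
    have h1 := (comm_iff _ _).mp (congrArg Subtype.val hm' : (m : S2 F) * g₁ = g₁ * m)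
    have h2 := h1.2.1
    rw [hu'.2, de_eq_one hu'.1 hu'.2] at h2
    have h3 : be (m : S2 F) * (al (g₁ : S2 F) - de (g₁ : S2 F)) = 0 := by linear_combination -h2
    have h4 := (mul_eq_zero.mp h3).resolve_right had
    rw [Subgroup.mem_bot]
    apply Subtype.ext
    have h5 : (m : S2 F) = xx (be (m : S2 F)) := eq_xx_of_mem_Us hu
    rw [h5, h4, xx_zero]; rfl
  have hg₁B' : g₁ ∈ BK K := hg₁B
  have hsup : Cn g₁ ⊔ UK K = BK K := by
    apply le_antisymm (sup_le hCB (UK_le_BK K))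
    intro b hb
    let φ : UK K → UK K := fun u => ⟨(u : K) * (g₁ * (u : K)⁻¹ * g₁⁻¹),
      (UK K).mul_mem u.2 (conj_mem_UK K hg₁B' ((UK K).inv_mem u.2))⟩
    have hφ : Function.Injective φ := by
      intro u u' h
      have h1 : (u : K) * (g₁ * (u : K)⁻¹ * g₁⁻¹) = (u' : K) * (g₁ * (u' : K)⁻¹ * g₁⁻¹) :=
        congrArg Subtype.val h
      have h2 : (u' : K)⁻¹ * u ∈ Cn g₁ ⊓ UK K := by
        refine ⟨?_, (UK K).mul_mem ((UK K).inv_mem u'.2) u.2⟩
        show (u' : K)⁻¹ * u ∈ Cn g₁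
        rw [mem_Cn]
        calc (u' : K)⁻¹ * u * g₁ = (u' : K)⁻¹ * ((u : K) * (g₁ * (u : K)⁻¹ * g₁⁻¹)) * g₁ * u := by group
          _ = (u' : K)⁻¹ * ((u' : K) * (g₁ * (u' : K)⁻¹ * g₁⁻¹)) * g₁ * u := by rw [h1]
          _ = g₁ * ((u' : K)⁻¹ * u) := by group
      rw [hinf, Subgroup.mem_bot] at h2
      apply Subtype.ext
      exact (inv_mul_eq_one.mp h2).symm
    have hsurj := Finite.injective_iff_surjective.mp hφ
    have hbU : b * (g₁ * b⁻¹ * g₁⁻¹) ∈ UK K := by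
      rw [mem_BK] at hb
      rw [mem_UK]
      have hd := det_eq (b : S2 F)
      have hd1 := det_eq (g₁ : S2 F)
      rw [hb] at hd
      rw [hg₁B] at hd1
      simp only [Subgroup.coe_mul, Subgroup.coe_inv, ga_mul, de_mul, al_mul, be_mul, al_inv, ga_inv,
        be_inv, de_inv, hb, hg₁B]
      refine ⟨by ring, ?_⟩
      linear_combination (al (g₁ : S2 F) * de (g₁ : S2 F)) * hd + hd1
    obtain ⟨u, hu⟩ := hsurj ⟨_, hbU⟩
    have h1 : (u : K) * (g₁ * (u : K)⁻¹ * g₁⁻¹) = b * (g₁ * b⁻¹ * g₁⁻¹) := congrArg Subtype.val hu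
    have h2 : (u : K)⁻¹ * b ∈ Cn g₁ := by
      rw [mem_Cn]
      calc (u : K)⁻¹ * b * g₁ = (u : K)⁻¹ * (b * (g₁ * b⁻¹ * g₁⁻¹)) * g₁ * b := by group
        _ = (u : K)⁻¹ * ((u : K) * (g₁ * (u : K)⁻¹ * g₁⁻¹)) * g₁ * b := by rw [h1]
        _ = g₁ * ((u : K)⁻¹ * b) := by group
    have h3 : b = (u : K) * ((u : K)⁻¹ * b) := by group
    rw [h3, sup_comm]
    exact Subgroup.mul_mem_sup u.2 h2
  refine ⟨g₁, ?_, ?_, ?_⟩
  · intro h
    rcases (mem_ZK K).mp h with h | h <;> rw [h] at had <;> simp at had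
  · rw [Ne, ← sub_eq_zero, tr_sq_sub, hg₁B]
    simpa using had
  · have h := Cfsg.Agent.Lib.Helper4.card_mul_card_eq_of_le_normalizer (Cn g₁) (UK K) (by
      intro m hm
      rw [Subgroup.mem_normalizer_iff]
      intro u
      constructor
      · intro hu
        exact conj_mem_UK K (hCB hm) hu
      · intro hu
        have := conj_mem_UK K ((BK K).inv_mem (hCB hm)) hu
        have e : m⁻¹ * (m * u * m⁻¹) * m⁻¹⁻¹ = u := by group
        rwa [e] at this)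
    rw [hinf, hsup, Subgroup.card_bot, mul_one] at h
    exact h.symm

end main

end Cfsg.Agent.Lib.Helper5.Dk
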