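import Mathlib

set_option autoImplicit false

/-! Arithmetic of the class equation. -/

namespace Cfsg.Agent.Lib.Helper5.Dk

theorem arithA {n a z c ε w : ℕ} (hn : 2 ≤ n) (ha : 3 ≤ a) (hz : 1 ≤ z) (hc : 2 ≤ c)
    (hε : ε = 1 ∨ ε = 2) (hw : w * (ε * c) = (c - 1) * (n * z * a)) (hle : w ≤ z * (n - 1)) :
    a = 3 ∧ 4 * w = 3 * n * z := by
  obtain ⟨m, rfl⟩ : ∃ m, c = m + 2 := ⟨c - 2, by omega⟩
  obtain ⟨n', rfl⟩ : ∃ n', n = n' + 2 := ⟨n - 2, by omega⟩
  have e1 : m + 2 - 1 = m + 1 := by omega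
  have e2 : n' + 2 - 1 = n' + 1 := by omega
  rw [e1] at hw
  rw [e2] at hle
  have h1 : (m + 1) * ((n' + 2) * a) * z ≤ (n' + 1) * (ε * (m + 2)) * z := by
    calc (m + 1) * ((n' + 2) * a) * z = w * (ε * (m + 2)) := by rw [hw]; ring
      _ ≤ z * (n' + 1) * (ε * (m + 2)) := Nat.mul_le_mul_right _ hle
      _ = _ := by ring
  have h2 : (m + 1) * ((n' + 2) * a) ≤ (n' + 1) * (ε * (m + 2)) := Nat.le_of_mul_le_mul_right h1 (by omega)
  have hε2 : ε ≤ 2 := by omega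
  have h3 : (m + 1) * a * (n' + 2) < 2 * (m + 2) * (n' + 2) := by
    calc (m + 1) * a * (n' + 2) = (m + 1) * ((n' + 2) * a) := by ring
      _ ≤ (n' + 1) * (ε * (m + 2)) := h2
      _ ≤ (n' + 1) * (2 * (m + 2)) := by gcongr
      _ < (n' + 2) * (2 * (m + 2)) := by
        apply Nat.mul_lt_mul_of_pos_right <;> omega
      _ = _ := by ring
  have h4 : (m + 1) * a < 2 * (m + 2) := Nat.lt_of_mul_lt_mul_right h3
  have h5 : (m + 1) * 3 ≤ (m + 1) * a := Nat.mul_le_mul_left _ ha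
  have hm : m = 0 := by omega
  subst hm
  have ha3 : a = 3 := by omega
  subst ha3
  refine ⟨rfl, ?_⟩
  rcases hε with rfl | rfl
  · omega
  · linarith

theorem arithB1 {n a h z c ε w : ℕ} (hn : 2 ≤ n) (ha : 3 ≤ a) (hh : 2 ≤ h) (hz : 1 ≤ z) (hc : 2 ≤ c)
    (hε : ε = 1 ∨ ε = 2) (hw : w * (ε * c) = (c - 1) * (n * z * a * h)) (hle : w ≤ z * (n - 1)) :
    False := by
  have h6 : 3 ≤ a * h := by nlinarith
  have := arithA hn h6 hz hc hε (by rw [hw]; ring) hle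
  have h7 : 6 ≤ a * h := by nlinarith
  omega

theorem four_mul_ge {c w k : ℕ} (hc : 2 ≤ c) (hw : w * (2 * c) = (c - 1) * k) : k ≤ 4 * w := by
  obtain ⟨m, rfl⟩ : ∃ m, c = m + 2 := ⟨c - 2, by omega⟩
  have e1 : m + 2 - 1 = m + 1 := by omega
  rw [e1] at hw
  have h1 : k * (m + 2) ≤ 4 * w * (m + 2) := by
    calc k * (m + 2) ≤ 2 * ((m + 1) * k) := by nlinarith
      _ = 2 * (w * (2 * (m + 2))) := by rw [hw]
      _ = _ := by ring
  exact Nat.le_of_mul_le_mul_right h1 (by omega)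

theorem two_mul_ge {c w k : ℕ} (hc : 2 ≤ c) (hw : w * (1 * c) = (c - 1) * k) : k ≤ 2 * w := by
  obtain ⟨m, rfl⟩ : ∃ m, c = m + 2 := ⟨c - 2, by omega⟩
  have e1 : m + 2 - 1 = m + 1 := by omega
  rw [e1] at hw
  have h1 : k * (m + 2) ≤ 2 * w * (m + 2) := by
    calc k * (m + 2) ≤ 2 * ((m + 1) * k) := by nlinarith
      _ = 2 * (w * (1 * (m + 2))) := by rw [hw]
      _ = _ := by ring
  exact Nat.le_of_mul_le_mul_right h1 (by omega)

/-- the final diophantine step -/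
theorem arithE {n a h c j : ℕ} (ha : 3 ≤ a) (hh : 2 ≤ h) (hha : h ≤ a - 1) (hj : 1 ≤ j)
    (hn : n = 1 + a * j) (hc : 2 ≤ c) (hE : n * a * h = c * (n * (a - 2) + 2)) :
    j = 1 ∨ (a = 3 ∧ h = 2 ∧ j = 3 ∧ c = 5) := by
  obtain ⟨b, rfl⟩ : ∃ b, a = b + 2 := ⟨a - 2, by omega⟩
  have e1 : b + 2 - 2 = b := by omega
  have e2 : b + 2 - 1 = b + 1 := by omega
  rw [e1] at hE
  rw [e2] at hha
  -- work in ℤ
  have hE' : (n : ℤ) * (b + 2) * h = c * (n * b + 2) := by exact_mod_cast hE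
  have hn' : (n : ℤ) = 1 + (b + 2) * j := by exact_mod_cast hn
  set d : ℤ := (b + 2) * h - c * b with hd
  have h1 : 2 * (c : ℤ) = n * d := by rw [hd]; linear_combination -hE'
  have hnpos : (0 : ℤ) < n := by rw [hn']; positivity
  have hdpos : 0 < d := by
    by_contra hcon
    push Not at hcon
    have : (n : ℤ) * d ≤ 0 := mul_nonpos_of_nonneg_of_nonpos hnpos.le hcon
    have hc' : (2 : ℤ) ≤ c := by exact_mod_cast hc
    linarith
  have h2 : 2 * (h : ℤ) = d * (1 + j * b) := by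
    have hb2 : ((b : ℤ) + 2) ≠ 0 := by positivity
    apply mul_left_cancel₀ hb2
    have : 2 * (((b : ℤ) + 2) * h) = 2 * c * b + 2 * d := by rw [hd]; ring
    calc ((b : ℤ) + 2) * (2 * h) = 2 * c * b + 2 * d := by linarith
      _ = n * d * b + 2 * d := by rw [h1]
      _ = _ := by rw [hn']; ring
  have hh' : (h : ℤ) ≤ b + 1 := by exact_mod_cast hha
  have hb1 : (1 : ℤ) ≤ b := by
    have : 1 ≤ b := by omega
    exact_mod_cast this
  have hj' : (1 : ℤ) ≤ j := by exact_mod_cast hj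
  have hh2 : (2 : ℤ) ≤ h := by exact_mod_cast hh
  -- d * (1 + j b) ≤ 2 b + 2
  have h3 : d * (1 + j * b) ≤ 2 * b + 2 := by linarith
  by_cases hj1 : j = 1
  · left; exact hj1
  right
  have hj2 : (2 : ℤ) ≤ j := by
    have : 2 ≤ j := by omega
    exact_mod_cast this
  have hXpos : (0 : ℤ) ≤ 1 + (j : ℤ) * b := by positivity
  have h4 : 1 + (j : ℤ) * b ≤ d * (1 + j * b) := le_mul_of_one_le_left hXpos (by linarith)
  by_cases hj3 : j = 2
  · exfalso
    subst hj3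
    push_cast at h2 h3 h4
    have hd1 : d = 1 := by
      by_contra hne
      have hd2 : 2 ≤ d := by omega
      have : 2 * (1 + 2 * (b : ℤ)) ≤ d * (1 + 2 * b) :=
        mul_le_mul_of_nonneg_right hd2 (by positivity)
      linarith
    rw [hd1] at h2
    omega
  have hj4 : (3 : ℤ) ≤ j := by
    have : 3 ≤ j := by omega
    exact_mod_cast this
  have hb : (b : ℤ) = 1 := by
    have : 3 * (b : ℤ) ≤ j * b := mul_le_mul_of_nonneg_right hj4 (by positivity)
    linarith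
  rw [hb] at h2 h3 h4 hh'
  have hh3 : (h : ℤ) = 2 := by linarith
  rw [hh3] at h2
  have hjd : (j : ℤ) = 3 ∧ d = 1 := by
    have : d * (1 + j) = 4 := by linarith
    have hd1 : d = 1 := by
      by_contra hne
      have hd2 : 2 ≤ d := by omega
      have : 2 * (1 + (j : ℤ)) ≤ d * (1 + j) := mul_le_mul_of_nonneg_right hd2 (by positivity)
      linarith
    rw [hd1] at this
    exact ⟨by linarith, hd1⟩
  have hc5 : (c : ℤ) = 5 := by
    rw [hjd.2, hn', hb, hjd.1] at h1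
    linarith
  refine ⟨?_, ?_, ?_, ?_⟩
  · have : b = 1 := by exact_mod_cast hb
    omega
  · exact_mod_cast hh3
  · exact_mod_cast hjd.1
  · exact_mod_cast hc5

end Cfsg.Agent.Lib.Helper5.Dk
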