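import Mathlib
import Cfsg.Agent.Lib.Helper5.Dk4
import Cfsg.Agent.Lib.Helper5.Dk5

set_option autoImplicit false

namespace Cfsg.Agent.Lib.Helper5.Dk

section abstract

variable {G : Type*} [Group G] (Z : Subgroup G)

/-- a set of non-central elements that is a union of classes -/
def Sat (T : Set G) : Prop := ∀ g ∈ T, g ∉ Z ∧ cls Z g ⊆ T

variable (hZc : ∀ z ∈ Z, ∀ x : G, x * z = z * x)
  (hCA : ∀ g, g ∉ Z → ∀ x y : G, x * g = g * x → y * g = g * y → x * y = y * x)

include hZc hCA in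
theorem Sat.diff {T : Set G} (hT : Sat Z T) {g : G} (hg : g ∈ T) : Sat Z (T \ cls Z g) := by
  intro g' hg'
  refine ⟨(hT g' hg'.1).1, ?_⟩
  intro w hw
  refine ⟨(hT g' hg'.1).2 hw, ?_⟩
  intro hw'
  exact (Set.disjoint_left.mp (cls_disjoint Z hZc hCA (hT g hg).1 (hT g' hg'.1).1 hg'.2)) hw' hw

theorem Sat.ncard_diff [Finite G] {T : Set G} (hT : Sat Z T) {g : G} (hg : g ∈ T) :
    (T \ cls Z g).ncard + (cls Z g).ncard = T.ncard :=
  Set.ncard_sdiff_add_ncard_of_subset (hT g hg).2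

end abstract

variable {F : Type*} [Field F] (K : Subgroup (S2 F))

section main

variable {p : ℕ} [hpF : Fact p.Prime] [CharP F p] (hp2 : p ≠ 2) {a₀ : F} (ha₀ : a₀ ≠ 0)
  (hx : xx a₀ ∈ K)

/-- the semisimple elements -/
def SS : Set K := {g | g ∉ ZK K ∧ tr (g : S2 F) ^ 2 ≠ 4}

variable [Finite K]

include ha₀ hp2 in
theorem cls_x_eq : cls (ZK K) (⟨xx a₀, hx⟩ : K) = {g | g ∉ ZK K ∧ tr (g : S2 F) ^ 2 = 4} := by
  ext w
  constructor
  · intro hw
    refine ⟨not_mem_Z_of_mem_cls _ (hZc K) hw, ?_⟩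
    obtain ⟨κ, y, hy, -, rfl⟩ := hw
    rw [mem_Cn_x K ha₀ hx] at hy
    simp only [Subgroup.coe_mul, Subgroup.coe_inv]
    rw [tr_conj, tr, ← hy.2]
    rcases al_sq_of_mem hy.1 hy.2 with h | h <;> rw [h] <;> norm_num
  · rintro ⟨h1, h2⟩
    exact mem_cls_x_of_tr K hp2 ha₀ hx h1 h2

include ha₀ hp2 in
theorem card_decomp : Nat.card K =
    Nat.card (ZK K) + (cls (ZK K) (⟨xx a₀, hx⟩ : K)).ncard + (SS K).ncard := by
  have h1 : (Set.univ : Set K) = ((ZK K : Set K) ∪ cls (ZK K) (⟨xx a₀, hx⟩ : K)) ∪ SS K := by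
    rw [cls_x_eq K hp2 ha₀ hx]
    ext g
    simp only [Set.mem_univ, Set.mem_union, SetLike.mem_coe, Set.mem_ofPred_eq, SS, true_iff]
    by_cases hg : g ∈ ZK K
    · left; left; exact hg
    · by_cases ht : tr (g : S2 F) ^ 2 = 4
      · left; right; exact ⟨hg, ht⟩
      · right; exact ⟨hg, ht⟩
  rw [← Set.ncard_univ, h1, Set.ncard_union_eq, Set.ncard_union_eq]
  · rfl
  · rw [Set.disjoint_left]
    intro g hg hg'
    exact not_mem_Z_of_mem_cls _ (hZc K) hg' hg
  · rw [cls_x_eq K hp2 ha₀ hx, Set.disjoint_left]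
    rintro g (hg | hg) hg'
    · exact hg'.1 hg
    · exact hg'.2 hg.2

include ha₀ hp2 hx in
theorem sat_SS : Sat (ZK K) (SS K) := by
  intro g hg
  refine ⟨hg.1, ?_⟩
  intro w hw
  refine ⟨not_mem_Z_of_mem_cls _ (hZc K) hw, ?_⟩
  intro ht
  have hw' : w ∈ cls (ZK K) (⟨xx a₀, hx⟩ : K) := by
    rw [cls_x_eq K hp2 ha₀ hx]
    exact ⟨not_mem_Z_of_mem_cls _ (hZc K) hw, ht⟩
  have hxZ : (⟨xx a₀, hx⟩ : K) ∉ ZK K := by
    intro h
    rcases (mem_ZK K).mp h with h | h
    · have := congrArg be h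
      simp at this; exact ha₀ this
    · have := congrArg be h
      simp at this; exact ha₀ this
  have e1 := cls_eq_of_mem _ (hZc K) (hCA K) hg.1 hw
  have e2 := cls_eq_of_mem _ (hZc K) (hCA K) hxZ hw'
  have h3 : g ∈ cls (ZK K) (⟨xx a₀, hx⟩ : K) := by
    rw [← e2, e1]; exact mem_cls_self _ hg.1
  rw [cls_x_eq K hp2 ha₀ hx] at h3
  exact hg.2 h3.2

include hp2 hpF in
/-- parameters of a semisimple class -/
theorem ss_params {g : K} (hg : g ∈ SS K) : ∃ c ε : ℕ, 2 ≤ c ∧ (ε = 1 ∨ ε = 2) ∧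
    Nat.card (Cn g) = Nat.card (ZK K) * c ∧
    (cls (ZK K) g).ncard * (ε * c) = (c - 1) * Nat.card K := by
  have hle : ZK K ≤ Cn g := Z_le_Cn _ (hZc K) g
  obtain ⟨c, hc⟩ := Subgroup.card_dvd_of_le hle
  have hzpos : 0 < Nat.card (ZK K) := Nat.card_pos
  have hlt : Nat.card (ZK K) < Nat.card (Cn g) := by
    have hne : ZK K ≠ Cn g := by
      intro h
      apply hg.1
      rw [h, mem_Cn]
    by_contra hcon
    push Not at hcon
    exact hne (Subgroup.eq_of_le_of_card_ge hle hcon)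
  have hc2 : 2 ≤ c := by
    by_contra hcon
    have : c ≤ 1 := by omega
    have : Nat.card (ZK K) * c ≤ Nat.card (ZK K) * 1 := Nat.mul_le_mul_left _ this
    omega
  have hcount := cls_count (ZK K) (hZc K) (hCA K) hg.1
  have e : Nat.card (Cn g) - Nat.card (ZK K) = Nat.card (ZK K) * (c - 1) := by
    rw [hc, Nat.mul_sub, mul_one]
  rw [e] at hcount
  rcases card_normalizer_semisimple K hp2 hg.2 with h | h
  · refine ⟨c, 1, hc2, Or.inl rfl, hc, ?_⟩
    rw [h, hc] at hcount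
    apply Nat.eq_of_mul_eq_mul_left hzpos
    linarith
  · refine ⟨c, 2, hc2, Or.inr rfl, hc, ?_⟩
    rw [h, hc] at hcount
    apply Nat.eq_of_mul_eq_mul_left hzpos
    linarith

theorem card_ZK : Nat.card (ZK K) = 1 ∨ Nat.card (ZK K) = 2 := by
  classical
  have h1 : Nat.card (ZK K) ≤ 2 := by
    have hinj : Function.Injective (fun z : ZK K => ((z : K) : S2 F)) := by
      intro z z' h
      exact Subtype.ext (Subtype.ext h)
    have h2 : Set.range (fun z : ZK K => ((z : K) : S2 F)) ⊆ {1, mone} := by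
      rintro _ ⟨z, rfl⟩
      exact (mem_ZK K).mp z.2
    have h3 : (Set.range (fun z : ZK K => ((z : K) : S2 F))).ncard ≤ 2 :=
      (Set.ncard_le_ncard h2 (Set.toFinite _)).trans
        ((Set.ncard_insert_le _ _).trans (by rw [Set.ncard_singleton]))
    rw [← Nat.card_coe_set_eq, Nat.card_range_of_injective hinj] at h3
    exact h3
  have h0 : 0 < Nat.card (ZK K) := Nat.card_pos
  omega

include ha₀ hp2 hx in
theorem count_main (hy : ∃ y : K, ga (y : S2 F) ≠ 0) :
    (BK K).index = Nat.card (UK K) + 1 ∨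
    (Nat.card (UK K) = 3 ∧ ∀ g : K, g ∈ ZK K ∨ tr (g : S2 F) ^ 2 = 4 ∨ g ^ 4 = 1 ∨ g ^ 10 = 1) := by
  classical
  obtain ⟨k, hk⟩ : ∃ k, k = Nat.card K := ⟨_, rfl⟩
  obtain ⟨z, hz⟩ : ∃ z, z = Nat.card (ZK K) := ⟨_, rfl⟩
  obtain ⟨a, ha⟩ : ∃ a, a = Nat.card (UK K) := ⟨_, rfl⟩
  obtain ⟨n, hn⟩ : ∃ n, n = (BK K).index := ⟨_, rfl⟩
  obtain ⟨cB, hcB⟩ : ∃ cB, cB = Nat.card (BK K) := ⟨_, rfl⟩
  obtain ⟨s, hs⟩ : ∃ s, s = (SS K).ncard := ⟨_, rfl⟩
  obtain ⟨t₁, ht₁⟩ : ∃ t₁, t₁ = (cls (ZK K) (⟨xx a₀, hx⟩ : K)).ncard := ⟨_, rfl⟩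
  obtain ⟨h, hh⟩ : ∃ h, h = (Cn (⟨xx a₀, hx⟩ : K)).relIndex (BK K) := ⟨_, rfl⟩
  rw [← hn, ← ha]
  have hzpos : 1 ≤ z := by rw [hz]; exact Nat.card_pos
  have hz2 : z = 1 ∨ z = 2 := by rw [hz]; exact card_ZK K
  have hcBpos : 0 < cB := by rw [hcB]; exact Nat.card_pos
  have ha3 : 3 ≤ a := by
    have h1 := (isPGroup_UK (p := p) K).card_eq_or_dvd
    have hp3 : 3 ≤ p := by
      have := hpF.out.two_le
      omega
    rcases h1 with h1 | h1
    · exfalso
      have h2 : (UK K) = ⊥ := (Subgroup.card_eq_one).mp h1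
      have h3 : (⟨xx a₀, hx⟩ : K) ∈ UK K := xx_mem_Us a₀
      rw [h2, Subgroup.mem_bot] at h3
      have h4 : xx a₀ = (1 : S2 F) := congrArg Subtype.val h3
      have h5 := congrArg be h4
      simp at h5
      exact ha₀ h5
    · rw [ha]
      exact hp3.trans (Nat.le_of_dvd Nat.card_pos h1)
  obtain ⟨j, hj⟩ := index_BK K
  rw [← hn, ← ha] at hj
  have hn2 : 2 ≤ n := by
    have h0 : n ≠ 0 := by rw [hn]; exact Subgroup.index_ne_zero_of_finite
    have h1 : n ≠ 1 := by
      rw [hn]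
      intro h1
      rw [Subgroup.index_eq_one] at h1
      obtain ⟨y, hy⟩ := hy
      apply hy
      have : y ∈ BK K := by rw [h1]; exact Subgroup.mem_top y
      exact this
    omega
  have hj1 : 1 ≤ j := by
    rcases Nat.eq_zero_or_pos j with h0 | h0
    · rw [h0] at hj; omega
    · exact h0
  have hkn : cB * n = k := by rw [hcB, hn, hk]; exact Subgroup.card_mul_index _
  have hle : Cn (⟨xx a₀, hx⟩ : K) ≤ BK K := fun g hg => ((mem_Cn_x K ha₀ hx).mp hg).1
  have hC : Nat.card (Cn (⟨xx a₀, hx⟩ : K)) = z * a := by rw [hz, ha]; exact card_Cn_x K hp2 ha₀ hx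
  have hB : cB = z * a * h := by
    rw [hcB, hh, ← hC]; exact Cfsg.Agent.Lib.Helper4.card_eq_mul_relIndex hle
  have hha : h ≤ a - 1 := by rw [hh, ha]; exact relIndex_le K ha₀ hx
  have hh1 : 1 ≤ h := by
    rcases Nat.eq_zero_or_pos h with h0 | h0
    · rw [h0] at hB; omega
    · exact h0
  have hxZ : (⟨xx a₀, hx⟩ : K) ∉ ZK K := by
    intro h
    rcases (mem_ZK K).mp h with h | h
    · have := congrArg be h
      simp at this; exact ha₀ this
    · have := congrArg be h
      simp at this; exact ha₀ this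
  have hk' : k = n * z * a * h := by rw [← hkn, hB]; ring
  have ht : t₁ + z * n = z * a * n := by
    have h1 := cls_count (ZK K) (hZc K) (hCA K) hxZ
    rw [normalizer_Cn_x K ha₀ hx, hC, ← hz, ← hk, ← ht₁, ← hcB, ← hkn] at h1
    have h2 : t₁ = (z * a - z) * n := by
      apply Nat.eq_of_mul_eq_mul_right hcBpos
      rw [h1]; ring
    rw [h2]
    have h3 : z ≤ z * a := Nat.le_mul_of_pos_right _ (by omega)
    calc (z * a - z) * n + z * n = (z * a - z + z) * n := by ring
      _ = z * a * n := by rw [Nat.sub_add_cancel h3]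
  have hdec : k = z + t₁ + s := by rw [hk, hz, ht₁, hs]; exact card_decomp K hp2 ha₀ hx
  have hsat := sat_SS K hp2 ha₀ hx
  -- general facts on classes inside a saturated subset of `SS`
  have hpar : ∀ g ∈ SS K, ∃ c ε : ℕ, 2 ≤ c ∧ (ε = 1 ∨ ε = 2) ∧ Nat.card (Cn g) = z * c ∧
      (cls (ZK K) g).ncard * (ε * c) = (c - 1) * k := by
    intro g hg
    rw [hz, hk]
    exact ss_params K hp2 hg
  have hzn : z * (n - 1) + z = z * n := by
    have : n - 1 + 1 = n := by omega
    calc z * (n - 1) + z = z * (n - 1 + 1) := by ring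
      _ = z * n := by rw [this]
  by_cases hone : h = 1
  · -- case A
    left
    rw [hone, mul_one] at hk'
    have hs' : s = z * (n - 1) := by
      have : z * a * n = n * z * a := by ring
      omega
    have hspos : 0 < s := by
      rw [hs']; exact Nat.mul_pos (by omega) (by omega)
    obtain ⟨g₂, hg₂⟩ : (SS K).Nonempty := by
      rw [← Set.ncard_pos, ← hs]; exact hspos
    obtain ⟨c₂, ε₂, hc₂, hε₂, -, hw₂⟩ := hpar g₂ hg₂
    have hd₂ := hsat.ncard_diff _ hg₂
    rw [← hs] at hd₂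
    have hA₂ := arithA hn2 ha3 hzpos hc₂ hε₂ (by rw [hw₂, hk']) (by rw [← hs']; omega)
    by_cases hne : (SS K \ cls (ZK K) g₂).Nonempty
    · exfalso
      obtain ⟨g₃, hg₃⟩ := hne
      obtain ⟨c₃, ε₃, hc₃, hε₃, -, hw₃⟩ := hpar g₃ hg₃.1
      have hsat₂ := hsat.diff _ (hZc K) (hCA K) hg₂
      have hle₃ : (cls (ZK K) g₃).ncard ≤ (SS K \ cls (ZK K) g₂).ncard :=
        Set.ncard_le_ncard (hsat₂ g₃ hg₃).2 (Set.toFinite _)
      have hA₃ := arithA hn2 ha3 hzpos hc₃ hε₃ (by rw [hw₃, hk']) (by rw [← hs']; omega)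
      have h5 : 3 * n * z = 3 * (z * n) := by ring
      omega
    · rw [Set.not_nonempty_iff_eq_empty] at hne
      rw [hne, Set.ncard_empty] at hd₂
      have h5 : 3 * n * z = 3 * (z * n) := by ring
      have h6 : z * n = 4 * z := by omega
      have h7 : n = 4 := by
        apply Nat.eq_of_mul_eq_mul_left hzpos
        rw [h6]; ring
      omega
  · -- case B
    have hh2 : 2 ≤ h := by omega
    have hne : Nat.card (Cn (⟨xx a₀, hx⟩ : K)) ≠ Nat.card (BK K) := by
      rw [hC, ← hcB, hB]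
      intro h0
      have h1 : z * a * 1 = z * a * h := by rw [mul_one]; exact h0
      have := Nat.eq_of_mul_eq_mul_left (Nat.mul_pos (by omega) (by omega)) h1
      omega
    obtain ⟨g₁, hg₁Z, hg₁t, hg₁c⟩ := exists_semisimple K ha₀ hx hne
    have hg₁ : g₁ ∈ SS K := ⟨hg₁Z, hg₁t⟩
    obtain ⟨c₁, ε₁, hc₁, hε₁, hC₁, hw₁⟩ := hpar g₁ hg₁
    have hc₁h : c₁ = h := by
      rw [← hcB, hB, hC₁, ← ha] at hg₁c
      have h1 : z * a * h = z * a * c₁ := by rw [hg₁c]; ring
      exact (Nat.eq_of_mul_eq_mul_left (Nat.mul_pos (by omega) (by omega)) h1).symm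
    subst hc₁h
    have hd₁ := hsat.ncard_diff _ hg₁
    rw [← hs] at hd₁
    have hsat₁ := hsat.diff _ (hZc K) (hCA K) hg₁
    obtain ⟨w₁, hw₁d⟩ : ∃ w₁, w₁ = (cls (ZK K) g₁).ncard := ⟨_, rfl⟩
    obtain ⟨s', hs'd⟩ : ∃ s', s' = (SS K \ cls (ZK K) g₁).ncard := ⟨_, rfl⟩
    rw [← hw₁d] at hw₁ hd₁
    rw [← hs'd] at hd₁
    have hc1 : c₁ - 1 + 1 = c₁ := by omega
    -- w₁ ε₁ + n z a = n z a c₁
    have hw₁' : w₁ * ε₁ + n * z * a = n * z * a * c₁ := by
      have h1 : w₁ * ε₁ * c₁ = (c₁ - 1) * (n * z * a) * c₁ := by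
        calc w₁ * ε₁ * c₁ = w₁ * (ε₁ * c₁) := by ring
          _ = (c₁ - 1) * k := hw₁
          _ = _ := by rw [hk']; ring
      have h2 := Nat.eq_of_mul_eq_mul_right (by omega : 0 < c₁) h1
      rw [h2]
      calc (c₁ - 1) * (n * z * a) + n * z * a = (c₁ - 1 + 1) * (n * z * a) := by ring
        _ = _ := by rw [hc1]; ring
    have e1 : z * a * n = n * z * a := by ring
    rcases hε₁ with rfl | rfl
    · exfalso
      have hs'' : s' = z * (n - 1) := by omega
      have hspos : 0 < s' := by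
        rw [hs'']; exact Nat.mul_pos (by omega) (by omega)
      obtain ⟨g₂, hg₂⟩ : (SS K \ cls (ZK K) g₁).Nonempty := by
        rw [← Set.ncard_pos, ← hs'd]; exact hspos
      obtain ⟨c₂, ε₂, hc₂, hε₂, -, hw₂⟩ := hpar g₂ hg₂.1
      have hle₂ : (cls (ZK K) g₂).ncard ≤ s' := by
        rw [hs'd]; exact Set.ncard_le_ncard (hsat₁ g₂ hg₂).2 (Set.toFinite _)
      exact arithB1 hn2 ha3 hh2 hzpos hc₂ hε₂ (by rw [hw₂, hk']) (by rw [← hs'']; exact hle₂)
    · -- (*) : 2 s' + z n a + 2 z = k + 2 z n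
      have hstar : 2 * s' + n * z * a + 2 * z = k + 2 * (z * n) := by
        rw [hk'] at hdec ⊢
        omega
      have h3n : 3 * (z * n) ≤ n * z * a := by
        calc 3 * (z * n) = n * z * 3 := by ring
          _ ≤ n * z * a := Nat.mul_le_mul_left _ ha3
      have hznpos : 0 < z * n := Nat.mul_pos (by omega) (by omega)
      have hbound : 2 * s' < k := by omega
      have hspos : 0 < s' := by
        have h4 : n * z * a * 2 ≤ n * z * a * c₁ := Nat.mul_le_mul_left _ hh2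
        rw [hk'] at hstar
        have h5 : z ≤ z * n := Nat.le_mul_of_pos_right _ (by omega)
        omega
      obtain ⟨g₂, hg₂⟩ : (SS K \ cls (ZK K) g₁).Nonempty := by
        rw [← Set.ncard_pos, ← hs'd]; exact hspos
      obtain ⟨c₂, ε₂, hc₂, hε₂, hC₂, hw₂⟩ := hpar g₂ hg₂.1
      have hd₂ := hsat₁.ncard_diff _ hg₂
      rw [← hs'd] at hd₂
      rcases hε₂ with rfl | rfl
      · exfalso
        have := two_mul_ge hc₂ hw₂
        omega
      · have h4w₂ := four_mul_ge hc₂ hw₂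
        by_cases hne₂ : ((SS K \ cls (ZK K) g₁) \ cls (ZK K) g₂).Nonempty
        · exfalso
          obtain ⟨g₃, hg₃⟩ := hne₂
          obtain ⟨c₃, ε₃, hc₃, hε₃, -, hw₃⟩ := hpar g₃ hg₃.1.1
          have hsat₂ := hsat₁.diff _ (hZc K) (hCA K) hg₂
          have hle₃ : (cls (ZK K) g₃).ncard ≤ ((SS K \ cls (ZK K) g₁) \ cls (ZK K) g₂).ncard :=
            Set.ncard_le_ncard (hsat₂ g₃ hg₃).2 (Set.toFinite _)
          have h4w₃ : k ≤ 4 * (cls (ZK K) g₃).ncard := by
            rcases hε₃ with rfl | rfl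
            · have := two_mul_ge hc₃ hw₃
              omega
            · exact four_mul_ge hc₃ hw₃
          omega
        · rw [Set.not_nonempty_iff_eq_empty] at hne₂
          rw [hne₂, Set.ncard_empty, zero_add] at hd₂
          rw [hd₂] at hw₂
          -- (E)
          have hc2 : c₂ - 1 + 1 = c₂ := by omega
          have hE : n * a * c₁ = c₂ * (n * (a - 2) + 2) := by
            have ha2 : a - 2 + 2 = a := by omega
            apply Nat.eq_of_mul_eq_mul_left hzpos
            have h1 : s' * (2 * c₂) + k = c₂ * k := by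
              rw [hw₂]
              calc (c₂ - 1) * k + k = (c₂ - 1 + 1) * k := by ring
                _ = _ := by rw [hc2]
            have h2 : (2 * s' + n * z * a + 2 * z) * c₂ = (k + 2 * (z * n)) * c₂ := by rw [hstar]
            have h3 : z * (c₂ * (n * (a - 2) + 2)) + 2 * (z * n) * c₂ = n * z * a * c₂ + 2 * z * c₂ := by
              calc z * (c₂ * (n * (a - 2) + 2)) + 2 * (z * n) * c₂
                  = z * c₂ * n * (a - 2 + 2) + 2 * z * c₂ := by ring
                _ = _ := by rw [ha2]; ring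
            have h4 : z * (n * a * c₁) = k := by rw [hk']; ring
            rw [h4]
            have h2' : 2 * (s' * c₂) + n * z * a * c₂ + 2 * z * c₂ = c₂ * k + 2 * (z * n) * c₂ := by
              linarith [h2]
            have h1' : 2 * (s' * c₂) + k = c₂ * k := by linarith [h1]
            omega
          rcases arithE ha3 hh2 hha hj1 hj hc₂ hE with h1 | ⟨h1, h2, h3, h4⟩
          · left; rw [hj, h1]; ring
          · right
            refine ⟨h1, ?_⟩
            intro g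
            by_cases hgZ : g ∈ ZK K
            · left; exact hgZ
            by_cases hgt : tr (g : S2 F) ^ 2 = 4
            · right; left; exact hgt
            right; right
            have hgS : g ∈ SS K := ⟨hgZ, hgt⟩
            by_cases hg1 : g ∈ cls (ZK K) g₁
            · left
              have h5 := pow_card_of_mem_cls (ZK K) hg1
              rw [hC₁, h2] at h5
              rcases hz2 with hz1 | hz1 <;> rw [hz1] at h5
              · calc g ^ 4 = (g ^ (1 * 2)) ^ 2 := by rw [← pow_mul]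
                  _ = 1 := by rw [h5, one_pow]
              · exact h5
            · right
              have hg2 : g ∈ cls (ZK K) g₂ := by
                by_contra hcon
                have : g ∈ ((SS K \ cls (ZK K) g₁) \ cls (ZK K) g₂) := ⟨⟨hgS, hg1⟩, hcon⟩
                rw [hne₂] at this
                exact this
              have h5 := pow_card_of_mem_cls (ZK K) hg2
              rw [hC₂, h4] at h5
              rcases hz2 with hz1 | hz1 <;> rw [hz1] at h5
              · calc g ^ 10 = (g ^ (1 * 5)) ^ 2 := by rw [← pow_mul]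
                  _ = 1 := by rw [h5, one_pow]
              · exact h5

end main

end Cfsg.Agent.Lib.Helper5.Dk
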