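import Mathlib
import Cfsg.Agent.Lib.Helper5.Dk6

set_option autoImplicit false
set_option linter.unusedSimpArgs false

namespace Cfsg.Agent.Lib.Helper5.Dk

variable {F : Type*} [Field F] (K : Subgroup (S2 F))

section main

variable {p : ℕ} [hpF : Fact p.Prime] [CharP F p] (hp2 : p ≠ 2) {a₀ lam : F} (ha₀ : a₀ ≠ 0)
  (hlam : lam ≠ 0) (hx : xx a₀ ∈ K) (hy : yy lam ∈ K)

variable [Finite K]

include hlam hy in
/-- if `|K : B| = |U| + 1`, the cosets of `B` are `B` and `u y B`, `u ∈ U`. -/
theorem xx_mem_of_index (hidx : (BK K).index = Nat.card (UK K) + 1) {g : S2 F} (hg : g ∈ K)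
    (hga : ga g ≠ 0) : xx (al g / ga g - 1 / lam) ∈ K := by
  classical
  let I : Set (K ⧸ BK K) := Set.range (fun u : UK K => (QuotientGroup.mk ((u : K) * ⟨yy lam, hy⟩) : K ⧸ BK K))
  have hinj : Function.Injective
      (fun u : UK K => (QuotientGroup.mk ((u : K) * ⟨yy lam, hy⟩) : K ⧸ BK K)) := by
    intro u u' h
    have h1 := QuotientGroup.eq.mp h
    rw [mem_BK] at h1
    have hu : ((u : K) : S2 F) = xx (be ((u : K) : S2 F)) := eq_xx_of_mem_Us u.2
    have hu' : ((u' : K) : S2 F) = xx (be ((u' : K) : S2 F)) := eq_xx_of_mem_Us u'.2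
    simp only [Subgroup.coe_mul, Subgroup.coe_inv, mul_inv_rev] at h1
    rw [hu, hu'] at h1
    simp only [ga_mul, de_mul, al_mul, be_mul, al_inv, ga_inv, be_inv, de_inv, al_xx, ga_xx, be_xx,
      de_xx, al_yy, be_yy, ga_yy, de_yy] at h1
    have h2 : lam * lam * (be ((u : K) : S2 F) - be ((u' : K) : S2 F)) = 0 := by
      linear_combination h1
    have h3 := (mul_eq_zero.mp h2).resolve_left (mul_ne_zero hlam hlam)
    apply Subtype.ext
    apply Subtype.ext
    rw [hu, hu']
    congr 1
    linear_combination h3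
  have hI : I ⊆ {(QuotientGroup.mk (1 : K) : K ⧸ BK K)}ᶜ := by
    rintro _ ⟨u, rfl⟩ h
    rw [Set.mem_singleton_iff, eq_comm, QuotientGroup.eq, mem_BK] at h
    have hu : ((u : K) : S2 F) = xx (be ((u : K) : S2 F)) := eq_xx_of_mem_Us u.2
    simp only [Subgroup.coe_mul, Subgroup.coe_inv, inv_one, Subgroup.coe_one, one_mul] at h
    rw [hu] at h
    simp at h
    exact hlam h
  have hcard : I.ncard = Nat.card (UK K) := by
    rw [← Nat.card_coe_set_eq]
    exact Nat.card_range_of_injective hinj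
  have hIeq : I = {(QuotientGroup.mk (1 : K) : K ⧸ BK K)}ᶜ := by
    apply Set.eq_of_subset_of_ncard_le hI
    rw [Set.ncard_compl, Set.ncard_singleton, hcard]
    have : Nat.card (K ⧸ BK K) = Nat.card (UK K) + 1 := hidx
    omega
  have hgI : (QuotientGroup.mk (⟨g, hg⟩ : K) : K ⧸ BK K) ∈ I := by
    rw [hIeq]
    intro h
    rw [Set.mem_singleton_iff, eq_comm, QuotientGroup.eq, mem_BK] at h
    simp at h
    exact hga h
  obtain ⟨u, hu⟩ := hgI
  have h1 := QuotientGroup.eq.mp hu
  rw [mem_BK] at h1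
  have hu' : ((u : K) : S2 F) = xx (be ((u : K) : S2 F)) := eq_xx_of_mem_Us u.2
  simp only [Subgroup.coe_mul, Subgroup.coe_inv, mul_inv_rev] at h1
  rw [hu'] at h1
  simp only [ga_mul, de_mul, al_mul, be_mul, al_inv, ga_inv, be_inv, de_inv, al_xx, ga_xx, be_xx,
      de_xx, al_yy, be_yy, ga_yy, de_yy] at h1
  have h2 : al g / ga g - 1 / lam = be ((u : K) : S2 F) := by
    field_simp
    linear_combination -h1
  rw [h2, ← hu']
  exact (u : K).2

omit [Finite K] in
include hp2 hpF in
theorem xx_half_mem {s : F} (h : xx (-2 * s) ∈ K) : xx s ∈ K := by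
  obtain ⟨m, hm⟩ := hpF.out.odd_of_ne_two hp2
  have h1 := pow_mem h m
  rw [xx_pow] at h1
  have h2 : ((p : ℕ) : F) = 0 := CharP.cast_eq_zero F p
  have h3 : (m : F) * (-2 * s) = s := by
    rw [hm] at h2
    push_cast at h2
    linear_combination (-s) * h2
  rwa [h3] at h1

include hp2 ha₀ hlam hx hy in
/-- **Dickson-lite.** -/
theorem dickson_lite : ∃ g ∈ K, (a₀ * ga g) ^ 2 = 1 ∨ (a₀ * ga g) ^ 2 = -1 := by
  rcases count_main K hp2 ha₀ hx ⟨⟨yy lam, hy⟩, by simpa using hlam⟩ with hidx | ⟨h3, hall⟩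
  · have key := fun {g : S2 F} (hg : g ∈ K) (hga : ga g ≠ 0) => xx_mem_of_index K hlam hy hidx hg hga
    have h1 : xx (1 / lam) ∈ K := by
      apply xx_half_mem K hp2
      have := key (K.inv_mem hy) (by simpa using hlam)
      have e : al (yy lam)⁻¹ / ga (yy lam)⁻¹ - 1 / lam = -2 * (1 / lam) := by
        simp only [al_inv, ga_inv, de_yy, ga_yy]
        field_simp
        ring
      rwa [e] at this
    have hw : xx (1 / lam) * (yy lam)⁻¹ * xx (1 / lam) ∈ K := K.mul_mem (K.mul_mem h1 (K.inv_mem hy)) h1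
    obtain ⟨w, hwd⟩ : ∃ w, w = xx (1 / lam) * (yy lam)⁻¹ * xx (1 / lam) := ⟨_, rfl⟩
    rw [← hwd] at hw
    have w1 : al w = 0 := by
      rw [hwd]; simp only [al_mul, be_mul, ga_mul, de_mul, al_inv, be_inv, ga_inv, de_inv, al_xx, be_xx, ga_xx, de_xx, al_yy, be_yy, ga_yy, de_yy]
      (try field_simp) <;> (try ring)
    have w2 : be w = 1 / lam := by
      rw [hwd]; simp only [al_mul, be_mul, ga_mul, de_mul, al_inv, be_inv, ga_inv, de_inv, al_xx, be_xx, ga_xx, de_xx, al_yy, be_yy, ga_yy, de_yy]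
      (try field_simp) <;> (try ring)
    have w3 : ga w = - lam := by
      rw [hwd]; simp only [al_mul, be_mul, ga_mul, de_mul, al_inv, be_inv, ga_inv, de_inv, al_xx, be_xx, ga_xx, de_xx, al_yy, be_yy, ga_yy, de_yy]
      (try field_simp) <;> (try ring)
    have w4 : de w = 0 := by
      rw [hwd]; simp only [al_mul, be_mul, ga_mul, de_mul, al_inv, be_inv, ga_inv, de_inv, al_xx, be_xx, ga_xx, de_xx, al_yy, be_yy, ga_yy, de_yy]
      (try field_simp) <;> (try ring)
    have hconj : ∀ s : F, w * xx s * w⁻¹ = yy (- s * lam ^ 2) := by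
      intro s
      apply ext' <;> simp only [al_mul, be_mul, ga_mul, de_mul, al_inv, be_inv, ga_inv, de_inv, al_xx, be_xx, ga_xx, de_xx, al_yy, be_yy, ga_yy, de_yy] <;> simp only [w1, w2, w3, w4] <;> (try field_simp) <;> (try ring)
    have hv : yy (- a₀ * lam ^ 2) ∈ K := by
      rw [← hconj]; exact K.mul_mem (K.mul_mem hw hx) (K.inv_mem hw)
    have h2 := key hv (by
      simp only [ga_yy]
      exact mul_ne_zero (neg_ne_zero.mpr ha₀) (pow_ne_zero 2 hlam))
    have h4 : xx (- 1 / (a₀ * lam ^ 2)) ∈ K := by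
      have := K.mul_mem h2 h1
      rw [← xx_add] at this
      have e : al (yy (-a₀ * lam ^ 2)) / ga (yy (-a₀ * lam ^ 2)) - 1 / lam + 1 / lam =
          - 1 / (a₀ * lam ^ 2) := by
        simp only [al_yy, ga_yy]
        field_simp
        ring
      rwa [e] at this
    have h5 : yy (1 / a₀) ∈ K := by
      have := K.mul_mem (K.mul_mem hw h4) (K.inv_mem hw)
      rw [hconj] at this
      have e : -(-1 / (a₀ * lam ^ 2)) * lam ^ 2 = 1 / a₀ := by field_simp
      rwa [e] at this
    refine ⟨_, h5, Or.inl ?_⟩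
    simp only [ga_yy]
    field_simp
  · -- exceptional case
    have hp3 : p = 3 := by
      rcases (isPGroup_UK (p := p) K).card_eq_or_dvd with h | h
      · omega
      · rw [h3] at h
        exact (Nat.prime_dvd_prime_iff_eq hpF.out Nat.prime_three).mp h
    have h30 : (3 : F) = 0 := by
      have : ((p : ℕ) : F) = 0 := CharP.cast_eq_zero F p
      rw [hp3] at this
      exact_mod_cast this
    have h2 := two_ne_zero' (F := F) hp2
    refine ⟨_, hy, ?_⟩
    simp only [ga_yy]
    have step : ∀ s : F, s ≠ 0 → xx s ∈ K → ((s * lam) ^ 2 = 1 ∨ (2 + s * lam) ^ 4 = -1) := by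
      intro s hs0 hs
      have hg : xx s * yy lam ∈ K := K.mul_mem hs hy
      have hnz : ¬ (xx s * yy lam = 1 ∨ xx s * yy lam = mone) := by
        rw [eq_one_or_mone_iff]
        rintro ⟨-, h, -⟩
        simp at h
        exact hlam h
      have htr : tr (xx s * yy lam) = 2 + s * lam := by simp [tr]; ring
      rcases hall ⟨_, hg⟩ with h | h | h | h
      · exact absurd ((mem_ZK K).mp h) hnz
      · left
        have h' : tr (xx s * yy lam) ^ 2 = 4 := h
        rw [htr] at h'
        have h5 : (s * lam) * (s * lam + 4) = 0 := by linear_combination h'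
        rcases mul_eq_zero.mp h5 with h6 | h6
        · exact absurd h6 (mul_ne_zero hs0 hlam)
        · have : s * lam = -1 := by linear_combination h6 - h30
          rw [this]; ring
      · left
        have h' : (xx s * yy lam) ^ 4 = 1 := by
          have := congrArg Subtype.val h
          simpa using this
        have h5 := tr_eq_zero_of_pow_four h2 hnz h'
        rw [htr] at h5
        have : s * lam = 1 := by linear_combination h5 - h30
        rw [this]; ring
      · right
        have h' : (xx s * yy lam) ^ 10 = 1 := by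
          have := congrArg Subtype.val h
          simpa using this
        have h5 := tr_of_pow_ten h2 hnz h'
        rw [htr] at h5
        linear_combination h5 + (2 + s * lam) ^ 2 * h30
    have hx' : xx (-a₀) ∈ K := by rw [xx_neg]; exact K.inv_mem hx
    rcases step a₀ ha₀ hx with r1 | r1
    · left; exact r1
    rcases step (-a₀) (neg_ne_zero.mpr ha₀) hx' with r2 | r2
    · left; rw [← r2]; ring
    right
    have h6 : (a₀ * lam) * ((a₀ * lam) ^ 2 + 1) = 0 := by
      linear_combination r1 - r2 - (21 * (a₀ * lam) + 5 * (a₀ * lam) ^ 3) * h30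
    have h7 := (mul_eq_zero.mp h6).resolve_left (mul_ne_zero ha₀ hlam)
    linear_combination h7

end main

end Cfsg.Agent.Lib.Helper5.Dk
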