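import Mathlib
import Cfsg.Agent.Lib.Helper5.Dk7

set_option autoImplicit false
set_option linter.unusedSimpArgs false

/-! Two-dimensional constituents of a pair of quadratic elements. -/

namespace Cfsg.Agent.Lib.Helper5.Dk

/-- `X` is a section of `G`. -/
def Sec (G : Type*) [Group G] (X : Type*) [Group X] : Prop :=
  ∃ (K : Subgroup G) (f : ↥K →* X), Function.Surjective f

section rel

variable {Γ Q : Type*} [Group Γ] [Group Q]

/-- a functional relation subgroup gives a homomorphism from its first projection -/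
theorem exists_hom_of_rel (R : Subgroup (Γ × Q))
    (hfun : ∀ g A A', (g, A) ∈ R → (g, A') ∈ R → A = A') :
    ∃ (K : Subgroup Γ) (f : ↥K →* Q), (∀ g, g ∈ K ↔ ∃ A, (g, A) ∈ R) ∧ ∀ g : K, ((g : Γ), f g) ∈ R := by
  classical
  let K : Subgroup Γ := R.map (MonoidHom.fst Γ Q)
  have hK : ∀ g, g ∈ K ↔ ∃ A, (g, A) ∈ R := by
    intro g
    constructor
    · rintro ⟨⟨g', A⟩, h, rfl⟩
      exact ⟨A, h⟩
    · rintro ⟨A, h⟩
      exact ⟨(g, A), h, rfl⟩
  choose F hF using fun g : K => (hK g).mp g.2
  refine ⟨K, MonoidHom.mk' F ?_, hK, hF⟩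
  intro a b
  exact hfun _ _ _ (hF (a * b)) (R.mul_mem (hF a) (hF b))

end rel

section lin

variable {k : Type*} [Field k] {V : Type*} [AddCommGroup V] [Module k V] {Γ : Type*} [Group Γ]

/-- the relation "`g` acts on `⟨u, w⟩` by the matrix `A`" -/
def relSub (ρ : Γ →* Module.End k V) (u w : V) : Subgroup (Γ × S2 k) where
  carrier := {q | ρ q.1 u = al q.2 • u + ga q.2 • w ∧ ρ q.1 w = be q.2 • u + de q.2 • w}
  mul_mem' := by
    rintro ⟨g, A⟩ ⟨g', B⟩ ⟨h1, h2⟩ ⟨h3, h4⟩
    simp only at h1 h2 h3 h4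
    constructor
    · show ρ (g * g') u = al (A * B) • u + ga (A * B) • w
      rw [map_mul, Module.End.mul_apply, h3, map_add, map_smul, map_smul, h1, h2, al_mul, ga_mul]
      module
    · show ρ (g * g') w = be (A * B) • u + de (A * B) • w
      rw [map_mul, Module.End.mul_apply, h4, map_add, map_smul, map_smul, h1, h2, be_mul, de_mul]
      module
  one_mem' := by
    constructor
    · show ρ 1 u = al (1 : S2 k) • u + ga (1 : S2 k) • w
      simp
    · show ρ 1 w = be (1 : S2 k) • u + de (1 : S2 k) • w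
      simp
  inv_mem' := by
    rintro ⟨g, A⟩ ⟨h1, h2⟩
    simp only at h1 h2
    have hd := det_eq A
    have hinv : ∀ z, ρ g⁻¹ (ρ g z) = z := by
      intro z
      rw [← Module.End.mul_apply, ← map_mul, inv_mul_cancel, map_one]; rfl
    constructor
    · show ρ g⁻¹ u = al A⁻¹ • u + ga A⁻¹ • w
      have e : u = ρ g (de A • u - ga A • w) := by
        rw [map_sub, map_smul, map_smul, h1, h2]
        have : de A • (al A • u + ga A • w) - ga A • (be A • u + de A • w) =
            (al A * de A - be A * ga A) • u := by module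
        rw [this, hd, one_smul]
      conv_lhs => rw [e, hinv]
      rw [al_inv, ga_inv]; module
    · show ρ g⁻¹ w = be A⁻¹ • u + de A⁻¹ • w
      have e : w = ρ g (- be A • u + al A • w) := by
        rw [map_add, map_smul, map_smul, h1, h2]
        have : - be A • (al A • u + ga A • w) + al A • (be A • u + de A • w) =
            (al A * de A - be A * ga A) • w := by module
        rw [this, hd, one_smul]
      conv_lhs => rw [e, hinv]
      rw [be_inv, de_inv]

theorem mem_relSub {ρ : Γ →* Module.End k V} {u w : V} {g : Γ} {A : S2 k} :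
    (g, A) ∈ relSub ρ u w ↔ (ρ g u = al A • u + ga A • w ∧ ρ g w = be A • u + de A • w) := Iff.rfl

theorem relSub_fun {ρ : Γ →* Module.End k V} {u w : V}
    (hind : ∀ a b : k, a • u + b • w = 0 → a = 0 ∧ b = 0) (g : Γ) (A A' : S2 k)
    (h : (g, A) ∈ relSub ρ u w) (h' : (g, A') ∈ relSub ρ u w) : A = A' := by
  rw [mem_relSub] at h h'
  have e1 : (al A - al A') • u + (ga A - ga A') • w = 0 := by
    have := h.1.symm.trans h'.1
    have e : (al A - al A') • u + (ga A - ga A') • w =
      (al A • u + ga A • w) - (al A' • u + ga A' • w) := by module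
    rw [e, this, sub_self]
  have e2 : (be A - be A') • u + (de A - de A') • w = 0 := by
    have := h.2.symm.trans h'.2
    have e : (be A - be A') • u + (de A - de A') • w =
      (be A • u + de A • w) - (be A' • u + de A' • w) := by module
    rw [e, this, sub_self]
  obtain ⟨a1, a2⟩ := hind _ _ e1
  obtain ⟨a3, a4⟩ := hind _ _ e2
  exact ext' (sub_eq_zero.mp a1) (sub_eq_zero.mp a3) (sub_eq_zero.mp a2) (sub_eq_zero.mp a4)

/-- basic configuration : `X u = 0`, `w = Y u`, `X w = μ u`, `Y w = 0`. -/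
structure Conf (ρ : Γ →* Module.End k V) (x y : Γ) (u w : V) (μ : k) : Prop where
  hu : u ≠ 0
  hμ : μ ≠ 0
  xu : ρ x u = u
  yu : ρ y u = u + w
  xw : ρ x w = w + μ • u
  yw : ρ y w = w

theorem Conf.ind {ρ : Γ →* Module.End k V} {x y : Γ} {u w : V} {μ : k} (h : Conf ρ x y u w μ) :
    ∀ a b : k, a • u + b • w = 0 → a = 0 ∧ b = 0 := by
  intro a b hab
  have h1 := congrArg (ρ x) hab
  rw [map_add, map_smul, map_smul, h.xu, h.xw, map_zero] at h1
  have h2 : (b * μ) • u = 0 := by
    have e : a • u + b • (w + μ • u) = (a • u + b • w) + (b * μ) • u := by module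
    rw [e, hab, zero_add] at h1
    exact h1
  have hb : b = 0 := by
    rcases smul_eq_zero.mp h2 with h3 | h3
    · exact (mul_eq_zero.mp h3).resolve_right h.hμ
    · exact absurd h3 h.hu
  rw [hb, zero_smul, add_zero] at hab
  exact ⟨(smul_eq_zero.mp hab).resolve_right h.hu, hb⟩

theorem Conf.x_mem {ρ : Γ →* Module.End k V} {x y : Γ} {u w : V} {μ : k} (h : Conf ρ x y u w μ) :
    (x, xx μ) ∈ relSub ρ u w := by
  rw [mem_relSub]
  simp only [al_xx, ga_xx, be_xx, de_xx]
  refine ⟨by rw [h.xu]; module, by rw [h.xw]; module⟩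

theorem Conf.y_mem {ρ : Γ →* Module.End k V} {x y : Γ} {u w : V} {μ : k} (h : Conf ρ x y u w μ) :
    (y, yy 1) ∈ relSub ρ u w := by
  rw [mem_relSub]
  simp only [al_yy, ga_yy, be_yy, de_yy]
  refine ⟨by rw [h.yu]; module, by rw [h.yw]; module⟩

end lin

end Cfsg.Agent.Lib.Helper5.Dk
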