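import Mathlib
import Cfsg.Agent.Lib.Helper5.Qd1
import Cfsg.Agent.Lib.Helper5.Dk8
import Cfsg.Agent.Lib.Helper9.PStable2

set_option autoImplicit false
set_option linter.unusedSimpArgs false

namespace Cfsg.Agent.Lib.Helper5.Dk

open Cfsg.Agent.Lib.Helper9 (addFun autRep QuadAct)

section lin

variable {k : Type*} [Field k] {V : Type*} [AddCommGroup V] [Module k V] {Γ : Type*} [Group Γ]

theorem exists_conf [IsAlgClosed k] [FiniteDimensional k V] (ρ : Γ →* Module.End k V) (x y : Γ)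
    (hx : (ρ x - 1) * (ρ x - 1) = 0) (hy : (ρ y - 1) * (ρ y - 1) = 0)
    (hnil : ¬ IsNilpotent ((ρ x - 1) * (ρ y - 1) + (ρ y - 1) * (ρ x - 1))) :
    ∃ (u w : V) (μ : k), Conf ρ x y u w μ := by
  set X := ρ x - 1 with hX
  set Y := ρ y - 1 with hY
  obtain ⟨μ, v, hμ, hv, hLv⟩ := Cfsg.Agent.Lib.Helper9.exists_nonzero_eigen_of_not_nilpotent _ hnil
  have hXX : ∀ z, X (X z) = 0 := fun z => by
    rw [← Module.End.mul_apply, hx]; rfl
  have hYY : ∀ z, Y (Y z) = 0 := fun z => by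
    rw [← Module.End.mul_apply, hy]; rfl
  have hL : ∀ z, (X * Y + Y * X) z = X (Y z) + Y (X z) := fun z => rfl
  obtain ⟨u, hu0, hXu, hLu⟩ : ∃ u : V, u ≠ 0 ∧ X u = 0 ∧ X (Y u) + Y (X u) = μ • u := by
    by_cases hXv : X v = 0
    · exact ⟨v, hv, hXv, by rw [← hL, hLv]⟩
    · refine ⟨X v, hXv, hXX v, ?_⟩
      rw [hXX, map_zero, add_zero]
      have h1 : X (Y v) + Y (X v) = μ • v := by rw [← hL, hLv]
      have h3 := congrArg X h1
      rw [map_add, hXX, zero_add, map_smul] at h3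
      exact h3
  rw [hXu, map_zero, add_zero] at hLu
  have hρx : ∀ z, ρ x z = z + X z := fun z => by rw [hX]; simp
  have hρy : ∀ z, ρ y z = z + Y z := fun z => by rw [hY]; simp
  refine ⟨u, Y u, μ, hu0, hμ, ?_, ?_, ?_, ?_⟩
  · rw [hρx, hXu, add_zero]
  · rw [hρy]
  · rw [hρx, hLu]
  · rw [hρy, hYY, add_zero]

theorem ga_conj_xx' (g : S2 k) (s : k) : ga (g * xx s * g⁻¹) = - s * (ga g * ga g) := by
  simp only [ga_mul, de_mul, al_inv, ga_inv, be_inv, de_inv, al_xx, ga_xx, be_xx, de_xx]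
  ring

/-- from a configuration to one with parameter `±1`, the second element being a conjugate of `x`. -/
theorem Conf.good_pair [Finite Γ] {p : ℕ} [Fact p.Prime] [CharP k p] (hp2 : p ≠ 2)
    {ρ : Γ →* Module.End k V} {x y : Γ} {u w : V} {μ : k} (h : Conf ρ x y u w μ) :
    ∃ (g : Γ) (w' : V) (κ : k), (κ = 1 ∨ κ = -1) ∧ Conf ρ x (g * x * g⁻¹) u w' κ := by
  have hfun := relSub_fun (ρ := ρ) h.ind
  have hfinR : Finite (relSub ρ u w) := by
    apply Finite.of_injective (fun q : relSub ρ u w => q.1.1)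
    rintro ⟨⟨g, A⟩, hA⟩ ⟨⟨g', B⟩, hB⟩ hgg
    have hgg' : g = g' := hgg
    subst hgg'
    have := hfun g A B hA hB
    subst this
    rfl
  let 𝒦 : Subgroup (S2 k) := (relSub ρ u w).map (MonoidHom.snd Γ (S2 k))
  have hfinK : Finite 𝒦 := by
    apply Finite.of_surjective (fun q : relSub ρ u w => (⟨q.1.2, ⟨q.1, q.2, rfl⟩⟩ : 𝒦))
    rintro ⟨_, q, hq, rfl⟩
    exact ⟨⟨q, hq⟩, rfl⟩
  have hxK : xx μ ∈ 𝒦 := ⟨_, h.x_mem, rfl⟩
  have hyK : yy (1 : k) ∈ 𝒦 := ⟨_, h.y_mem, rfl⟩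
  obtain ⟨A, ⟨⟨g, A'⟩, hgA, rfl⟩, hA⟩ := dickson_lite 𝒦 hp2 h.hμ one_ne_zero hxK hyK
  simp only [MonoidHom.coe_snd] at hA
  have hB : (g * x * g⁻¹, A' * xx μ * A'⁻¹) ∈ relSub ρ u w :=
    (relSub ρ u w).mul_mem ((relSub ρ u w).mul_mem hgA h.x_mem) ((relSub ρ u w).inv_mem hgA)
  obtain ⟨B, hBd⟩ : ∃ B, B = A' * xx μ * A'⁻¹ := ⟨_, rfl⟩
  rw [← hBd] at hB
  have htr : al B + de B = 2 := by
    have := tr_conj (xx μ) A'
    rw [← hBd] at this
    simp only [tr, al_xx, de_xx] at this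
    rw [this]; norm_num
  have hga : ga B = - μ * (ga A' * ga A') := by rw [hBd, ga_conj_xx']
  have hd := det_eq B
  rw [mem_relSub] at hB
  obtain ⟨hB1, hB2⟩ := hB
  refine ⟨g, (al B - 1) • u + ga B • w, μ * ga B, ?_, h.hu, ?_, h.xu, ?_, ?_, ?_⟩
  · rw [hga]
    rcases hA with hA | hA
    · right; linear_combination -hA
    · left; linear_combination -hA
  · rw [hga]
    rcases hA with hA | hA
    · have : μ * (-μ * (ga A' * ga A')) = -1 := by linear_combination -hA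
      rw [this]; norm_num
    · have : μ * (-μ * (ga A' * ga A')) = 1 := by linear_combination -hA
      rw [this]; norm_num
  · rw [hB1]; module
  · rw [map_add, map_smul, map_smul, h.xu, h.xw]; module
  · rw [map_add, map_smul, map_smul, hB1, hB2]
    have e1 : (al B - 1) * al B + ga B * be B = al B - 1 := by
      have : de B = 2 - al B := by linear_combination htr
      rw [this] at hd
      linear_combination -hd
    have e2 : (al B - 1) * ga B + ga B * de B = ga B := by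
      linear_combination (ga B) * htr
    have e3 : (al B - 1) • (al B • u + ga B • w) + ga B • (be B • u + de B • w) =
        ((al B - 1) * al B + ga B * be B) • u + ((al B - 1) * ga B + ga B * de B) • w := by module
    rw [e3, e1, e2]

/-- a configuration over the prime field gives a surjection of a subgroup onto `SL₂(p)`. -/
theorem Conf.exists_hom {p : ℕ} [Fact p.Prime] {V₀ : Type*} [AddCommGroup V₀] [Module (ZMod p) V₀]
    {ρ : Γ →* Module.End (ZMod p) V₀} {x y : Γ} {u w : V₀} {μ : ZMod p} (h : Conf ρ x y u w μ) :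
    ∃ (K : Subgroup Γ) (σ : ↥K →* S2 (ZMod p)), Function.Surjective σ ∧
      ∀ g : K, ((g : Γ), σ g) ∈ relSub ρ u w := by
  obtain ⟨K, σ, hK, hσ⟩ := exists_hom_of_rel (relSub ρ u w) (relSub_fun h.ind)
  refine ⟨K, σ, ?_, hσ⟩
  rw [← MonoidHom.range_eq_top, eq_top_iff, ← closure_zmod p h.hμ one_ne_zero, Subgroup.closure_le]
  rintro _ (rfl | rfl)
  · have hxK : x ∈ K := (hK x).mpr ⟨_, h.x_mem⟩
    exact ⟨⟨x, hxK⟩, relSub_fun h.ind _ _ _ (hσ ⟨x, hxK⟩) h.x_mem⟩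
  · have hyK : y ∈ K := (hK y).mpr ⟨_, h.y_mem⟩
    exact ⟨⟨y, hyK⟩, relSub_fun h.ind _ _ _ (hσ ⟨y, hyK⟩) h.y_mem⟩

end lin

end Cfsg.Agent.Lib.Helper5.Dk
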