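import Mathlib
import Cfsg.Agent.Lib.Helper5.Qd2

set_option autoImplicit false
set_option linter.unusedSimpArgs false

namespace Cfsg.Agent.Lib.Helper5.Dk

open Cfsg.Agent.Lib.Helper9 (addFun autRep QuadAct)

section descent

variable {Γ P : Type*} [Group Γ] [Group P] {p : ℕ} [hpF : Fact p.Prime]

/-- composing an additive function with a linear functional -/
noncomputable def desc (ℓ : Module.Dual (ZMod p) (AlgebraicClosure (ZMod p)))
    (f : addFun (AlgebraicClosure (ZMod p)) P) : addFun (ZMod p) P :=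
  ⟨fun v => ℓ (f.1 v), fun a b => by
    show ℓ (f.1 (a * b)) = ℓ (f.1 a) + ℓ (f.1 b)
    rw [f.2, map_add]⟩

theorem Conf.descend (α : Γ →* MulAut P) {x y : Γ} {u w : addFun (AlgebraicClosure (ZMod p)) P}
    {κ : AlgebraicClosure (ZMod p)} (hκ : κ = 1 ∨ κ = -1)
    (h : Conf ((autRep (AlgebraicClosure (ZMod p)) P).comp α) x y u w κ) :
    ∃ (u₀ w₀ : addFun (ZMod p) P) (κ₀ : ZMod p), Conf ((autRep (ZMod p) P).comp α) x y u₀ w₀ κ₀ := by
  obtain ⟨v₀, hv₀⟩ : ∃ v₀, u.1 v₀ ≠ 0 := by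
    by_contra hcon
    push Not at hcon
    exact h.hu (Subtype.ext (funext hcon))
  obtain ⟨ℓ, hℓ⟩ : ∃ ℓ : Module.Dual (ZMod p) (AlgebraicClosure (ZMod p)), ℓ (u.1 v₀) ≠ 0 := by
    by_contra hcon
    push Not at hcon
    exact hv₀ ((Module.forall_dual_apply_eq_zero_iff (ZMod p) _).mp hcon)
  have hcomm : ∀ (g : Γ) (f : addFun (AlgebraicClosure (ZMod p)) P),
      desc ℓ (((autRep (AlgebraicClosure (ZMod p)) P).comp α) g f) =
        ((autRep (ZMod p) P).comp α) g (desc ℓ f) := fun g f => rfl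
  have hadd : ∀ f f' : addFun (AlgebraicClosure (ZMod p)) P,
      desc ℓ (f + f') = desc ℓ f + desc ℓ f' := by
    intro f f'
    apply Subtype.ext
    funext v
    show ℓ (f.1 v + f'.1 v) = ℓ (f.1 v) + ℓ (f'.1 v)
    rw [map_add]
  have hu₀ : desc ℓ u ≠ 0 := by
    intro h0
    apply hℓ
    have := congrArg (fun f : addFun (ZMod p) P => f.1 v₀) h0
    exact this
  have hxu := congrArg (desc ℓ) h.xu
  have hyu := congrArg (desc ℓ) h.yu
  have hxw := congrArg (desc ℓ) h.xw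
  have hyw := congrArg (desc ℓ) h.yw
  rw [hcomm] at hxu hyu hxw hyw
  rw [hadd] at hyu hxw
  rcases hκ with rfl | rfl
  · refine ⟨desc ℓ u, desc ℓ w, 1, hu₀, one_ne_zero, hxu, hyu, ?_, hyw⟩
    rw [hxw, one_smul, one_smul]
  · refine ⟨desc ℓ u, desc ℓ w, -1, hu₀, neg_ne_zero.mpr one_ne_zero, hxu, hyu, ?_, hyw⟩
    rw [hxw]
    congr 1
    apply Subtype.ext
    funext v
    show ℓ ((-1 : AlgebraicClosure (ZMod p)) * u.1 v) = (-1 : ZMod p) * ℓ (u.1 v)
    rw [neg_one_mul, neg_one_mul, map_neg]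

/-- two quadratic elements generating a group with a `p'`-element acting nontrivially give a
natural `SL₂(p)`-configuration on `Hom(P, F_p)`. -/
theorem exists_conf_zmod [Finite Γ] [Finite P] (hp2 : p ≠ 2) (hP : IsPGroup p P)
    (α : Γ →* MulAut P) (x y : Γ) (hx : QuadAct α x) (hy : QuadAct α y) (h : Γ)
    (hh : h ∈ Subgroup.closure ({x, y} : Set Γ)) (hcop : (orderOf h).Coprime p) (hne : α h ≠ 1) :
    ∃ (g : Γ) (u₀ w₀ : addFun (ZMod p) P) (κ₀ : ZMod p),
      Conf ((autRep (ZMod p) P).comp α) x (g * x * g⁻¹) u₀ w₀ κ₀ := by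
  set ρ := (autRep (AlgebraicClosure (ZMod p)) P).comp α with hρ
  have hqx : (ρ x - 1) * (ρ x - 1) = 0 := Cfsg.Agent.Lib.Helper9.autRep_quad (α x) hx
  have hqy : (ρ y - 1) * (ρ y - 1) = 0 := Cfsg.Agent.Lib.Helper9.autRep_quad (α y) hy
  have hnil : ¬ IsNilpotent ((ρ x - 1) * (ρ y - 1) + (ρ y - 1) * (ρ x - 1)) := by
    intro hnil
    apply hne
    apply Cfsg.Agent.Lib.Helper9.aut_eq_one_of_frattini p hP (α h)
      (Nat.Coprime.coprime_dvd_left (orderOf_map_dvd α h) hcop)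
    intro ψ hψ u
    rw [← MonoidHom.map_zpowers] at hψ
    obtain ⟨g, hg, rfl⟩ := hψ
    have hg' : g⁻¹ ∈ Subgroup.zpowers h := Subgroup.inv_mem _ hg
    have h1 : ρ g⁻¹ = 1 := Cfsg.Agent.Lib.Helper9.quad_unipotent p ρ x y hqx hqy hnil g⁻¹
      ((Subgroup.zpowers_le.mpr hh) hg')
      (Nat.Coprime.coprime_dvd_left (orderOf_dvd_of_mem_zpowers hg') hcop)
    have h3 := Cfsg.Agent.Lib.Helper9.mem_frattini_of_autRep_eq_one (AlgebraicClosure (ZMod p)) hP
      (α g⁻¹) h1 u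
    rw [map_inv, inv_inv] at h3
    exact h3
  obtain ⟨u, w, μ, hc⟩ := exists_conf ρ x y hqx hqy hnil
  obtain ⟨g, w', κ, hκ, hc'⟩ := hc.good_pair (p := p) hp2
  obtain ⟨u₀, w₀, κ₀, hc₀⟩ := hc'.descend α hκ
  exact ⟨g, u₀, w₀, κ₀, hc₀⟩

/-- `p`-stability or a natural `SL₂(p)` configuration. -/
theorem mk_mem_pCore_or_conf [Finite Γ] [Finite P] (hp2 : p ≠ 2) (hP : IsPGroup p P)
    (α : Γ →* MulAut P) (C : Subgroup Γ) [C.Normal] (hC : α.ker ≤ C) (a : Γ) (ha : QuadAct α a) :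
    QuotientGroup.mk' C a ∈ Cfsg.pCore p (Γ ⧸ C) ∨
    ∃ (x y : Γ) (u₀ w₀ : addFun (ZMod p) P) (κ₀ : ZMod p),
      Conf ((autRep (ZMod p) P).comp α) x y u₀ w₀ κ₀ := by
  by_cases hall : ∀ x y, QuadAct α x → QuadAct α y → ∀ h ∈ Subgroup.closure ({x, y} : Set Γ),
      (orderOf h).Coprime p → α h = 1
  · left
    exact Cfsg.Agent.Lib.Helper9.mk_mem_pCore_of_key' p (QuadAct α)
      (fun _ g hx => Cfsg.Agent.Lib.Helper9.quadAct_conj hx g) C
      (fun x y hx hy h hh hcop => hC (hall x y hx hy h hh hcop)) a ha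
  · right
    push Not at hall
    obtain ⟨x, y, hx, hy, h, hh, hcop, hne⟩ := hall
    obtain ⟨g, u₀, w₀, κ₀, hc⟩ := exists_conf_zmod hp2 hP α x y hx hy h hh hcop hne
    exact ⟨x, _, u₀, w₀, κ₀, hc⟩

end descent

/-- from a surjection of a subgroup of a subgroup to the section format of the statements -/
theorem sec_format {G T : Type*} [Group G] [Group T] (H : Subgroup G) (K₁ : Subgroup H)
    (σ : K₁ →* T) (hσ : Function.Surjective σ) :
    ∃ (K L : Subgroup G) (_ : (L.subgroupOf K).Normal), K ≤ H ∧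
      Nonempty ((K ⧸ L.subgroupOf K) ≃* T) := by
  let e := K₁.equivMapOfInjective H.subtype H.subtype_injective
  let f : ↥(K₁.map H.subtype) →* T := σ.comp e.symm.toMonoidHom
  have hf : Function.Surjective f := hσ.comp e.symm.surjective
  have hL : (f.ker.map (K₁.map H.subtype).subtype).subgroupOf (K₁.map H.subtype) = f.ker :=
    Subgroup.comap_map_eq_self_of_injective (Subgroup.subtype_injective _) _
  have hn : ((f.ker.map (K₁.map H.subtype).subtype).subgroupOf (K₁.map H.subtype)).Normal := by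
    rw [hL]; infer_instance
  refine ⟨K₁.map H.subtype, f.ker.map (K₁.map H.subtype).subtype, hn, Subgroup.map_subtype_le _, ?_⟩
  exact ⟨(QuotientGroup.quotientMulEquivOfEq hL).trans (QuotientGroup.quotientKerEquivOfSurjective f hf)⟩

end Cfsg.Agent.Lib.Helper5.Dk
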