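import Mathlib
import Cfsg.Agent.Lib.Helper5.Qd3
import Cfsg.Prelude.Def_LocalEven

set_option autoImplicit false
set_option linter.unusedSimpArgs false

/-! API for `Sec`, Frattini lifting of normalizers, and the normalizer form of
"not `p`-stable implies a natural `SL₂(p)` configuration". -/

namespace Cfsg.Agent.Lib.Helper5.Dk

open Cfsg.Agent.Lib.Helper9 (addFun autRep QuadAct QuadOn actOn)

section sec

variable {A B Y Z : Type*} [Group A] [Group B] [Group Y] [Group Z]

theorem Sec.of_injective (ι : A →* B) (hι : Function.Injective ι) (h : Sec A Y) : Sec B Y := by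
  obtain ⟨K, f, hf⟩ := h
  exact ⟨K.map ι, f.comp (K.equivMapOfInjective ι hι).symm.toMonoidHom,
    hf.comp (K.equivMapOfInjective ι hι).symm.surjective⟩

theorem Sec.of_subgroup {H : Subgroup B} (h : Sec H Y) : Sec B Y :=
  h.of_injective H.subtype H.subtype_injective

theorem Sec.of_surjective (π : A →* B) (hπ : Function.Surjective π) (h : Sec B Y) : Sec A Y := by
  obtain ⟨K, f, hf⟩ := h
  exact ⟨K.comap π, f.comp (π.subgroupComap K),
    hf.comp (π.subgroupComap_surjective_of_surjective K hπ)⟩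

theorem Sec.of_le {H H' : Subgroup B} (hle : H ≤ H') (h : Sec H Y) : Sec H' Y :=
  h.of_injective (Subgroup.inclusion hle) (Subgroup.inclusion_injective hle)

theorem Sec.trans (h : Sec A B) (h' : Sec B Y) : Sec A Y := by
  obtain ⟨K, f, hf⟩ := h
  exact (h'.of_surjective f hf).of_subgroup

theorem Sec.of_hom (f : A →* Y) (hf : Function.Surjective f) : Sec A Y :=
  ⟨⊤, f.comp (⊤ : Subgroup A).subtype, fun y => by
    obtain ⟨a, rfl⟩ := hf y
    exact ⟨⟨a, trivial⟩, rfl⟩⟩

theorem Sec.congr (e : Y ≃* Z) (h : Sec A Y) : Sec A Z := by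
  obtain ⟨K, f, hf⟩ := h
  exact ⟨K, e.toMonoidHom.comp f, e.surjective.comp hf⟩

theorem Sec.mk_quot (K R : Subgroup A) [(R.subgroupOf K).Normal] : Sec A (↥K ⧸ R.subgroupOf K) :=
  ⟨K, QuotientGroup.mk' _, QuotientGroup.mk'_surjective _⟩

theorem Sec.format (h : Sec A Y) :
    ∃ (K L : Subgroup A) (_ : (L.subgroupOf K).Normal), Nonempty ((K ⧸ L.subgroupOf K) ≃* Y) := by
  obtain ⟨K, f, hf⟩ := h
  have hL : (f.ker.map K.subtype).subgroupOf K = f.ker :=
    Subgroup.comap_map_eq_self_of_injective (Subgroup.subtype_injective _) _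
  have hn : ((f.ker.map K.subtype).subgroupOf K).Normal := by
    rw [hL]; infer_instance
  exact ⟨K, f.ker.map K.subtype, hn,
    ⟨(QuotientGroup.quotientMulEquivOfEq hL).trans (QuotientGroup.quotientKerEquivOfSurjective f hf)⟩⟩

theorem sec_iff_involves : Sec A Y ↔ Cfsg.Involves Y A := by
  constructor
  · intro h
    exact h.format
  · rintro ⟨K, R, hR, ⟨e⟩⟩
    exact (Sec.mk_quot K R).congr e

theorem Sec.normalizer_map (ι : A →* B) (hι : Function.Injective ι) (P : Subgroup A)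
    (h : Sec ↥(Subgroup.normalizer (P : Set A)) Y) :
    Sec ↥(Subgroup.normalizer ((P.map ι : Subgroup B) : Set B)) Y := by
  refine h.of_injective ((ι.comp (Subgroup.normalizer (P : Set A)).subtype).codRestrict _ ?_) ?_
  · intro n
    exact Subgroup.le_normalizer_map ι ⟨n, n.2, rfl⟩
  · intro a b hab
    have := congrArg Subtype.val hab
    exact Subtype.ext (hι this)

end sec

section frattini

variable {K X Y : Type*} [Group K] [Group X] [Group Y] {p : ℕ} [hpF : Fact p.Prime]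

theorem exists_lift_normal [Finite K] (π : K →* X) (hπ : Function.Surjective π) (Q : Subgroup X)
    [Q.Normal] (hQ : IsPGroup p Q) :
    ∃ P : Subgroup K, IsPGroup p P ∧ P.map π = Q ∧
      (Subgroup.normalizer (P : Set K)).map π = ⊤ := by
  classical
  set N := Q.comap π with hN
  have : N.Normal := inferInstance
  obtain ⟨P₀⟩ : Nonempty (Sylow p N) := inferInstance
  have hsur : Function.Surjective (π.subgroupComap Q) :=
    π.subgroupComap_surjective_of_surjective Q hπ
  have htop : ((P₀ : Subgroup N).map (π.subgroupComap Q)) = ⊤ := by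
    have h1 := (P₀.mapSurjective hsur).is_maximal' (Q := ⊤) (hQ.of_equiv Subgroup.topEquiv.symm) le_top
    exact h1.symm
  have hmap : ((P₀ : Subgroup N).map N.subtype).map π = Q := by
    apply le_antisymm
    · rintro _ ⟨_, ⟨a, _, rfl⟩, rfl⟩
      exact a.2
    · intro q hq
      have : (⟨q, hq⟩ : Q) ∈ ((P₀ : Subgroup N).map (π.subgroupComap Q)) := by rw [htop]; trivial
      obtain ⟨a, ha, hab⟩ := this
      exact ⟨a, ⟨a, ha, rfl⟩, congrArg Subtype.val hab⟩
  refine ⟨(P₀ : Subgroup N).map N.subtype, P₀.isPGroup'.map _, hmap, ?_⟩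
  have hfr := Sylow.normalizer_sup_eq_top P₀
  have h2 := congrArg (Subgroup.map π) hfr
  rw [Subgroup.map_sup, Subgroup.map_comap_eq_self_of_surjective hπ,
    ← MonoidHom.range_eq_map, MonoidHom.range_eq_top.mpr hπ] at h2
  rw [← h2]
  symm
  apply sup_eq_left.mpr
  rw [← hmap]
  exact Subgroup.map_mono Subgroup.le_normalizer

theorem exists_lift_sec [Finite K] (π : K →* X) (hπ : Function.Surjective π) (Q : Subgroup X)
    (hQ : IsPGroup p Q) (hQ1 : Q ≠ ⊥) (h : Sec ↥(Subgroup.normalizer (Q : Set X)) Y) :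
    ∃ P : Subgroup K, IsPGroup p P ∧ P ≠ ⊥ ∧ Sec ↥(Subgroup.normalizer (P : Set K)) Y := by
  set NX := Subgroup.normalizer (Q : Set X) with hNX
  set K' := NX.comap π with hK'
  have hsur : Function.Surjective (π.subgroupComap NX) :=
    π.subgroupComap_surjective_of_surjective NX hπ
  have : (Q.subgroupOf NX).Normal := Subgroup.normal_in_normalizer
  have hQ' : IsPGroup p (Q.subgroupOf NX) :=
    hQ.comap_of_injective NX.subtype NX.subtype_injective
  obtain ⟨P', hP', hmap, hnorm⟩ := exists_lift_normal (π.subgroupComap NX) hsur (Q.subgroupOf NX) hQ'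
  refine ⟨P'.map K'.subtype, hP'.map _, ?_, ?_⟩
  · intro hbot
    rw [(Subgroup.map_eq_bot_iff_of_injective _ K'.subtype_injective)] at hbot
    rw [hbot, Subgroup.map_bot] at hmap
    apply hQ1
    rw [eq_bot_iff]
    intro q hq
    have : (⟨q, Subgroup.le_normalizer hq⟩ : NX) ∈ Q.subgroupOf NX := hq
    rw [← hmap, Subgroup.mem_bot] at this
    exact Subgroup.mem_bot.mpr (congrArg Subtype.val this)
  · apply Sec.normalizer_map K'.subtype K'.subtype_injective
    refine h.of_surjective ((π.subgroupComap NX).comp (Subgroup.normalizer (P' : Set K')).subtype) ?_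
    intro n
    have : n ∈ (Subgroup.normalizer (P' : Set K')).map (π.subgroupComap NX) := by
      rw [hnorm]; trivial
    obtain ⟨a, ha, rfl⟩ := this
    exact ⟨⟨a, ha⟩, rfl⟩

end frattini

section nps

variable {Γ : Type*} [Group Γ] {p : ℕ} [hpF : Fact p.Prime]

theorem ker_actOn_le (P H : Subgroup Γ) (hH : H ≤ Subgroup.normalizer (P : Set Γ)) :
    (actOn P H hH).ker ≤ (Subgroup.centralizer (P : Set Γ)).subgroupOf H := fun _ hh =>
  Cfsg.Agent.Lib.Helper9.mem_centralizer_of_mem_ker_actOn P H hH hh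

theorem nps_or_conf [Finite Γ] (hp2 : p ≠ 2) (P : Subgroup Γ) (hP : IsPGroup p P) (g : Γ)
    (hg : g ∈ Subgroup.normalizer (P : Set Γ)) (hq : QuadOn P g) :
    (QuotientGroup.mk (s := (Subgroup.centralizer (P : Set Γ)).subgroupOf (Subgroup.normalizer (P : Set Γ)))
          (⟨g, hg⟩ : ↥(Subgroup.normalizer (P : Set Γ)))) ∈
        Cfsg.pCore p (↥(Subgroup.normalizer (P : Set Γ)) ⧸
          (Subgroup.centralizer (P : Set Γ)).subgroupOf (Subgroup.normalizer (P : Set Γ))) ∨
    ∃ (x y : ↥(Subgroup.normalizer (P : Set Γ))) (u₀ w₀ : addFun (ZMod p) P) (κ₀ : ZMod p),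
      Conf ((autRep (ZMod p) P).comp (actOn P (Subgroup.normalizer (P : Set Γ)) le_rfl)) x y u₀ w₀ κ₀ :=
  mk_mem_pCore_or_conf hp2 hP (actOn P (Subgroup.normalizer (P : Set Γ)) le_rfl) _
    (ker_actOn_le P _ le_rfl) ⟨g, hg⟩
    (Cfsg.Agent.Lib.Helper9.quadAct_actOn P _ le_rfl ⟨g, hg⟩ hq)

theorem ne_bot_of_addFun_ne_zero {k : Type*} [Field k] (P : Subgroup Γ) (u : addFun k P) (hu : u ≠ 0) :
    P ≠ ⊥ := by
  rintro rfl
  apply hu
  apply Subtype.ext
  funext v
  have hv : v = 1 := Subtype.ext (Subgroup.mem_bot.mp v.2)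
  have h1 := u.2 1 1
  rw [mul_one] at h1
  rw [hv]
  show u.1 1 = 0
  exact left_eq_add.mp h1

theorem nps_or_sec [Finite Γ] (hp2 : p ≠ 2) (P : Subgroup Γ) (hP : IsPGroup p P) (g : Γ)
    (hg : g ∈ Subgroup.normalizer (P : Set Γ)) (hq : QuadOn P g) :
    (QuotientGroup.mk (s := (Subgroup.centralizer (P : Set Γ)).subgroupOf (Subgroup.normalizer (P : Set Γ)))
          (⟨g, hg⟩ : ↥(Subgroup.normalizer (P : Set Γ)))) ∈
        Cfsg.pCore p (↥(Subgroup.normalizer (P : Set Γ)) ⧸
          (Subgroup.centralizer (P : Set Γ)).subgroupOf (Subgroup.normalizer (P : Set Γ))) ∨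
    (P ≠ ⊥ ∧ Sec ↥(Subgroup.normalizer (P : Set Γ)) (S2 (ZMod p))) := by
  rcases nps_or_conf hp2 P hP g hg hq with h | ⟨x, y, u₀, w₀, κ₀, hc⟩
  · exact Or.inl h
  · right
    obtain ⟨K₁, σ, hσ, -⟩ := hc.exists_hom
    exact ⟨ne_bot_of_addFun_ne_zero P u₀ hc.hu, K₁, σ, hσ⟩

end nps

end Cfsg.Agent.Lib.Helper5.Dk
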