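import Mathlib
import Cfsg.Agent.Lib.Helper5.Qd4
import Cfsg.Prelude.Def_PLocal

set_option autoImplicit false
set_option linter.unusedSimpArgs false

/-! Coordinates on `Qd(p)` and the abstract recognition of `Qd(p)` as a section. -/

namespace Cfsg.Agent.Lib.Helper5.Dk

section aff

variable {k : Type*} [Field k]

/-- the affine matrix with linear part `A` and translation part `(a, b)` -/
def aff (A : S2 k) (a b : k) : Matrix.SpecialLinearGroup (Fin 3) k :=
  ⟨!![al A, be A, a; ga A, de A, b; 0, 0, 1], by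
    rw [Matrix.det_fin_three]
    simp
    exact det_eq A⟩

theorem aff_val (A : S2 k) (a b : k) :
    (aff A a b).1 = !![al A, be A, a; ga A, de A, b; 0, 0, 1] := rfl

theorem aff_mul (A B : S2 k) (a b c d : k) :
    aff A a b * aff B c d = aff (A * B) (al A * c + be A * d + a) (ga A * c + de A * d + b) := by
  apply Subtype.ext
  rw [Matrix.SpecialLinearGroup.coe_mul, aff_val, aff_val, aff_val]
  ext i j
  fin_cases i <;> fin_cases j <;> simp [Matrix.mul_apply, Fin.sum_univ_three]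

theorem aff_one : aff (1 : S2 k) 0 0 = 1 := by
  apply Subtype.ext
  rw [aff_val]
  ext i j
  fin_cases i <;> fin_cases j <;> simp

theorem aff_inv (A : S2 k) (a b : k) :
    (aff A a b)⁻¹ = aff A⁻¹ (-(de A * a) + be A * b) (ga A * a - al A * b) := by
  apply inv_eq_of_mul_eq_one_right
  rw [aff_mul, ← aff_one]
  have hd := det_eq A
  congr 1
  · exact mul_inv_cancel A
  · linear_combination (-a) * hd
  · linear_combination (-b) * hd

theorem aff_inj {A B : S2 k} {a b c d : k} (h : aff A a b = aff B c d) : A = B ∧ a = c ∧ b = d := by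
  have h1 := congrArg Subtype.val h
  rw [aff_val, aff_val] at h1
  refine ⟨ext' ?_ ?_ ?_ ?_, ?_, ?_⟩
  · simpa using congrFun (congrFun h1 0) 0
  · simpa using congrFun (congrFun h1 0) 1
  · simpa using congrFun (congrFun h1 1) 0
  · simpa using congrFun (congrFun h1 1) 1
  · simpa using congrFun (congrFun h1 0) 2
  · simpa using congrFun (congrFun h1 1) 2

theorem exists_aff_of_row (M : Matrix.SpecialLinearGroup (Fin 3) k) (h0 : M.1 2 0 = 0)
    (h1 : M.1 2 1 = 0) (h2 : M.1 2 2 = 1) : ∃ A a b, M = aff A a b := by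
  have hdet := M.2
  rw [Matrix.det_fin_three, h0, h1, h2] at hdet
  refine ⟨mk4 (M.1 0 0) (M.1 0 1) (M.1 1 0) (M.1 1 1) (by linear_combination hdet), M.1 0 2, M.1 1 2, ?_⟩
  apply Subtype.ext
  rw [aff_val]
  ext i j
  fin_cases i <;> fin_cases j <;> simp [h0, h1, h2]

end aff

section qd

variable {p : ℕ} [hpF : Fact p.Prime]

theorem aff_mem_qd (A : S2 (ZMod p)) (a b : ZMod p) : aff A a b ∈ Cfsg.qd p := by
  apply Subgroup.subset_closure
  refine ⟨?_, ?_, ?_⟩ <;> simp [aff_val]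

theorem exists_aff_of_mem_qd {M : Matrix.SpecialLinearGroup (Fin 3) (ZMod p)} (hM : M ∈ Cfsg.qd p) :
    ∃ A a b, M = aff A a b := by
  unfold Cfsg.qd at hM
  induction hM using Subgroup.closure_induction with
  | mem x hx => exact exists_aff_of_row x hx.1 hx.2.1 hx.2.2
  | one => exact ⟨1, 0, 0, aff_one.symm⟩
  | mul x y _ _ hx hy =>
    obtain ⟨A, a, b, rfl⟩ := hx
    obtain ⟨B, c, d, rfl⟩ := hy
    exact ⟨_, _, _, aff_mul A B a b c d⟩
  | inv x _ hx =>
    obtain ⟨A, a, b, rfl⟩ := hx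
    exact ⟨_, _, _, aff_inv A a b⟩

end qd

section twohoms

variable {S E X : Type*} [Group S] [Group E] [Group X]

theorem Sec.of_two_homs (F₁ : S →* E) (F₂ : S →* X) (hker : F₁.ker ≤ F₂.ker)
    (hsurj : Function.Surjective F₂) : Sec E X := by
  refine ⟨F₁.range, (QuotientGroup.lift F₁.ker F₂ hker).comp
    (QuotientGroup.quotientKerEquivRange F₁).symm.toMonoidHom, ?_⟩
  intro x
  obtain ⟨s, rfl⟩ := hsurj x
  refine ⟨QuotientGroup.quotientKerEquivRange F₁ (QuotientGroup.mk s), ?_⟩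
  simp

end twohoms

section abstract

variable {p : ℕ} [hpF : Fact p.Prime] {E Y : Type*} [Group E] [Group Y]

theorem sec_qd_of_data (P : Subgroup E) (ι : Y →* E) (φ : Y →* MulAut P)
    (hφ : ∀ y (v : P), ((φ y v : P) : E) = ι y * v * (ι y)⁻¹)
    (θ₁ θ₂ : P → ZMod p) (h₁ : ∀ a b, θ₁ (a * b) = θ₁ a + θ₁ b)
    (h₂ : ∀ a b, θ₂ (a * b) = θ₂ a + θ₂ b)
    (hθ : ∀ a b, ∃ v, θ₁ v = a ∧ θ₂ v = b)
    (τ : Y →* S2 (ZMod p)) (hτ : Function.Surjective τ)
    (heq₁ : ∀ y v, θ₁ (φ y v) = al (τ y) * θ₁ v + be (τ y) * θ₂ v)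
    (heq₂ : ∀ y v, θ₂ (φ y v) = ga (τ y) * θ₁ v + de (τ y) * θ₂ v)
    (hker : ∀ y (v : P), ι y = v → θ₁ v = 0 ∧ θ₂ v = 0 ∧ τ y = 1) : Sec E ↥(Cfsg.qd p) := by
  let f₁ : P →* Matrix.SpecialLinearGroup (Fin 3) (ZMod p) :=
    MonoidHom.mk' (fun v => aff 1 (θ₁ v) (θ₂ v)) (by
      intro a b
      rw [aff_mul, h₁, h₂]
      congr 1
      · simp
      · simp [add_comm]
      · simp [add_comm])
  let f₂ : Y →* Matrix.SpecialLinearGroup (Fin 3) (ZMod p) :=
    MonoidHom.mk' (fun y => aff (τ y) 0 0) (by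
      intro a b
      rw [aff_mul, map_mul]
      congr 1 <;> simp)
  let F₁ : P ⋊[φ] Y →* E := SemidirectProduct.lift P.subtype ι (by
    intro y
    ext v
    simp [hφ])
  let F₂ : P ⋊[φ] Y →* Matrix.SpecialLinearGroup (Fin 3) (ZMod p) := SemidirectProduct.lift f₁ f₂ (by
    intro y
    ext1 v
    show aff 1 (θ₁ (φ y v)) (θ₂ (φ y v)) = aff (τ y) 0 0 * aff 1 (θ₁ v) (θ₂ v) * (aff (τ y) 0 0)⁻¹
    rw [aff_inv, aff_mul, aff_mul, heq₁, heq₂]
    congr 1
    · simp
    · simp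
    · simp)
  have hF₁ : ∀ s : P ⋊[φ] Y, F₁ s = s.left * ι s.right := fun s => rfl
  have hF₂ : ∀ s : P ⋊[φ] Y, F₂ s = aff (τ s.right) (θ₁ s.left) (θ₂ s.left) := by
    intro s
    show aff 1 (θ₁ s.left) (θ₂ s.left) * aff (τ s.right) 0 0 = _
    rw [aff_mul]
    congr 1 <;> simp
  have hrange : F₂.range = Cfsg.qd p := by
    apply le_antisymm
    · rintro _ ⟨s, rfl⟩
      rw [hF₂]
      exact aff_mem_qd _ _ _
    · intro M hM
      obtain ⟨A, a, b, rfl⟩ := exists_aff_of_mem_qd hM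
      obtain ⟨v, hv1, hv2⟩ := hθ a b
      obtain ⟨y, hy⟩ := hτ A
      exact ⟨⟨v, y⟩, by rw [hF₂]; simp [hv1, hv2, hy]⟩
  have hsec : Sec E ↥F₂.range := by
    apply Sec.of_two_homs F₁ F₂.rangeRestrict _ F₂.rangeRestrict_surjective
    intro s hs
    rw [MonoidHom.mem_ker, hF₁] at hs
    have hs' : ι s.right = ((s.left⁻¹ : P) : E) := by
      rw [Subgroup.coe_inv]
      exact (inv_eq_of_mul_eq_one_right hs).symm
    obtain ⟨e1, e2, e3⟩ := hker _ _ hs'
    have z1 : θ₁ 1 = 0 := by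
      have := h₁ 1 1
      rw [mul_one] at this
      exact left_eq_add.mp this
    have z2 : θ₂ 1 = 0 := by
      have := h₂ 1 1
      rw [mul_one] at this
      exact left_eq_add.mp this
    have e1' : θ₁ s.left = 0 := by
      have := h₁ s.left s.left⁻¹
      rw [mul_inv_cancel, z1, e1, add_zero] at this
      exact this.symm
    have e2' : θ₂ s.left = 0 := by
      have := h₂ s.left s.left⁻¹
      rw [mul_inv_cancel, z2, e2, add_zero] at this
      exact this.symm
    rw [MonoidHom.mem_ker]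
    apply Subtype.ext
    show F₂ s = 1
    rw [hF₂, e1', e2', e3, aff_one]
  exact hsec.congr (MulEquiv.subgroupCongr hrange)

end abstract

end Cfsg.Agent.Lib.Helper5.Dk
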