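import Mathlib
import Cfsg.Agent.Lib.Helper5.Qd5

set_option autoImplicit false
set_option linter.unusedSimpArgs false

/-! A natural `SL₂(p)`-configuration on `Hom(P, F_p)` gives a section `Qd(p)`. -/

namespace Cfsg.Agent.Lib.Helper5.Dk

open Cfsg.Agent.Lib.Helper9 (addFun autRep QuadAct QuadOn actOn)

section surj

variable {p : ℕ} [hpF : Fact p.Prime] {P : Type*} [Group P]

theorem addFun_pow (f : addFun (ZMod p) P) (v : P) (n : ℕ) : f.1 (v ^ n) = n * f.1 v := by
  induction n with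
  | zero => simp [Cfsg.Agent.Lib.Helper9.addFun_one]
  | succ n ih => rw [pow_succ, f.2, ih]; push_cast; ring

/-- two independent additive functions give a surjection onto `F_p²` -/
theorem exists_pair_of_ind (u w : addFun (ZMod p) P)
    (hind : ∀ a b : ZMod p, a • u + b • w = 0 → a = 0 ∧ b = 0) (a b : ZMod p) :
    ∃ v : P, u.1 v = a ∧ w.1 v = b := by
  have hu : u ≠ 0 := by
    rintro rfl
    have := (hind 1 0 (by simp)).1
    exact one_ne_zero this
  obtain ⟨v₁, hv₁⟩ : ∃ v₁, u.1 v₁ ≠ 0 := by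
    by_contra hcon
    push Not at hcon
    exact hu (Subtype.ext (funext hcon))
  set c := w.1 v₁ / u.1 v₁ with hc
  obtain ⟨v₂, hv₂⟩ : ∃ v₂, w.1 v₂ - c * u.1 v₂ ≠ 0 := by
    by_contra hcon
    push Not at hcon
    have h0 : (-c) • u + (1 : ZMod p) • w = 0 := by
      apply Subtype.ext
      funext v
      show (-c) * u.1 v + 1 * w.1 v = 0
      linear_combination hcon v
    exact one_ne_zero (hind _ _ h0).2
  -- solve m θ(v₁) + n θ(v₂) = (a, b)
  set D := w.1 v₂ - c * u.1 v₂ with hD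
  set n := (b - c * a) / D with hn
  set m := (a - n * u.1 v₂) / u.1 v₁ with hm
  refine ⟨v₁ ^ m.val * v₂ ^ n.val, ?_, ?_⟩
  · rw [u.2, addFun_pow, addFun_pow, ZMod.natCast_zmod_val, ZMod.natCast_zmod_val, hm]
    field_simp
    ring
  · rw [w.2, addFun_pow, addFun_pow, ZMod.natCast_zmod_val, ZMod.natCast_zmod_val]
    have hw1 : w.1 v₁ = c * u.1 v₁ := by rw [hc]; field_simp
    have hmm : m * u.1 v₁ = a - n * u.1 v₂ := by rw [hm]; field_simp
    have hnn : n * D = b - c * a := by rw [hn]; field_simp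
    rw [hw1]
    linear_combination c * hmm + hnn

end surj

section main

variable {Γ : Type*} [Group Γ] {p : ℕ} [hpF : Fact p.Prime]

theorem zpowers_mone_normal {k : Type*} [Field k] : (Subgroup.zpowers (mone : S2 k)).Normal := by
  constructor
  intro n hn g
  obtain ⟨j, rfl⟩ := hn
  have hc0 : Commute g (mone : S2 k) := (mone_comm g).symm
  have hc : Commute g ((mone : S2 k) ^ j) := hc0.zpow_right j
  have : g * (mone : S2 k) ^ j * g⁻¹ = (mone : S2 k) ^ j := by
    rw [hc.eq, mul_inv_cancel_right]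
  show g * (mone : S2 k) ^ j * g⁻¹ ∈ _
  rw [this]
  exact ⟨j, rfl⟩

theorem zpowers_mone_isPGroup {k : Type*} [Field k] : IsPGroup 2 (Subgroup.zpowers (mone : S2 k)) := by
  rintro ⟨z, j, rfl⟩
  refine ⟨1, Subtype.ext ?_⟩
  show ((mone : S2 k) ^ j) ^ 2 ^ 1 = 1
  rw [pow_one, ← zpow_natCast, ← zpow_mul, mul_comm, zpow_mul]
  have : (mone : S2 k) ^ ((2 : ℕ) : ℤ) = 1 := by
    rw [zpow_natCast, pow_two, mone_mul_mone]
  rw [this, one_zpow]

theorem Conf.sec_qd [Finite Γ] (hp2 : p ≠ 2) (P : Subgroup Γ) (hP : IsPGroup p P) (H : Subgroup Γ)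
    (hH : H ≤ Subgroup.normalizer (P : Set Γ)) {x y : H} {u₀ w₀ : addFun (ZMod p) P} {κ₀ : ZMod p}
    (hc : Conf ((autRep (ZMod p) P).comp (actOn P H hH)) x y u₀ w₀ κ₀) : Sec Γ ↥(Cfsg.qd p) := by
  classical
  obtain ⟨K₁, σ, hσ, hrel⟩ := hc.exists_hom
  have hQn : (Subgroup.zpowers (mone : S2 (ZMod p))).Normal := zpowers_mone_normal
  obtain ⟨T, hT, hTmap, hTnorm⟩ := exists_lift_normal (p := 2) σ hσ
    (Subgroup.zpowers (mone : S2 (ZMod p))) zpowers_mone_isPGroup
  obtain ⟨t, htT, htσ⟩ : ∃ t ∈ T, σ t = mone := by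
    have : (mone : S2 (ZMod p)) ∈ T.map σ := by rw [hTmap]; exact Subgroup.mem_zpowers _
    exact this
  set NT := Subgroup.normalizer (T : Set K₁) with hNT
  have h2ne : (2 : ZMod p) ≠ 0 := by
    intro h
    have h' : ((2 : ℕ) : ZMod p) = 0 := by exact_mod_cast h
    rw [ZMod.natCast_eq_zero_iff] at h'
    exact hp2 ((Nat.prime_dvd_prime_iff_eq hpF.out Nat.prime_two).mp h')
  -- equivariance
  have hact : ∀ (g : K₁) (v : P),
      u₀.1 (actOn P H hH g v) = de (σ g) * u₀.1 v - ga (σ g) * w₀.1 v ∧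
      w₀.1 (actOn P H hH g v) = - be (σ g) * u₀.1 v + al (σ g) * w₀.1 v := by
    intro g v
    have h := hrel g⁻¹
    rw [mem_relSub, map_inv, al_inv, be_inv, ga_inv, de_inv] at h
    have h1 := congrArg (fun f : addFun (ZMod p) P => f.1 v) h.1
    have h2 := congrArg (fun f : addFun (ZMod p) P => f.1 v) h.2
    have e : ∀ f : addFun (ZMod p) P,
        (((autRep (ZMod p) P).comp (actOn P H hH)) ((g⁻¹ : K₁) : H) f).1 v = f.1 (actOn P H hH g v) := by
      intro f
      show f.1 ((actOn P H hH ((g⁻¹ : K₁) : H))⁻¹ v) = _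
      rw [Subgroup.coe_inv, map_inv, inv_inv]
    simp only [e] at h1 h2
    constructor
    · rw [h1]
      show de (σ g) * u₀.1 v + (- ga (σ g)) * w₀.1 v = _
      ring
    · rw [h2]
      rfl
  apply sec_qd_of_data P (H.subtype.comp (K₁.subtype.comp NT.subtype))
    ((actOn P H hH).comp (K₁.subtype.comp NT.subtype)) (fun y v => rfl)
    (fun v => - w₀.1 v) (fun v => u₀.1 v) (fun a b => by rw [w₀.2]; ring) (fun a b => u₀.2 a b)
    (fun a b => by
      obtain ⟨v, h1, h2⟩ := exists_pair_of_ind u₀ w₀ hc.ind b (-a)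
      exact ⟨v, by rw [h2, neg_neg], h1⟩)
    (σ.comp NT.subtype)
  · intro A
    have : A ∈ NT.map σ := by rw [hTnorm]; trivial
    obtain ⟨n, hn, rfl⟩ := this
    exact ⟨⟨n, hn⟩, rfl⟩
  · intro y v
    have := (hact (y : K₁) v).2
    show - w₀.1 (actOn P H hH (y : K₁) v) = al (σ y) * (- w₀.1 v) + be (σ y) * u₀.1 v
    rw [this]; ring
  · intro y v
    have := (hact (y : K₁) v).1
    show u₀.1 (actOn P H hH (y : K₁) v) = ga (σ y) * (- w₀.1 v) + de (σ y) * u₀.1 v
    rw [this]; ring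
  · intro y v hyv
    have hyv' : (((y : K₁) : H) : Γ) = v := hyv
    -- `y` acts on `P` as an inner automorphism
    have hinner : ∀ z : P, actOn P H hH (y : K₁) z = v * z * v⁻¹ := by
      intro z
      apply Subtype.ext
      rw [Cfsg.Agent.Lib.Helper9.actOn_apply, hyv']
      rfl
    have hfix : ∀ (f : addFun (ZMod p) P) (z : P), f.1 (actOn P H hH (y : K₁) z) = f.1 z := by
      intro f z
      rw [hinner, f.2, f.2, Cfsg.Agent.Lib.Helper9.addFun_inv]
      ring
    have hσ1 : σ (y : K₁) = 1 := by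
      obtain ⟨v₁, a1, a2⟩ := exists_pair_of_ind u₀ w₀ hc.ind 1 0
      obtain ⟨v₂, b1, b2⟩ := exists_pair_of_ind u₀ w₀ hc.ind 0 1
      have c1 := hact (y : K₁) v₁
      have c2 := hact (y : K₁) v₂
      rw [hfix, hfix, a1, a2] at c1
      rw [hfix, hfix, b1, b2] at c2
      apply ext'
      · rw [al_one]; linear_combination -c2.2
      · rw [be_one]; linear_combination c1.2
      · rw [ga_one]; linear_combination c2.1
      · rw [de_one]; linear_combination -c1.1
    -- `y` commutes with `t`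
    have hcomm : (y : K₁) * t * (y : K₁)⁻¹ * t⁻¹ = 1 := by
      have hmemT : (y : K₁) * t * (y : K₁)⁻¹ * t⁻¹ ∈ T := by
        apply T.mul_mem _ (T.inv_mem htT)
        exact (Subgroup.mem_normalizer_iff.mp y.2 t).mp htT
      have hmemP : ((((y : K₁) * t * (y : K₁)⁻¹ * t⁻¹ : K₁) : H) : Γ) ∈ P := by
        have e : ((((y : K₁) * t * (y : K₁)⁻¹ * t⁻¹ : K₁) : H) : Γ) =
            (v : Γ) * (((actOn P H hH t v⁻¹ : P)) : Γ) := by
          rw [Cfsg.Agent.Lib.Helper9.actOn_apply]
          simp only [Subgroup.coe_mul, Subgroup.coe_inv, hyv']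
          group
        rw [e]
        exact P.mul_mem v.2 (Subtype.property _)
      obtain ⟨i, hi⟩ := hT ⟨_, hmemT⟩
      obtain ⟨j, hj⟩ := hP ⟨_, hmemP⟩
      have hi' : ((y : K₁) * t * (y : K₁)⁻¹ * t⁻¹) ^ 2 ^ i = 1 := congrArg Subtype.val hi
      have hj' : ((y : K₁) * t * (y : K₁)⁻¹ * t⁻¹) ^ p ^ j = 1 := by
        apply Subtype.ext
        apply Subtype.ext
        have hj2 := congrArg Subtype.val hj
        simpa using hj2
      have hcop : Nat.Coprime (2 ^ i) (p ^ j) := by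
        apply Nat.Coprime.pow
        exact (Nat.coprime_primes Nat.prime_two hpF.out).mpr (Ne.symm hp2)
      have h1 := orderOf_dvd_of_pow_eq_one hi'
      have h2 := orderOf_dvd_of_pow_eq_one hj'
      have h3 := Nat.dvd_gcd h1 h2
      rw [hcop.gcd_eq_one, Nat.dvd_one] at h3
      exact orderOf_eq_one_iff.mp h3
    have htv : actOn P H hH t v = v := by
      apply Subtype.ext
      rw [Cfsg.Agent.Lib.Helper9.actOn_apply, ← hyv']
      have h4 : (y : K₁) * t = t * (y : K₁) := by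
        have := mul_inv_eq_one.mp hcomm
        exact mul_inv_eq_iff_eq_mul.mp this
      have h5 : (t : K₁) * (y : K₁) * t⁻¹ = (y : K₁) := by rw [← h4, mul_inv_cancel_right]
      have h6 := congrArg (fun z : K₁ => ((z : H) : Γ)) h5
      simpa using h6
    have c := hact t v
    rw [htv, htσ, al_mone, be_mone, ga_mone, de_mone] at c
    have hu0 : u₀.1 v = 0 := by
      have : (2 : ZMod p) * u₀.1 v = 0 := by linear_combination c.1
      exact (mul_eq_zero.mp this).resolve_left h2ne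
    have hw0 : w₀.1 v = 0 := by
      have : (2 : ZMod p) * w₀.1 v = 0 := by linear_combination c.2
      exact (mul_eq_zero.mp this).resolve_left h2ne
    exact ⟨by rw [hw0, neg_zero], hu0, hσ1⟩

end main

end Cfsg.Agent.Lib.Helper5.Dk
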