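import Mathlib
import Cfsg.Agent.Lib.Helper5.Qd6

set_option autoImplicit false
set_option linter.unusedSimpArgs false

/-! `Qd(p)`-free groups are `p`-stable (normalizer form), together with all their sections. -/

namespace Cfsg.Agent.Lib.Helper5.Dk

open Cfsg.Agent.Lib.Helper9 (addFun autRep QuadAct QuadOn actOn)

variable {Γ : Type*} [Group Γ] {p : ℕ} [hpF : Fact p.Prime]

theorem nps_or_sec_qd [Finite Γ] (hp2 : p ≠ 2) (P : Subgroup Γ) (hP : IsPGroup p P) (g : Γ)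
    (hg : g ∈ Subgroup.normalizer (P : Set Γ)) (hq : QuadOn P g) :
    (QuotientGroup.mk (s := (Subgroup.centralizer (P : Set Γ)).subgroupOf (Subgroup.normalizer (P : Set Γ)))
          (⟨g, hg⟩ : ↥(Subgroup.normalizer (P : Set Γ)))) ∈
        Cfsg.pCore p (↥(Subgroup.normalizer (P : Set Γ)) ⧸
          (Subgroup.centralizer (P : Set Γ)).subgroupOf (Subgroup.normalizer (P : Set Γ))) ∨
    Sec Γ ↥(Cfsg.qd p) := by
  rcases nps_or_conf hp2 P hP g hg hq with h | ⟨x, y, u₀, w₀, κ₀, hc⟩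
  · exact Or.inl h
  · exact Or.inr (hc.sec_qd hp2 P hP _ le_rfl)

theorem isNormalizerPStable_of_not_sec_qd [Finite Γ] (hp2 : p ≠ 2) (h : ¬ Sec Γ ↥(Cfsg.qd p)) :
    Cfsg.IsNormalizerPStable p Γ := by
  intro P hP g hg hq
  exact (nps_or_sec_qd hp2 P hP g hg
    (Cfsg.Agent.Lib.Helper9.quadOn_of_commutator hq (Subgroup.mem_zpowers g))).resolve_right h

theorem isNormalizerPStable_of_not_involves_qd [Finite Γ] (hp2 : p ≠ 2)
    (h : ¬ Cfsg.Involves ↥(Cfsg.qd p) Γ) : Cfsg.IsNormalizerPStable p Γ :=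
  isNormalizerPStable_of_not_sec_qd hp2 (fun hs => h (sec_iff_involves.mp hs))

theorem isNormalizerPStable_section_of_not_involves_qd [Finite Γ] (hp2 : p ≠ 2)
    (h : ¬ Cfsg.Involves ↥(Cfsg.qd p) Γ) (K R : Subgroup Γ) [hR : (R.subgroupOf K).Normal] :
    Cfsg.IsNormalizerPStable p (↥K ⧸ R.subgroupOf K) :=
  isNormalizerPStable_of_not_sec_qd hp2
    (fun hs => h (sec_iff_involves.mp ((Sec.mk_quot K R).trans hs)))

end Cfsg.Agent.Lib.Helper5.Dk
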