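import Mathlib
import Cfsg.Agent.S0649
import Cfsg.Agent.S0650
import Cfsg.Agent.Lib.Helper4.Basic

set_option autoImplicit false

namespace Cfsg.Agent.Lib.Helper5

open Cfsg Cfsg.Agent.Lib.Helper4
open scoped commutatorElement

variable {G : Type*} [Group G]

/-- Subgroups of `D` with property `P` of largest possible order. -/
def MaxFam (P : Subgroup G → Prop) (D : Subgroup G) : Set (Subgroup G) :=
  {A | A ≤ D ∧ P A ∧ ∀ Y : Subgroup G, Y ≤ D → P Y → Nat.card Y ≤ Nat.card A}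

theorem isMulCommutative_map' {H : Type*} [Group H] (f : G →* H) {A : Subgroup G}
    (hA : IsMulCommutative A) : IsMulCommutative (A.map f) := by
  rw [Helper4.isMulCommutative_iff] at hA ⊢
  rintro _ ⟨a, ha, rfl⟩ _ ⟨b, hb, rfl⟩
  rw [← map_mul, ← map_mul, hA a ha b hb]

theorem isMulCommutative_subgroupOf' {A : Subgroup G} (U : Subgroup G)
    (hA : IsMulCommutative A) : IsMulCommutative (A.subgroupOf U) := by
  rw [Helper4.isMulCommutative_iff] at hA ⊢
  intro a ha b hb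
  exact Subtype.ext (hA _ ha _ hb)

theorem image_maxAbelian (D : Subgroup G) :
    Set.image (fun A : Subgroup ↥D => A.map D.subtype) (Cfsg.maxAbelianSubgroups ↥D) =
      MaxFam (fun A => IsMulCommutative A) D := by
  ext X
  constructor
  · rintro ⟨A, ⟨hA1, hA2⟩, rfl⟩
    refine ⟨Subgroup.map_subtype_le A, isMulCommutative_map' _ hA1, ?_⟩
    intro Y hY hYc
    have := hA2 (Y.subgroupOf D) (isMulCommutative_subgroupOf' D hYc)
    rwa [card_subgroupOf_of_le hY, ← card_map_subtype A] at this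
  · rintro ⟨hX1, hX2, hX3⟩
    refine ⟨X.subgroupOf D, ⟨isMulCommutative_subgroupOf' D hX2, ?_⟩, Subgroup.map_subgroupOf_eq_of_le hX1⟩
    intro Y hY
    have := hX3 (Y.map D.subtype) (Subgroup.map_subtype_le Y) (isMulCommutative_map' _ hY)
    rwa [card_map_subtype, ← card_subgroupOf_of_le hX1] at this

theorem image_maxElemAb (p : ℕ) (D : Subgroup G) :
    Set.image (fun A : Subgroup ↥D => A.map D.subtype) (Cfsg.maxElementaryAbelianSubgroups p ↥D) =
      MaxFam (Cfsg.IsElementaryAbelian p) D := by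
  ext X
  constructor
  · rintro ⟨A, ⟨hA1, hA2⟩, rfl⟩
    refine ⟨Subgroup.map_subtype_le A, elemAb_map _ hA1, ?_⟩
    intro Y hY hYc
    have := hA2 (Y.subgroupOf D) (elemAb_subgroupOf D hYc)
    rwa [card_subgroupOf_of_le hY, ← card_map_subtype A] at this
  · rintro ⟨hX1, hX2, hX3⟩
    refine ⟨X.subgroupOf D, ⟨elemAb_subgroupOf D hX2, ?_⟩, Subgroup.map_subgroupOf_eq_of_le hX1⟩
    intro Y hY
    have := hX3 (Y.map D.subtype) (Subgroup.map_subtype_le Y) (elemAb_map _ hY)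
    rwa [card_map_subtype, ← card_subgroupOf_of_le hX1] at this

theorem card_lt_of_lt' [Finite G] {H K : Subgroup G} (h : H < K) : Nat.card H < Nat.card K := by
  by_contra hcon
  push Not at hcon
  exact h.ne (Subgroup.eq_of_le_of_card_ge h.le hcon)

/-- The replacement property, in general form. -/
theorem replacement_general {S : Type*} [Group S] [Finite S] {p : ℕ} [Fact p.Prime]
    (hS : IsPGroup p S) (hp : p ≠ 2) (D : Subgroup S) [D.Normal] (P : Subgroup S → Prop)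
    (hPab : ∀ A, P A → IsMulCommutative A)
    (hPrep : ∀ A As : Subgroup S, P A → IsMulCommutative As →
      Monoid.exponent As ∣ Monoid.exponent A → P As)
    (B : Subgroup S) [B.Normal] (h : ∃ U ∈ MaxFam P D, ⁅B, B⁆ ≤ U ∧ ¬ B ≤ U) :
    ∃ A ∈ MaxFam P D, ⁅B, B⁆ ≤ A ∧ ¬ B ≤ A ∧ B ≤ Subgroup.normalizer (A : Set S) := by
  classical
  let T : Set (Subgroup S) := {U | U ∈ MaxFam P D ∧ ⁅B, B⁆ ≤ U ∧ ¬ B ≤ U}
  obtain ⟨U₀, hU₀, hU₀'⟩ := h
  haveI : Nonempty T := ⟨⟨U₀, hU₀, hU₀'⟩⟩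
  obtain ⟨⟨A, hAF, hBA, hBnA⟩, hmax⟩ := Finite.exists_max (fun U : T => Nat.card (U.1 ⊓ B : Subgroup S))
  refine ⟨A, hAF, hBA, hBnA, ?_⟩
  by_contra hnot
  have hAab := hPab A hAF.2.1
  obtain ⟨b, hb, hbN, hbA⟩ := Cfsg.Agent.S0649.result hS B (fun h => absurd h hp) A hAab hBA hnot
  obtain ⟨h1, h2, h3, h4, h5, -, -, -, -, h10⟩ :=
    Cfsg.Agent.S0650.result hS B (fun h => absurd h hp) A hAab hBA hnot b hb hbN hbA
  set As := (A ⊓ A.map (MulAut.conj (b⁻¹)).toMonoidHom) ⊔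
    Subgroup.closure {g : S | ∃ a ∈ A, g = a * b⁻¹ * a⁻¹ * b} with hAs
  have hAsD : As ≤ D := by
    apply sup_le (inf_le_left.trans hAF.1)
    rw [Subgroup.closure_le]
    rintro _ ⟨a, ha, rfl⟩
    have e : a * b⁻¹ * a⁻¹ * b = a * (b⁻¹ * a⁻¹ * b⁻¹⁻¹) := by group
    rw [e]
    exact D.mul_mem (hAF.1 ha) (‹D.Normal›.conj_mem _ (D.inv_mem (hAF.1 ha)) _)
  have hAsT : As ∈ T := by
    refine ⟨⟨hAsD, hPrep A As hAF.2.1 h2 (h10 hp), ?_⟩, h3, ?_⟩
    · intro Y hY hYP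
      rw [h1]
      exact hAF.2.2 Y hY hYP
    · intro hle
      exact h5.ne (inf_eq_right.mpr hle)
  have := hmax ⟨As, hAsT⟩
  exact absurd (card_lt_of_lt' h4) (not_lt.mpr this)

end Cfsg.Agent.Lib.Helper5
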