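import Mathlib
import Cfsg.Agent.Lib.Helper5.ZJ
import Cfsg.Agent.Lib.Helper16.Syl
import Cfsg.Agent.Lib.Helper17.Cores
import Cfsg.Agent.Lib.Helper17.DStar
import Cfsg.Agent.Lib.Helper22.Comm2
import Cfsg.Agent.Lib.Helper1.Basic
import Cfsg.Prelude.Def_TwoFusion

set_option autoImplicit false

namespace Cfsg.Agent.Lib.Helper5

open Cfsg Cfsg.Agent.Lib.Helper4
open scoped commutatorElement

variable {G : Type*} [Group G]

theorem maxFam_nonempty [Finite G] (P : Subgroup G → Prop) (hbot : P ⊥) (D : Subgroup G) :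
    (MaxFam P D).Nonempty := by
  classical
  let T : Set (Subgroup G) := {A | A ≤ D ∧ P A}
  have : Nonempty T := ⟨⟨⊥, bot_le, hbot⟩⟩
  obtain ⟨⟨A, hA1, hA2⟩, hmax⟩ := Finite.exists_max (fun U : T => Nat.card (U.1 : Subgroup G))
  exact ⟨A, hA1, hA2, fun Y hY hYP => hmax ⟨Y, hY, hYP⟩⟩

theorem maxFam_mem_of_le {P : Subgroup G → Prop} {X Y A : Subgroup G} (hA : A ∈ MaxFam P X)
    (hAY : A ≤ Y) (hYX : Y ≤ X) : A ∈ MaxFam P Y :=
  ⟨hAY, hA.2.1, fun Z hZ hZP => hA.2.2 Z (hZ.trans hYX) hZP⟩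

theorem maxFam_subset {P : Subgroup G → Prop} {X Y A : Subgroup G} (hA : A ∈ MaxFam P X)
    (hAY : A ≤ Y) (hYX : Y ≤ X) : MaxFam P Y ⊆ MaxFam P X := by
  intro B hB
  exact ⟨hB.1.trans hYX, hB.2.1, fun Z hZ hZP => (hA.2.2 Z hZ hZP).trans (hB.2.2 A hAY hA.2.1)⟩

theorem map_map_symm' (φ : G ≃* G) (X : Subgroup G) :
    (X.map φ.toMonoidHom).map φ.symm.toMonoidHom = X := by
  ext x
  constructor
  · rintro ⟨_, ⟨y, hy, rfl⟩, rfl⟩
    simpa using hy
  · intro hx
    exact ⟨φ x, ⟨x, hx, rfl⟩, by simp⟩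

theorem map_symm_map' (φ : G ≃* G) (X : Subgroup G) :
    (X.map φ.symm.toMonoidHom).map φ.toMonoidHom = X := by
  ext x
  constructor
  · rintro ⟨_, ⟨y, hy, rfl⟩, rfl⟩
    simpa using hy
  · intro hx
    exact ⟨φ.symm x, ⟨x, hx, rfl⟩, by simp⟩

theorem maxFam_map {P : Subgroup G → Prop}
    (hP : ∀ (φ : G ≃* G) (A : Subgroup G), P A → P (A.map φ.toMonoidHom)) (φ : G ≃* G)
    {X A : Subgroup G} (hA : A ∈ MaxFam P X) :
    A.map φ.toMonoidHom ∈ MaxFam P (X.map φ.toMonoidHom) := by
  refine ⟨Subgroup.map_mono hA.1, hP φ A hA.2.1, ?_⟩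
  intro Y hY hYP
  have h1 : Y.map φ.symm.toMonoidHom ≤ X := by
    have := Subgroup.map_mono (f := φ.symm.toMonoidHom) hY
    rwa [map_map_symm'] at this
  have h2 := hA.2.2 _ h1 (hP φ.symm Y hYP)
  have e1 : Nat.card (Y.map φ.symm.toMonoidHom) = Nat.card Y :=
    Subgroup.card_map_of_injective φ.symm.injective
  have e2 : Nat.card (A.map φ.toMonoidHom) = Nat.card A :=
    Subgroup.card_map_of_injective φ.injective
  rw [e2, ← e1]
  exact h2

theorem sInf_maxFam_map_le {P : Subgroup G → Prop}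
    (hP : ∀ (φ : G ≃* G) (A : Subgroup G), P A → P (A.map φ.toMonoidHom)) (φ : G ≃* G)
    (X : Subgroup G) :
    (sInf (MaxFam P X)).map φ.toMonoidHom ≤ sInf (MaxFam P (X.map φ.toMonoidHom)) := by
  apply le_sInf
  intro B hB
  have h1 := maxFam_map hP φ.symm hB
  rw [map_map_symm'] at h1
  have h2 : sInf (MaxFam P X) ≤ B.map φ.symm.toMonoidHom := sInf_le h1
  have h3 := Subgroup.map_mono (f := φ.toMonoidHom) h2
  rwa [map_symm_map'] at h3

theorem sInf_maxFam_map {P : Subgroup G → Prop}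
    (hP : ∀ (φ : G ≃* G) (A : Subgroup G), P A → P (A.map φ.toMonoidHom)) (φ : G ≃* G)
    (X : Subgroup G) :
    (sInf (MaxFam P X)).map φ.toMonoidHom = sInf (MaxFam P (X.map φ.toMonoidHom)) := by
  apply le_antisymm (sInf_maxFam_map_le hP φ X)
  have h1 := sInf_maxFam_map_le hP φ.symm (X.map φ.toMonoidHom)
  rw [map_map_symm'] at h1
  have h3 := Subgroup.map_mono (f := φ.toMonoidHom) h1
  rwa [map_symm_map'] at h3

theorem normalizer_le_normalizer_sInf_maxFam {P : Subgroup G → Prop}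
    (hP : ∀ (φ : G ≃* G) (A : Subgroup G), P A → P (A.map φ.toMonoidHom)) (X : Subgroup G) :
    Subgroup.normalizer (X : Set G) ≤ Subgroup.normalizer ((sInf (MaxFam P X) : Subgroup G) : Set G) := by
  intro g hg
  apply Helper16.mem_normalizer_of_conj_eq
  rw [sInf_maxFam_map hP, Helper16.conj_eq_of_mem_normalizer hg]

theorem isMulCommutative_of_map_injective {H : Type*} [Group H] (f : G →* H)
    (hf : Function.Injective f) {A : Subgroup G} (hA : IsMulCommutative (A.map f)) :
    IsMulCommutative A := by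
  rw [Helper4.isMulCommutative_iff] at hA ⊢
  intro a ha b hb
  apply hf
  rw [map_mul, map_mul]
  exact hA _ ⟨a, ha, rfl⟩ _ ⟨b, hb, rfl⟩

theorem exponent_map_subtype (S : Subgroup G) (A : Subgroup S) :
    Monoid.exponent (A.map S.subtype) = Monoid.exponent A :=
  (Monoid.exponent_eq_of_mulEquiv (A.equivMapOfInjective S.subtype S.subtype_injective)).symm

/-- The replacement property for subgroups of an ambient group. -/
theorem replacement_rel [Finite G] {p : ℕ} [Fact p.Prime] (hp : p ≠ 2) {S D B : Subgroup G}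
    (hS : IsPGroup p S) (hDS : D ≤ S) (hBS : B ≤ S)
    (hDn : S ≤ Subgroup.normalizer (D : Set G)) (hBn : S ≤ Subgroup.normalizer (B : Set G))
    (P : Subgroup G → Prop) (hPab : ∀ A, P A → IsMulCommutative A)
    (hPrep : ∀ A As : Subgroup G, P A → IsMulCommutative As →
      Monoid.exponent As ∣ Monoid.exponent A → P As)
    (h : ∃ U ∈ MaxFam P D, ⁅B, B⁆ ≤ U ∧ ¬ B ≤ U) :
    ∃ A ∈ MaxFam P D, ⁅B, B⁆ ≤ A ∧ ¬ B ≤ A ∧ B ≤ Subgroup.normalizer (A : Set G) := by
  have : (D.subgroupOf S).Normal := Subgroup.normal_subgroupOf_of_le_normalizer hDn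
  have : (B.subgroupOf S).Normal := Subgroup.normal_subgroupOf_of_le_normalizer hBn
  have hBmap : (B.subgroupOf S).map S.subtype = B := Subgroup.map_subgroupOf_eq_of_le hBS
  have hcomm : (⁅B.subgroupOf S, B.subgroupOf S⁆).map S.subtype = ⁅B, B⁆ := by
    rw [Subgroup.map_commutator, hBmap]
  have key := replacement_general (S := ↥S) hS hp (D.subgroupOf S)
    (fun X => P (X.map S.subtype))
    (fun A hA => isMulCommutative_of_map_injective _ S.subtype_injective (hPab _ hA))
    (fun A As hA hAs hexp => hPrep _ _ hA (isMulCommutative_map' _ hAs)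
      (by rw [exponent_map_subtype, exponent_map_subtype]; exact hexp))
    (B.subgroupOf S) ?_
  · obtain ⟨A, hA, h1, h2, h3⟩ := key
    refine ⟨A.map S.subtype, ⟨?_, hA.2.1, ?_⟩, ?_, ?_, ?_⟩
    · have := Subgroup.map_mono (f := S.subtype) hA.1
      rwa [Subgroup.map_subgroupOf_eq_of_le hDS] at this
    · intro Y hY hYP
      have := hA.2.2 (Y.subgroupOf S) (fun y hy => hY hy)
        (by show P _; rw [Subgroup.map_subgroupOf_eq_of_le (hY.trans hDS)]; exact hYP)
      rwa [card_subgroupOf_of_le (hY.trans hDS), ← card_map_subtype A] at this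
    · rw [← hcomm]; exact Subgroup.map_mono h1
    · intro hle
      apply h2
      intro b hb
      obtain ⟨a, ha, hab⟩ := hle (show (b : G) ∈ B from hb)
      have : a = b := Subtype.ext hab
      rwa [← this]
    · intro b hb
      apply Helper16.mem_normalizer_of_conj_eq
      apply Helper16.conj_eq_of_le
      rintro _ ⟨_, ⟨a, ha, rfl⟩, rfl⟩
      have hb' : (⟨b, hBS hb⟩ : S) ∈ B.subgroupOf S := hb
      have := (Subgroup.mem_normalizer_iff.mp (h3 hb') a).mp ha
      exact ⟨_, this, by simp⟩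
  · obtain ⟨U, hU, h1, h2⟩ := h
    refine ⟨U.subgroupOf S, ⟨fun y hy => hU.1 hy, ?_, ?_⟩, ?_, ?_⟩
    · show P _
      rw [Subgroup.map_subgroupOf_eq_of_le (hU.1.trans hDS)]; exact hU.2.1
    · intro Y hY hYP
      have hY' : Y.map S.subtype ≤ D := by
        have := Subgroup.map_mono (f := S.subtype) hY
        rwa [Subgroup.map_subgroupOf_eq_of_le hDS] at this
      have := hU.2.2 _ hY' hYP
      rwa [card_map_subtype, ← card_subgroupOf_of_le (hU.1.trans hDS)] at this
    · show _ ≤ U.comap S.subtype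
      rw [← Subgroup.map_le_iff_le_comap, hcomm]; exact h1
    · intro hle
      apply h2
      intro b hb
      exact hle (show (⟨b, hBS hb⟩ : S) ∈ B.subgroupOf S from hb)

/-- Step 1 of the ZJ theorem. -/
theorem le_pCore_of_abelian_of_normalized [Finite G] {p : ℕ} [Fact p.Prime]
    (hc : Subgroup.centralizer (Cfsg.pCore p G : Set G) ≤ Cfsg.pCore p G)
    (hst : ∀ (V : Subgroup G) [V.Normal], IsPGroup p V → Cfsg.IsPStableOn p V)
    {W : Subgroup G} (hW : IsMulCommutative W)
    (hn : Cfsg.pCore p G ≤ Subgroup.normalizer (W : Set G)) : W ≤ Cfsg.pCore p G := by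
  obtain ⟨Q, hQ⟩ : ∃ Q, Q = Cfsg.pCore p G := ⟨_, rfl⟩
  rw [← hQ] at hc hn ⊢
  have hQn : Q.Normal := by
    rw [hQ]
    have := Helper17.pCore_characteristic (G := G) p
    infer_instance
  have hQp : IsPGroup p Q := by rw [hQ]; exact Helper17.pCore_isPGroup p
  intro d hd
  have hq : ⁅⁅Q, Subgroup.zpowers d⁆, Subgroup.zpowers d⁆ = ⊥ := by
    have h1 : ⁅Q, Subgroup.zpowers d⁆ ≤ W := by
      rw [Subgroup.commutator_le]
      rintro u hu _ ⟨k, rfl⟩
      have hdk : d ^ k ∈ W := zpow_mem hd k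
      rw [commutatorElement_def]
      exact mul_mem ((Subgroup.mem_normalizer_iff.mp (hn hu) _).mp hdk) (inv_mem hdk)
    rw [eq_bot_iff]
    refine (Subgroup.commutator_mono h1 (Subgroup.zpowers_le.mpr hd)).trans ?_
    rw [Helper17.commutator_self_eq_bot_of_comm hW]
  have h2 := hst Q hQp d hq
  have h3 : (Cfsg.pCore p (G ⧸ Subgroup.centralizer (Q : Set G))).comap (QuotientGroup.mk' _) ≤ Q := by
    have h4 : (Cfsg.pCore p (G ⧸ Subgroup.centralizer (Q : Set G))).comap (QuotientGroup.mk' _) ≤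
        Cfsg.pCore p G := by
      apply Helper17.le_pCore
      · have := Helper17.pCore_characteristic (G := G ⧸ Subgroup.centralizer (Q : Set G)) p
        infer_instance
      · apply IsPGroup.comap_of_ker_isPGroup (Helper17.pCore_isPGroup p)
        rw [QuotientGroup.ker_mk']
        exact hQp.to_le hc
    rw [← hQ] at h4
    exact h4
  exact h3 h2

/-- The core of step 2 of the ZJ theorem. -/
theorem zj_core [Finite G] {p : ℕ} [Fact p.Prime]
    (hst : ∀ (V : Subgroup G) [V.Normal], IsPGroup p V → Cfsg.IsPStableOn p V)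
    (S : Sylow p G) (D : Subgroup G) (hD : Cfsg.IsStronglyClosed D (S : Subgroup G))
    (P : Subgroup G → Prop)
    (hPab : ∀ A, P A → IsMulCommutative A)
    (hPaut : ∀ (φ : G ≃* G) (A : Subgroup G), P A → P (A.map φ.toMonoidHom))
    (B : Subgroup G) [hBn : B.Normal] (hB : IsPGroup p B) (A : Subgroup G) (hA : A ∈ MaxFam P D)
    (hBA : B ≤ Subgroup.normalizer (A : Set G)) :
    ∃ X : Subgroup G, X.Normal ∧ sInf (MaxFam P D) ⊓ B ≤ X ∧ X ≤ A := by
  have hAc := hPab A hA.2.1
  have hquad : ∀ a ∈ A, ⁅⁅B, Subgroup.zpowers a⁆, Subgroup.zpowers a⁆ = ⊥ := by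
    intro a ha
    have h1 : ⁅B, Subgroup.zpowers a⁆ ≤ A := by
      rw [Subgroup.commutator_le]
      rintro u hu _ ⟨k, rfl⟩
      have hdk : a ^ k ∈ A := zpow_mem ha k
      rw [commutatorElement_def]
      exact mul_mem ((Subgroup.mem_normalizer_iff.mp (hBA hu) _).mp hdk) (inv_mem hdk)
    rw [eq_bot_iff]
    refine (Subgroup.commutator_mono h1 (Subgroup.zpowers_le.mpr ha)).trans ?_
    rw [Helper17.commutator_self_eq_bot_of_comm hAc]
  obtain ⟨L, hL⟩ : ∃ L : Subgroup G, L =
    (Cfsg.pCore p (G ⧸ Subgroup.centralizer (B : Set G))).comap (QuotientGroup.mk' _) := ⟨_, rfl⟩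
  have hLn : L.Normal := by
    have := Helper17.pCore_characteristic (G := G ⧸ Subgroup.centralizer (B : Set G)) p
    rw [hL]
    infer_instance
  have hAL : A ≤ L := fun a ha => by rw [hL]; exact hst B hB a (hquad a ha)
  have hCL : Subgroup.centralizer (B : Set G) ≤ L := by
    intro c hc
    rw [hL]
    show (QuotientGroup.mk' (Subgroup.centralizer (B : Set G)) c) ∈
      Cfsg.pCore p (G ⧸ Subgroup.centralizer (B : Set G))
    have : QuotientGroup.mk' (Subgroup.centralizer (B : Set G)) c = 1 :=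
      (QuotientGroup.eq_one_iff c).mpr hc
    rw [this]
    exact one_mem _
  obtain ⟨T, hT⟩ : ∃ T : Subgroup G, T = (S : Subgroup G) ⊓ L := ⟨_, rfl⟩
  have hLtop : (⊤ : Subgroup G) ≤ Subgroup.normalizer (L : Set G) := by
    rw [Subgroup.normalizer_eq_top]
  have hTsyl : Helper16.SylIn p T L := by
    rw [hT]; exact (Helper16.sylIn_top S).inf_normal le_top hLtop
  have hfac : ∀ g : G, ∃ c ∈ Subgroup.centralizer (B : Set G),
      ∃ n ∈ Subgroup.normalizer (T : Set G), g = c * n := by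
    intro g
    obtain ⟨l, hl, m, hm, rfl⟩ := hTsyl.frattini hLtop (Subgroup.mem_top g)
    have hl' : (QuotientGroup.mk l : G ⧸ Subgroup.centralizer (B : Set G)) ∈
        Cfsg.pCore p (G ⧸ Subgroup.centralizer (B : Set G)) := by
      rw [hL] at hl; exact hl
    have h1 := Helper17.pCore_le_sylow
      (S.mapSurjective (QuotientGroup.mk'_surjective (Subgroup.centralizer (B : Set G)))) hl'
    obtain ⟨s, hs, hsy⟩ := h1
    have hsc : s⁻¹ * l ∈ Subgroup.centralizer (B : Set G) := QuotientGroup.eq.mp hsy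
    have hsL : s ∈ L := by
      have : s = l * (s⁻¹ * l)⁻¹ := by group
      rw [this]; exact L.mul_mem hl (L.inv_mem (hCL hsc))
    have hsT : s ∈ T := by rw [hT]; exact ⟨hs, hsL⟩
    have hCn : (Subgroup.centralizer (B : Set G)).Normal := inferInstance
    exact ⟨s * (s⁻¹ * l) * s⁻¹, hCn.conj_mem _ hsc s, s * m,
      mul_mem (Subgroup.le_normalizer hsT) hm, by group⟩
  have hTS : T ≤ S := by rw [hT]; exact inf_le_left
  have hADT : A ≤ D ⊓ T := le_inf hA.1 (by rw [hT]; exact le_inf (hA.1.trans hD.1) hAL)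
  have hNT : Subgroup.normalizer (T : Set G) ≤
      Subgroup.normalizer ((D ⊓ T : Subgroup G) : Set G) := by
    intro g hg
    apply Helper16.mem_normalizer_of_conj_eq
    apply Helper16.conj_eq_of_le
    rintro _ ⟨y, hy, rfl⟩
    have h1 : g * y * g⁻¹ ∈ T := (Subgroup.mem_normalizer_iff.mp hg y).mp hy.2
    exact ⟨hD.2 y hy.1 g (hTS h1), h1⟩
  refine ⟨sInf (MaxFam P (D ⊓ T)) ⊓ B, ?_, ?_, ?_⟩
  · constructor
    intro x hx g
    obtain ⟨c, hc, n, hn, rfl⟩ := hfac g
    have h1 : n * x * n⁻¹ ∈ sInf (MaxFam P (D ⊓ T)) ⊓ B :=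
      ⟨(Subgroup.mem_normalizer_iff.mp
        (normalizer_le_normalizer_sInf_maxFam hPaut _ (hNT hn)) x).mp hx.1, hBn.conj_mem x hx.2 n⟩
    have h2 : c * (n * x * n⁻¹) * c⁻¹ = n * x * n⁻¹ := by
      have := Subgroup.mem_centralizer_iff.mp hc _ h1.2
      rw [← this]; group
    have h3 : c * n * x * (c * n)⁻¹ = c * (n * x * n⁻¹) * c⁻¹ := by group
    rw [h3, h2]; exact h1
  · exact inf_le_inf_right _ (sInf_le_sInf (maxFam_subset hA hADT inf_le_left))
  · exact inf_le_left.trans (sInf_le (maxFam_mem_of_le hA hADT inf_le_left))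

/-- **Glauberman's ZJ theorem**, general form: `p` odd, `C_G(O_p(G)) ≤ O_p(G)`, `G` acts `p`-stably on
its normal `p`-subgroups, `D` strongly closed in a Sylow `p`-subgroup.  Then the intersection of the
members of `MaxFam P D` is normal in `G`. -/
theorem zj_general [Finite G] {p : ℕ} [Fact p.Prime] (hp : p ≠ 2)
    (hc : Subgroup.centralizer (Cfsg.pCore p G : Set G) ≤ Cfsg.pCore p G)
    (hst : ∀ (V : Subgroup G) [V.Normal], IsPGroup p V → Cfsg.IsPStableOn p V)
    (S : Sylow p G) (D : Subgroup G) (hD : Cfsg.IsStronglyClosed D (S : Subgroup G))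
    (P : Subgroup G → Prop) (hPbot : P ⊥)
    (hPab : ∀ A, P A → IsMulCommutative A)
    (hPrep : ∀ A As : Subgroup G, P A → IsMulCommutative As →
      Monoid.exponent As ∣ Monoid.exponent A → P As)
    (hPaut : ∀ (φ : G ≃* G) (A : Subgroup G), P A → P (A.map φ.toMonoidHom)) :
    (sInf (MaxFam P D)).Normal := by
  obtain ⟨W, hW⟩ : ∃ W, W = sInf (MaxFam P D) := ⟨_, rfl⟩
  rw [← hW]
  have hDn : (S : Subgroup G) ≤ Subgroup.normalizer (D : Set G) := by
    intro s hs
    apply Helper16.mem_normalizer_of_conj_eq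
    apply Helper16.conj_eq_of_le
    rintro _ ⟨y, hy, rfl⟩
    exact hD.2 y hy s (mul_mem (mul_mem hs (hD.1 hy)) (inv_mem hs))
  have hSW : (S : Subgroup G) ≤ Subgroup.normalizer (W : Set G) := by
    rw [hW]; exact hDn.trans (normalizer_le_normalizer_sInf_maxFam hPaut D)
  obtain ⟨A₁, hA₁⟩ := maxFam_nonempty P hPbot D
  have hWA : ∀ A ∈ MaxFam P D, W ≤ A := fun A hA => by rw [hW]; exact sInf_le hA
  have hWc : IsMulCommutative W := isMulCommutative_of_le (hWA _ hA₁) (hPab _ hA₁.2.1)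
  have hWQ : W ≤ Cfsg.pCore p G :=
    le_pCore_of_abelian_of_normalized hc hst hWc ((Helper17.pCore_le_sylow S).trans hSW)
  have key : ∀ n : ℕ, ∀ B : Subgroup G, B.Normal → IsPGroup p B → Nat.card B = n →
      (W ⊓ B).Normal := by
    intro n
    induction n using Nat.strong_induction_on with
    | _ n ih =>
      intro B hBn hBp hcard
      have hBS : B ≤ S := (Helper17.le_pCore hBn hBp).trans (Helper17.pCore_le_sylow S)
      obtain ⟨B₁, hB₁⟩ : ∃ B₁, B₁ = Subgroup.normalClosure ((W ⊓ B : Subgroup G) : Set G) :=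
        ⟨_, rfl⟩
      have hB₁n : B₁.Normal := by rw [hB₁]; infer_instance
      have hB₁B : B₁ ≤ B := by rw [hB₁]; exact Subgroup.normalClosure_le_normal inf_le_right
      have hWB₁ : W ⊓ B ≤ B₁ := by rw [hB₁]; exact Subgroup.le_normalClosure
      rcases hB₁B.lt_or_eq with hlt | heq
      · have h1 := ih _ (by rw [← hcard]; exact card_lt_of_lt' hlt) B₁ hB₁n (hBp.to_le hB₁B) rfl
        have h2 : W ⊓ B = W ⊓ B₁ :=
          le_antisymm (le_inf inf_le_left hWB₁) (inf_le_inf_left _ hB₁B)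
        rw [h2]; exact h1
      · by_cases hbot : B = ⊥
        · rw [hbot, inf_bot_eq]; infer_instance
        have hBsol : Group.IsSolvable B := by
          have := hBp.isNilpotent
          infer_instance
        have hB' : ⁅B, B⁆ < B := Helper1.commutator_lt_of_solvable hBsol hbot
        have hN : (W ⊓ ⁅B, B⁆).Normal :=
          ih _ (by rw [← hcard]; exact card_lt_of_lt' hB') ⁅B, B⁆ inferInstance
            (hBp.to_le hB'.le) rfl
        have h1 : ⁅W ⊓ B, B⁆ ≤ W ⊓ ⁅B, B⁆ := by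
          apply le_inf
          · rw [Subgroup.commutator_le]
            intro w hw b hb
            rw [commutatorElement_def]
            have : w * b * w⁻¹ * b⁻¹ = w * (b * w⁻¹ * b⁻¹) := by group
            rw [this]
            exact mul_mem hw.1
              ((Subgroup.mem_normalizer_iff.mp (hSW (hBS hb)) _).mp (inv_mem hw.1))
          · exact Subgroup.commutator_mono inf_le_right le_rfl
        have h2 : ⁅B, B⁆ ≤ W ⊓ ⁅B, B⁆ := by
          rw [Helper22.comm_le_iff] at h1 ⊢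
          have hmapn : (B.map (QuotientGroup.mk' (W ⊓ ⁅B, B⁆))).Normal :=
            hBn.map _ (QuotientGroup.mk'_surjective _)
          calc B = B₁ := heq.symm
            _ ≤ _ := by rw [hB₁]; exact Subgroup.normalClosure_le_normal h1
        have hB'W : ⁅B, B⁆ ≤ W := h2.trans inf_le_left
        have hBW : B ≤ W := by
          by_contra hnot
          have : ∃ A₀ ∈ MaxFam P D, ¬ B ≤ A₀ := by
            by_contra hcon
            push Not at hcon
            exact hnot (by rw [hW]; exact le_sInf hcon)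
          obtain ⟨A₀, hA₀, hBA₀⟩ := this
          have hBtop : (S : Subgroup G) ≤ Subgroup.normalizer (B : Set G) := by
            rw [Subgroup.normalizer_eq_top]; exact le_top
          obtain ⟨A, hA, hA1, hA2, hA3⟩ := replacement_rel hp S.2 hD.1 hBS hDn hBtop P hPab hPrep
            ⟨A₀, hA₀, hB'W.trans (hWA _ hA₀), hBA₀⟩
          obtain ⟨X, hXn, hX1, hX2⟩ := zj_core hst S D hD P hPab hPaut B hBp A hA hA3
          apply hA2
          rw [← hW] at hX1
          calc B = B₁ := heq.symm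
            _ ≤ X := by rw [hB₁]; exact Subgroup.normalClosure_le_normal hX1
            _ ≤ A := hX2
        rw [inf_eq_right.mpr hBW]; exact hBn
  have hQn : (Cfsg.pCore p G).Normal := by
    have := Helper17.pCore_characteristic (G := G) p
    infer_instance
  have := key _ (Cfsg.pCore p G) hQn (Helper17.pCore_isPGroup p) rfl
  rwa [inf_eq_left.mpr hWQ] at this

end Cfsg.Agent.Lib.Helper5
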