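import Cfsg.Agent.Lib.Helper5.DualFam

set_option autoImplicit false

namespace Cfsg.Agent.Lib.Helper5

open Submodule

variable {F V : Type*} [Field F] [AddCommGroup V] [Module F V]

noncomputable def orthoφ {σ : F →+* F} (B : V →ₛₗ[σ] V →ₗ[F] F) {m : ℕ} (u : Fin m → V) :
    Fin m → V →ₗ[F] F := fun t => (B (u t) (u t))⁻¹ • B (u t)

theorem orthoφ_rel {σ : F →+* F} (B : V →ₛₗ[σ] V →ₗ[F] F) {m : ℕ} (u : Fin m → V)
    (ho : ∀ i j, i ≠ j → B (u i) (u j) = 0) (hn : ∀ i, B (u i) (u i) ≠ 0) (s t : Fin m) :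
    orthoφ B u t (u s) = if s = t then 1 else 0 := by
  unfold orthoφ
  by_cases h : s = t
  · subst h; simp [hn s]
  · simp [h, ho t s (Ne.symm h)]

theorem ortho_li {σ : F →+* F} (B : V →ₛₗ[σ] V →ₗ[F] F) {m : ℕ} (u : Fin m → V)
    (ho : ∀ i j, i ≠ j → B (u i) (u j) = 0) (hn : ∀ i, B (u i) (u i) ≠ 0) :
    LinearIndependent F u :=
  li_of_dual u (orthoφ B u) (orthoφ_rel B u ho hn)

theorem exists_ortho_ext [FiniteDimensional F V] {σ : F →+* F} (B : V →ₛₗ[σ] V →ₗ[F] F)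
    (hS : B.IsSymm) (hB : B.Nondegenerate)
    (hpol : ∀ W : Submodule F V, (∀ w ∈ W, B w w = 0) → ∀ x ∈ W, ∀ y ∈ W, B x y = 0)
    {m : ℕ} (u : Fin m → V) (ho : ∀ i j, i ≠ j → B (u i) (u j) = 0)
    (hn : ∀ i, B (u i) (u i) ≠ 0) (hm : m < Module.finrank F V) :
    ∃ w, B w w ≠ 0 ∧ ∀ t, B (u t) w = 0 := by
  classical
  have hd := orthoφ_rel B u ho hn
  obtain ⟨k, b, hb1, hb2⟩ := exists_basis_of_dual u (orthoφ B u) hd
  have hcard := Module.finrank_eq_card_basis b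
  simp only [Fintype.card_sum, Fintype.card_fin] at hcard
  have hk : 0 < k := by omega
  set W := (⨅ t, LinearMap.ker (orthoφ B u t)) with hW
  have hWu : ∀ w ∈ W, ∀ t, B (u t) w = 0 := by
    intro w hw t
    have := (Submodule.mem_iInf _).mp hw t
    simp only [orthoφ, LinearMap.mem_ker, LinearMap.smul_apply, smul_eq_mul, mul_eq_zero,
      inv_eq_zero] at this
    exact this.resolve_left (hn t)
  by_contra hcon
  push Not at hcon
  have h0 : ∀ w ∈ W, B w w = 0 := by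
    intro w hw
    by_contra hne
    obtain ⟨t, ht⟩ := hcon w hne
    exact ht (hWu w hw t)
  have hWW := hpol W h0
  set w0 := b (Sum.inr ⟨0, hk⟩) with hw0
  have hw0W : w0 ∈ W := hb2 _
  have hw0ne : w0 ≠ 0 := b.ne_zero _
  apply hw0ne
  apply hB.1
  intro v
  have hv : v ∈ span F (Set.range u) ⊔ W := by rw [hW, sup_of_dual _ _ hd]; trivial
  obtain ⟨h, hh, w', hw', rfl⟩ := Submodule.mem_sup.mp hv
  rw [map_add, hWW _ hw0W _ hw', add_zero]
  have hle : span F (Set.range u) ≤ LinearMap.ker (B w0) := by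
    rw [Submodule.span_le]
    rintro _ ⟨s, rfl⟩
    show B w0 (u s) = 0
    rw [← hS.eq, hWu w0 hw0W s, map_zero]
  exact hle hh

end Cfsg.Agent.Lib.Helper5
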