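import Mathlib
import Cfsg.Prelude.Def_ClassicalGeometry

set_option autoImplicit false

namespace Cfsg.Agent.Lib.Helper5

open Matrix

/-- For a subspace it suffices to check one inclusion. -/
theorem mem_stabilizing_submodule {H : Type*} [Group H] {ι : Type} [Fintype ι] [DecidableEq ι]
    {F : Type*} [Field F] (toMat : H →* Matrix ι ι F) (W : Submodule F (ι → F)) (h : H) :
    h ∈ Cfsg.stabilizing toMat (W : Set (ι → F)) ↔ ∀ v ∈ W, toMat h *ᵥ v ∈ W := by
  constructor
  · intro hh v hv
    exact (hh v).mp hv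
  · intro hh v
    refine ⟨hh v, fun hv => ?_⟩
    have hinv : ∀ x, toMat h⁻¹ *ᵥ (toMat h *ᵥ x) = x := by
      intro x
      rw [mulVec_mulVec, ← map_mul, inv_mul_cancel, map_one, one_mulVec]
    have hinj : Function.Injective (toMat h).mulVecLin := by
      intro x y hxy
      have hxy' : toMat h *ᵥ x = toMat h *ᵥ y := hxy
      rw [← hinv x, hxy', hinv]
    have hle : W.map (toMat h).mulVecLin ≤ W := by
      rintro _ ⟨x, hx, rfl⟩
      exact hh x hx
    have hfr : Module.finrank F (W.map (toMat h).mulVecLin) = Module.finrank F W :=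
      (Submodule.equivMapOfInjective _ hinj W).finrank_eq.symm
    have heq := Submodule.eq_of_le_of_finrank_eq hle hfr
    have hv' : toMat h *ᵥ v ∈ W.map (toMat h).mulVecLin := by rw [heq]; exact hv
    obtain ⟨x, hx, hxv⟩ := hv'
    rw [← hinj hxv]
    exact hx

end Cfsg.Agent.Lib.Helper5
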