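import Mathlib
import Cfsg.Agent.Lib.Helper5.Dk7
import Cfsg.Agent.Lib.Helper5.Dk8

set_option autoImplicit false
set_option linter.unusedSimpArgs false

/-! Dickson: a subgroup of `SL₂(q)` with two non-commuting `p`-elements contains `SL₂(p)`. -/

namespace Cfsg.Agent.Lib.Helper5.Dk

variable {F : Type*} [Field F]

theorem conj_xx_eq_yy (B : S2 F) (ht : tr B = 2) (hc : ga B ≠ 0) :
    xx ((1 - al B) / ga B) * B * (xx ((1 - al B) / ga B))⁻¹ = yy (ga B) := by
  have hd := det_eq B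
  have hde : de B = 2 - al B := by simp only [tr] at ht; linear_combination ht
  rw [hde] at hd
  apply ext' <;> simp only [al_mul, be_mul, ga_mul, de_mul, al_inv, be_inv, ga_inv, de_inv, al_xx,
    be_xx, ga_xx, de_xx, al_yy, be_yy, ga_yy, de_yy, hde]
  · field_simp; ring
  · field_simp; linear_combination -hd
  · ring
  · field_simp; ring

theorem eq_xx_of_tr (g : S2 F) (ht : tr g = 2) (hc : ga g = 0) : g = xx (be g) := by
  have hd := det_eq g
  have hde : de g = 2 - al g := by simp only [tr] at ht; linear_combination ht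
  rw [hde, hc] at hd
  have h1 : (al g - 1) ^ 2 = 0 := by linear_combination -hd
  have h2 : al g = 1 := by
    have := pow_eq_zero_iff (two_ne_zero) |>.mp h1
    linear_combination this
  apply ext' <;> simp [h2, hc, hde]
  norm_num

theorem exists_conj_eq_xx (g : S2 F) (ht : tr g = 2) : ∃ (T : S2 F) (a : F), T * g * T⁻¹ = xx a := by
  by_cases hc : ga g = 0
  · exact ⟨1, be g, by rw [one_mul, inv_one, mul_one]; exact eq_xx_of_tr g ht hc⟩
  · refine ⟨mk4 0 1 (-1) 0 (by ring) * xx ((1 - al g) / ga g), - ga g, ?_⟩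
    have h := conj_xx_eq_yy g ht hc
    calc mk4 0 1 (-1) 0 (by ring) * xx ((1 - al g) / ga g) * g *
          (mk4 0 1 (-1) 0 (by ring) * xx ((1 - al g) / ga g))⁻¹
        = mk4 0 1 (-1) 0 (by ring) * (xx ((1 - al g) / ga g) * g * (xx ((1 - al g) / ga g))⁻¹) *
          (mk4 0 1 (-1) 0 (by ring))⁻¹ := by group
      _ = mk4 0 1 (-1) 0 (by ring) * yy (ga g) * (mk4 0 1 (-1) 0 (by ring))⁻¹ := by rw [h]
      _ = xx (- ga g) := by apply ext' <;> simp

/-- base change followed by conjugation with `diag(a,1)`. -/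
def emb {K : Type*} [Field K] (f : K →+* F) (a : F) (ha : a ≠ 0) : S2 K →* S2 F :=
  MonoidHom.mk' (fun g => mk4 (f (al g)) (a * f (be g)) (f (ga g) / a) (f (de g)) (by
    have h := congrArg f (det_eq g)
    simp only [map_sub, map_mul, map_one] at h
    field_simp
    linear_combination h)) (by
    intro g h
    apply ext' <;> simp only [al_mul, be_mul, ga_mul, de_mul, al_mk4, be_mk4, ga_mk4, de_mk4,
      map_add, map_mul] <;> field_simp)

theorem emb_injective {K : Type*} [Field K] (f : K →+* F) (a : F) (ha : a ≠ 0) :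
    Function.Injective (emb f a ha) := by
  intro g h hgh
  have h1 := congrArg al hgh
  have h2 := congrArg be hgh
  have h3 := congrArg ga hgh
  have h4 := congrArg de hgh
  simp only [emb, MonoidHom.mk'_apply, al_mk4, be_mk4, ga_mk4, de_mk4] at h1 h2 h3 h4
  apply ext'
  · exact f.injective h1
  · exact f.injective (mul_left_cancel₀ ha h2)
  · exact f.injective (by field_simp at h3; exact h3)
  · exact f.injective h4

def Has (p : ℕ) [Fact p.Prime] (H : Subgroup (S2 F)) : Prop :=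
  ∃ Φ : S2 (ZMod p) →* S2 F, Function.Injective Φ ∧ Φ.range ≤ H

theorem Has.of_conj {p : ℕ} [Fact p.Prime] {H : Subgroup (S2 F)} (T : S2 F)
    (h : Has p (H.map (MulAut.conj T).toMonoidHom)) : Has p H := by
  obtain ⟨Φ, hi, hr⟩ := h
  refine ⟨(MulAut.conj T⁻¹).toMonoidHom.comp Φ, ?_, ?_⟩
  · intro x y hxy
    exact hi ((MulAut.conj T⁻¹).injective hxy)
  · rintro _ ⟨x, rfl⟩
    obtain ⟨y, hy, hyx⟩ := hr ⟨x, rfl⟩
    have : (MulAut.conj T⁻¹).toMonoidHom.comp Φ x = y := by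
      simp only [MonoidHom.comp_apply, ← hyx]
      simp [MulAut.conj_apply, mul_assoc]
    rw [this]; exact hy

theorem mem_conj {H : Subgroup (S2 F)} (T : S2 F) {u : S2 F} (hu : u ∈ H) :
    T * u * T⁻¹ ∈ H.map (MulAut.conj T).toMonoidHom := ⟨u, hu, rfl⟩

variable {p : ℕ} [Fact p.Prime] [CharP F p]

theorem has_of_unit {H : Subgroup (S2 F)} {a c : F} (hx : xx a ∈ H) (hy : yy c ∈ H)
    (hac : a * c = 1 ∨ a * c = -1) : Has p H := by
  have ha : a ≠ 0 := by
    rintro rfl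
    rcases hac with h | h <;> simp at h
  obtain ⟨κ, hκ0, hκ⟩ : ∃ κ : ZMod p, κ ≠ 0 ∧ (ZMod.castHom (dvd_refl p) F) κ = a * c := by
    rcases hac with h | h
    · exact ⟨1, one_ne_zero, by rw [h, map_one]⟩
    · exact ⟨-1, neg_ne_zero.mpr one_ne_zero, by rw [h, map_neg, map_one]⟩
  refine ⟨emb (ZMod.castHom (dvd_refl p) F) a ha, emb_injective _ _ _, ?_⟩
  rw [MonoidHom.range_eq_map, ← closure_zmod p (one_ne_zero) hκ0, MonoidHom.map_closure,
    Subgroup.closure_le]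
  rintro _ ⟨w, (rfl | rfl), rfl⟩
  · have : emb (ZMod.castHom (dvd_refl p) F) a ha (xx 1) = xx a := by
      apply ext' <;> simp [emb]
    rw [this]; exact hx
  · have : emb (ZMod.castHom (dvd_refl p) F) a ha (yy κ) = yy c := by
      apply ext' <;> simp only [emb, MonoidHom.mk'_apply, al_mk4, be_mk4, ga_mk4, de_mk4, al_yy,
        be_yy, ga_yy, de_yy, map_one, map_zero, mul_zero, hκ]
      field_simp
    rw [this]; exact hy

theorem conj_xx_xx (s a : F) : xx s * xx a * (xx s)⁻¹ = xx a := by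
  rw [← xx_neg, ← xx_add, ← xx_add]; congr 1; ring

theorem has_of_tr {H : Subgroup (S2 F)} {a : F} {B : S2 F} (hx : xx a ∈ H) (hB : B ∈ H)
    (ht : tr B = 2) (hac : a * ga B = 1 ∨ a * ga B = -1) : Has p H := by
  have hc : ga B ≠ 0 := by
    intro h0
    rw [h0] at hac
    rcases hac with h | h <;> simp at h
  apply Has.of_conj (xx ((1 - al B) / ga B))
  have h1 := mem_conj (xx ((1 - al B) / ga B)) hx
  have h2 := mem_conj (xx ((1 - al B) / ga B)) hB
  rw [conj_xx_xx] at h1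
  rw [conj_xx_eq_yy B ht hc] at h2
  exact has_of_unit h1 h2 hac

theorem ga_conj_xx'' (g : S2 F) (s : F) : ga (g * xx s * g⁻¹) = - s * (ga g * ga g) := by
  simp only [ga_mul, de_mul, al_inv, ga_inv, be_inv, de_inv, al_xx, ga_xx, be_xx, de_xx]
  ring

theorem has_of_xx_yy [Finite F] (hp2 : p ≠ 2) {H : Subgroup (S2 F)} {a lam : F} (ha : a ≠ 0)
    (hlam : lam ≠ 0) (hx : xx a ∈ H) (hy : yy lam ∈ H) : Has p H := by
  have : Finite (S2 F) := by
    unfold S2 Matrix.SpecialLinearGroup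
    infer_instance
  obtain ⟨g, hg, hA⟩ := dickson_lite H hp2 ha hlam hx hy
  have hB : g * xx a * g⁻¹ ∈ H := H.mul_mem (H.mul_mem hg hx) (H.inv_mem hg)
  apply has_of_tr hx hB
  · rw [tr_conj]; simp [tr]; norm_num
  · rw [ga_conj_xx'']
    rcases hA with hA | hA
    · right; linear_combination -hA
    · left; linear_combination -hA

theorem has_of_noncomm [Finite F] (hp2 : p ≠ 2) {H : Subgroup (S2 F)} {u₁ u₂ : S2 F}
    (h₁ : u₁ ∈ H) (h₂ : u₂ ∈ H) (t₁ : tr u₁ = 2) (t₂ : tr u₂ = 2) (hnc : u₁ * u₂ ≠ u₂ * u₁) :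
    Has p H := by
  obtain ⟨T₁, a₀, hT₁⟩ := exists_conj_eq_xx u₁ t₁
  apply Has.of_conj T₁
  have k₁ := mem_conj T₁ h₁
  have k₂ := mem_conj T₁ h₂
  rw [hT₁] at k₁
  obtain ⟨B, hB⟩ : ∃ B, B = T₁ * u₂ * T₁⁻¹ := ⟨_, rfl⟩
  rw [← hB] at k₂
  have tB : tr B = 2 := by rw [hB, tr_conj]; exact t₂
  have hncB : xx a₀ * B ≠ B * xx a₀ := by
    intro h; apply hnc
    rw [← hT₁, hB] at h
    have : T₁ * (u₁ * u₂) * T₁⁻¹ = T₁ * (u₂ * u₁) * T₁⁻¹ := by
      calc T₁ * (u₁ * u₂) * T₁⁻¹ = T₁ * u₁ * T₁⁻¹ * (T₁ * u₂ * T₁⁻¹) := by group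
        _ = T₁ * u₂ * T₁⁻¹ * (T₁ * u₁ * T₁⁻¹) := h
        _ = T₁ * (u₂ * u₁) * T₁⁻¹ := by group
    exact mul_left_cancel (mul_right_cancel this)
  have ha₀ : a₀ ≠ 0 := by rintro rfl; apply hncB; rw [xx_zero]; simp
  have hgaB : ga B ≠ 0 := by
    intro h0
    apply hncB
    rw [eq_xx_of_tr B tB h0, ← xx_add, ← xx_add, add_comm]
  apply Has.of_conj (xx ((1 - al B) / ga B))
  have m₁ := mem_conj (xx ((1 - al B) / ga B)) k₁
  have m₂ := mem_conj (xx ((1 - al B) / ga B)) k₂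
  rw [conj_xx_xx] at m₁
  rw [conj_xx_eq_yy B tB hgaB] at m₂
  exact has_of_xx_yy hp2 ha₀ hgaB m₁ m₂

end Cfsg.Agent.Lib.Helper5.Dk

namespace Cfsg.Agent.Lib.Helper5.Dk

theorem exists_noncomm_of_sylow {G : Type*} [Group G] [Finite G] (p : ℕ) [Fact p.Prime]
    (h : 1 < Nat.card (Sylow p G)) :
    ∃ u₁ u₂ : G, (∃ j : ℕ, u₁ ^ p ^ j = 1) ∧ (∃ j : ℕ, u₂ ^ p ^ j = 1) ∧ u₁ * u₂ ≠ u₂ * u₁ := by
  have hnt : Nontrivial (Sylow p G) := Finite.one_lt_card_iff_nontrivial.mp h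
  obtain ⟨P₁, P₂, hne⟩ := exists_pair_ne (Sylow p G)
  by_contra hcon
  push Not at hcon
  apply hne
  have pw : ∀ (P : Sylow p G), ∀ u ∈ (P : Subgroup G), ∃ j : ℕ, u ^ p ^ j = 1 := by
    intro P u hu
    obtain ⟨j, hj⟩ := P.2 ⟨u, hu⟩
    exact ⟨j, by simpa using congrArg Subtype.val hj⟩
  have hle : (P₂ : Subgroup G) ≤ Subgroup.normalizer ((P₁ : Subgroup G) : Set G) := by
    intro u hu
    rw [Subgroup.mem_normalizer_iff]
    intro x
    constructor
    · intro hx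
      have := hcon u x (pw P₂ u hu) (pw P₁ x hx)
      rw [this, mul_inv_cancel_right]; exact hx
    · intro hx
      have h1 := hcon u⁻¹ (u * x * u⁻¹) (pw P₂ _ (inv_mem hu)) (pw P₁ _ hx)
      have h2 : x = u * x * u⁻¹ := by
        have e : u⁻¹ * (u * x * u⁻¹) = x * u⁻¹ := by group
        rw [e] at h1
        exact mul_right_cancel h1
      rw [h2]; exact hx
  have h1 := P₂.2.inf_normalizer_sylow P₁
  have h2 : (P₂ : Subgroup G) ≤ P₁ := by
    intro u hu
    have : u ∈ (P₂ : Subgroup G) ⊓ (P₁ : Subgroup G) := by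
      rw [← h1]; exact Subgroup.mem_inf.mpr ⟨hu, hle hu⟩
    exact (Subgroup.mem_inf.mp this).2
  exact (Sylow.ext (P₂.3 P₁.2 h2))

theorem dickson_sl2p {F : Type*} [Field F] [Finite F] (p : ℕ) [Fact p.Prime] [CharP F p]
    (hp : p ≠ 2) (H : Subgroup (S2 F)) (hH : 1 < Nat.card (Sylow p H)) : Has p H := by
  have : Finite (S2 F) := by
    unfold S2 Matrix.SpecialLinearGroup
    infer_instance
  obtain ⟨u₁, u₂, ⟨j₁, h₁⟩, ⟨j₂, h₂⟩, hnc⟩ := exists_noncomm_of_sylow p hH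
  apply has_of_noncomm hp u₁.2 u₂.2
  · exact tr_eq_two_of_pow (p := p) j₁ (by simpa using congrArg Subtype.val h₁)
  · exact tr_eq_two_of_pow (p := p) j₂ (by simpa using congrArg Subtype.val h₂)
  · intro h; exact hnc (Subtype.ext h)

end Cfsg.Agent.Lib.Helper5.Dk
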