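import Mathlib

set_option autoImplicit false

namespace Cfsg.Agent.Lib.Helper5

open Submodule

variable {F V : Type*} [Field F] [AddCommGroup V] [Module F V]
variable {ι : Type*} [Fintype ι] [DecidableEq ι]

theorem li_of_dual (u : ι → V) (φ : ι → V →ₗ[F] F)
    (h : ∀ s t, φ t (u s) = if s = t then 1 else 0) : LinearIndependent F u := by
  rw [Fintype.linearIndependent_iff]
  intro g hg t
  have := congrArg (φ t) hg
  simpa [map_sum, h] using this

theorem disjoint_of_dual (u : ι → V) (φ : ι → V →ₗ[F] F)
    (h : ∀ s t, φ t (u s) = if s = t then 1 else 0) :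
    Disjoint (span F (Set.range u)) (⨅ t, LinearMap.ker (φ t)) := by
  rw [Submodule.disjoint_def]
  intro x hx hxW
  obtain ⟨g, rfl⟩ := (Submodule.mem_span_range_iff_exists_fun F).mp hx
  have h0 : ∀ t, g t = 0 := fun t => by
    have := (Submodule.mem_iInf _).mp hxW t
    simpa [map_sum, h] using this
  simp [h0]

theorem sup_of_dual (u : ι → V) (φ : ι → V →ₗ[F] F)
    (h : ∀ s t, φ t (u s) = if s = t then 1 else 0) :
    span F (Set.range u) ⊔ (⨅ t, LinearMap.ker (φ t)) = ⊤ := by
  rw [eq_top_iff]
  intro v _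
  have hv : v = (∑ s, φ s v • u s) + (v - ∑ s, φ s v • u s) := by abel
  rw [hv]
  apply Submodule.add_mem_sup
  · exact Submodule.sum_mem _ (fun s _ => Submodule.smul_mem _ _ (Submodule.subset_span ⟨s, rfl⟩))
  · rw [Submodule.mem_iInf]
    intro t
    simp [map_sum, h]

theorem exists_basis_of_dual [FiniteDimensional F V] (u : ι → V) (φ : ι → V →ₗ[F] F)
    (h : ∀ s t, φ t (u s) = if s = t then 1 else 0) :
    ∃ (k : ℕ) (b : Module.Basis (ι ⊕ Fin k) F V), (∀ s, b (Sum.inl s) = u s) ∧
      ∀ j, b (Sum.inr j) ∈ (⨅ t, LinearMap.ker (φ t)) := by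
  set W := (⨅ t, LinearMap.ker (φ t)) with hW
  let r := Module.finBasis F W
  let r' : Fin (Module.finrank F W) → V := fun j => (r j : V)
  have hr'span : span F (Set.range r') = W := by
    have : Set.range r' = W.subtype '' (Set.range r) := by
      rw [← Set.range_comp]; rfl
    rw [this, ← Submodule.map_span, r.span_eq, Submodule.map_subtype_top]
  have hr'li : LinearIndependent F r' :=
    r.linearIndependent.map' W.subtype (Submodule.ker_subtype W)
  have hli : LinearIndependent F (Sum.elim u r') := by
    apply LinearIndependent.sum_type (li_of_dual u φ h) hr'li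
    rw [hr'span]
    exact disjoint_of_dual u φ h
  have hsp : ⊤ ≤ span F (Set.range (Sum.elim u r')) := by
    rw [Set.Sum.elim_range, Submodule.span_union, hr'span, sup_of_dual u φ h]
  refine ⟨_, Module.Basis.mk hli hsp, ?_, ?_⟩
  · intro s; simp
  · intro j; simp [r']

end Cfsg.Agent.Lib.Helper5
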