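import Mathlib
import Cfsg.Agent.Lib.Helper5.Qd2

set_option autoImplicit false
set_option linter.unusedSimpArgs false

/-! Two non-commuting `p`-automorphisms of an elementary abelian group of order `p²` generate `SL₂(p)`. -/

namespace Cfsg.Agent.Lib.Helper5.Dk

section lin

variable {k : Type*} [Field k] {V : Type*} [AddCommGroup V] [Module k V] {Γ : Type*} [Group Γ]

theorem span_pair_of_ind (hdim : Module.finrank k V = 2) {u v : V}
    (hind : ∀ a b : k, a • u + b • v = 0 → a = 0 ∧ b = 0) (z : V) : ∃ a b : k, z = a • u + b • v := by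
  have hli : LinearIndependent k ![u, v] := LinearIndependent.pair_iff.mpr hind
  have hspan := hli.span_eq_top_of_card_eq_finrank (by simp [hdim])
  have hz : z ∈ Submodule.span k (Set.range ![u, v]) := by rw [hspan]; trivial
  have hr : Set.range ![u, v] = {u, v} := by
    ext t; simp [Matrix.range_cons, Matrix.range_empty, eq_comm, or_comm]
  rw [hr, Submodule.mem_span_pair] at hz
  obtain ⟨a, b, h⟩ := hz
  exact ⟨a, b, h.symm⟩

theorem conf_of_dim_two (hdim : Module.finrank k V = 2) (ρ : Γ →* Module.End k V) (x y : Γ)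
    (hx : (ρ x - 1) * (ρ x - 1) = 0) (hy : (ρ y - 1) * (ρ y - 1) = 0)
    (hnc : ρ x * ρ y ≠ ρ y * ρ x) :
    ∃ (u w : V) (μ : k), Conf ρ x y u w μ ∧ ∀ z : V, ∃ a b : k, z = a • u + b • w := by
  obtain ⟨X, hX⟩ : ∃ X, X = ρ x - 1 := ⟨_, rfl⟩
  obtain ⟨Y, hY⟩ : ∃ Y, Y = ρ y - 1 := ⟨_, rfl⟩
  rw [← hX] at hx
  rw [← hY] at hy
  have hρx : ρ x = 1 + X := by rw [hX]; abel
  have hρy : ρ y = 1 + Y := by rw [hY]; abel
  have hXX : ∀ z, X (X z) = 0 := fun z => by
    rw [← Module.End.mul_apply, hx]; rfl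
  have hYY : ∀ z, Y (Y z) = 0 := fun z => by
    rw [← Module.End.mul_apply, hy]; rfl
  have hXYne : X * Y ≠ Y * X := by
    intro h
    apply hnc
    rw [hρx, hρy]
    simp only [mul_add, add_mul, mul_one, one_mul, h]
    abel
  have hX0 : X ≠ 0 := by
    rintro rfl
    apply hXYne; simp
  obtain ⟨v, hv⟩ : ∃ v, X v ≠ 0 := by
    by_contra h; push Not at h; exact hX0 (LinearMap.ext h)
  obtain ⟨u, hu⟩ : ∃ u, u = X v := ⟨_, rfl⟩
  rw [← hu] at hv
  have hXu : X u = 0 := by rw [hu, hXX]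
  have hind : ∀ a b : k, a • u + b • v = 0 → a = 0 ∧ b = 0 := by
    intro a b h
    have h1 := congrArg X h
    rw [map_add, map_smul, map_smul, hXu, smul_zero, zero_add, ← hu, map_zero] at h1
    have hb : b = 0 := (smul_eq_zero.mp h1).resolve_right hv
    rw [hb, zero_smul, add_zero] at h
    exact ⟨(smul_eq_zero.mp h).resolve_right hv, hb⟩
  have hsp := span_pair_of_ind hdim hind
  have hker : ∀ z, X z = 0 → ∃ a : k, z = a • u := by
    intro z hz
    obtain ⟨a, b, rfl⟩ := hsp z
    rw [map_add, map_smul, map_smul, hXu, smul_zero, zero_add, ← hu] at hz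
    have hb : b = 0 := (smul_eq_zero.mp hz).resolve_right hv
    exact ⟨a, by rw [hb, zero_smul, add_zero]⟩
  obtain ⟨μ, hμ⟩ := hker (X (Y u)) (hXX _)
  have hμ0 : μ ≠ 0 := by
    rintro rfl
    rw [zero_smul] at hμ
    obtain ⟨c, hc⟩ := hker (Y u) hμ
    have hYu : Y u = 0 := by
      have h1 := hYY u
      rw [hc, map_smul] at h1
      rcases smul_eq_zero.mp h1 with h2 | h2
      · rw [hc, h2, zero_smul]
      · exact h2
    obtain ⟨a, b, hab⟩ := hsp (Y v)
    have hYv : ∃ a' : k, Y v = a' • u := by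
      have h1 := hYY v
      rw [hab, map_add, map_smul, map_smul, hYu, smul_zero, zero_add] at h1
      rcases smul_eq_zero.mp h1 with h2 | h2
      · exact ⟨a, by rw [hab, h2, zero_smul, add_zero]⟩
      · exact ⟨0, by rw [h2, zero_smul]⟩
    obtain ⟨a', ha'⟩ := hYv
    apply hXYne
    ext z
    obtain ⟨s, t, rfl⟩ := hsp z
    simp only [Module.End.mul_apply, map_add, map_smul, hXu, hYu, ha', ← hu, smul_zero, add_zero, map_zero]
  have hconf : Conf ρ x y u (Y u) μ := by
    refine ⟨hv, hμ0, ?_, ?_, ?_, ?_⟩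
    · rw [hρx]; simp [hXu]
    · rw [hρy]; simp
    · rw [hρx]; simp [hμ]
    · rw [hρy]; simp [hYY]
  exact ⟨u, Y u, μ, hconf, span_pair_of_ind hdim hconf.ind⟩

end lin

open Polynomial in
theorem quad_of_pow {p : ℕ} [Fact p.Prime] {V : Type*} [AddCommGroup V] [Module (ZMod p) V]
    (hdim : Module.finrank (ZMod p) V = 2) (T : Module.End (ZMod p) V) (i : ℕ) (hT : T ^ (p ^ i) = 1) :
    (T - 1) * (T - 1) = 0 := by
  have h0 : aeval T ((X - 1 : (ZMod p)[X]) ^ (p ^ i)) = 0 := by
    rw [sub_pow_char_pow, one_pow]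
    simp [hT]
  have hN : (T - 1) ^ (p ^ i) = 0 := by simpa using h0
  have h1 : (T - 1) ^ (p ^ i + 2) = 0 := by rw [pow_add, hN, zero_mul]
  have hfd : FiniteDimensional (ZMod p) V := Module.finite_of_finrank_pos (by rw [hdim]; norm_num)
  have h2 := Module.End.ker_pow_eq_ker_pow_finrank_of_le (f := T - 1) (m := p ^ i + 2)
    (by rw [hdim]; omega)
  rw [h1, hdim, LinearMap.ker_zero] at h2
  rw [← pow_two]
  exact LinearMap.ker_eq_top.mp h2.symm

def autRepAdd (H : Type*) [CommGroup H] (p : ℕ) [Fact p.Prime] [Module (ZMod p) (Additive H)] :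
    MulAut H →* Module.End (ZMod p) (Additive H) :=
  { toFun := fun σ => (MonoidHom.toAdditive σ.toMonoidHom).toZModLinearMap p
    map_one' := by
      apply LinearMap.ext
      intro x
      simp
    map_mul' := fun σ τ => by
      apply LinearMap.ext
      intro x
      simp [Module.End.mul_apply] }

theorem exists_sl2_of_noncomm_aux {H : Type*} [CommGroup H] {p : ℕ} [Fact p.Prime]
    [Module (ZMod p) (Additive H)]
    (hcard : Nat.card H = p ^ 2) (A : Subgroup (MulAut H))
    (α β : MulAut H) (hα : α ∈ A) (hβ : β ∈ A) (i j : ℕ) (hαp : α ^ (p ^ i) = 1)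
    (hβp : β ^ (p ^ j) = 1) (hnc : α * β ≠ β * α) :
    ∃ K : Subgroup A, Nonempty (K ≃* S2 (ZMod p)) := by
  classical
  have hpp : p.Prime := Fact.out
  have hρ₀ : Function.Injective (autRepAdd H p) := by
    intro σ τ h
    ext x
    have := congrArg (fun f => Additive.toMul (f (Additive.ofMul x))) h
    exact this
  have hfin : Finite H := Nat.finite_of_card_ne_zero (by rw [hcard]; exact pow_ne_zero 2 hpp.ne_zero)
  have hdim : Module.finrank (ZMod p) (Additive H) = 2 := by
    have : Fintype (Additive H) := Fintype.ofFinite _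
    have h1 := Module.card_eq_pow_finrank (K := ZMod p) (V := Additive H)
    rw [ZMod.card, ← Nat.card_eq_fintype_card] at h1
    have h2 : Nat.card (Additive H) = p ^ 2 := hcard
    rw [h2] at h1
    exact (Nat.pow_right_injective hpp.two_le h1).symm
  have hx := quad_of_pow hdim (autRepAdd H p α) i (by rw [← map_pow, hαp, map_one])
  have hy := quad_of_pow hdim (autRepAdd H p β) j (by rw [← map_pow, hβp, map_one])
  obtain ⟨u, w, μ, hconf, hspan⟩ := conf_of_dim_two hdim ((autRepAdd H p).comp A.subtype)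
    ⟨α, hα⟩ ⟨β, hβ⟩ hx hy (by
    intro h
    apply hnc
    apply hρ₀
    rw [map_mul, map_mul]
    exact h)
  obtain ⟨K, σ, hsurj, hrel⟩ := hconf.exists_hom
  refine ⟨K, ⟨MulEquiv.ofBijective σ ⟨?_, hsurj⟩⟩⟩
  rw [injective_iff_map_eq_one]
  intro g hg
  have h1 := hrel g
  rw [hg, mem_relSub] at h1
  simp only [al_one, ga_one, be_one, de_one, one_smul, zero_smul, add_zero, zero_add] at h1
  have h2 : ((autRepAdd H p).comp A.subtype) (g : A) = 1 := by
    apply LinearMap.ext
    intro z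
    obtain ⟨a, b, rfl⟩ := hspan z
    rw [map_add, map_smul, map_smul, h1.1, h1.2]
    rfl
  have h3 : ((g : A) : MulAut H) = 1 := hρ₀ (by rw [map_one]; exact h2)
  exact Subtype.ext (Subtype.ext h3)

theorem exists_sl2_of_noncomm {H : Type*} [Group H] {p : ℕ} [Fact p.Prime]
    (hcard : Nat.card H = p ^ 2) (hexp : ∀ x : H, x ^ p = 1) (A : Subgroup (MulAut H))
    (α β : MulAut H) (hα : α ∈ A) (hβ : β ∈ A) (i j : ℕ) (hαp : α ^ (p ^ i) = 1)
    (hβp : β ^ (p ^ j) = 1) (hnc : α * β ≠ β * α) :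
    ∃ K : Subgroup A, Nonempty (K ≃* S2 (ZMod p)) := by
  have hcomm : ∀ a b : H, a * b = b * a :=
    (IsPGroup.isMulCommutative_of_card_eq_prime_sq hcard).is_comm.comm
  let _ : CommGroup H := { (inferInstance : Group H) with mul_comm := hcomm }
  let _ : Module (ZMod p) (Additive H) := AddCommGroup.zmodModule (n := p) (fun x => by
    show Additive.ofMul ((Additive.toMul x) ^ p) = 0
    rw [hexp]; rfl)
  exact exists_sl2_of_noncomm_aux hcard A α β hα hβ i j hαp hβp hnc

end Cfsg.Agent.Lib.Helper5.Dk
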