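import Mathlib
import Cfsg.Agent.Lib.Helper5.Qd7
import Cfsg.Agent.Lib.Helper9.ZJLocal

set_option autoImplicit false
set_option linter.unusedSimpArgs false

/-! Groups isomorphic to `Qd(p)`, in coordinates; they are not `p`-stable. -/

namespace Cfsg.Agent.Lib.Helper5.Dk

open scoped commutatorElement

/-- coordinates of type `Qd(p)` on a group `X` -/
structure QdC (p : ℕ) [Fact p.Prime] (X : Type*) [Group X] where
  m : S2 (ZMod p) → ZMod p → ZMod p → X
  mul : ∀ A B a b c d, m A a b * m B c d =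
    m (A * B) (al A * c + be A * d + a) (ga A * c + de A * d + b)
  surj : ∀ x, ∃ A a b, x = m A a b
  inj : ∀ {A B a b c d}, m A a b = m B c d → A = B ∧ a = c ∧ b = d

variable {p : ℕ} [hpF : Fact p.Prime] {X : Type*} [Group X]

/-- coordinates from an isomorphism with `Qd(p)` -/
def QdC.ofEquiv (e : X ≃* ↥(Cfsg.qd p)) : QdC p X where
  m A a b := e.symm ⟨aff A a b, aff_mem_qd A a b⟩
  mul A B a b c d := by
    rw [← map_mul]
    congr 1
    exact Subtype.ext (aff_mul A B a b c d)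
  surj x := by
    obtain ⟨A, a, b, h⟩ := exists_aff_of_mem_qd (e x).2
    refine ⟨A, a, b, ?_⟩
    rw [MulEquiv.eq_symm_apply]
    exact Subtype.ext h
  inj h := aff_inj (congrArg Subtype.val (e.symm.injective h))

namespace QdC

variable (C : QdC p X)

theorem m_congr {A B : S2 (ZMod p)} {a b c d : ZMod p} (hA : A = B) (ha : a = c) (hb : b = d) :
    C.m A a b = C.m B c d := by rw [hA, ha, hb]

theorem one : C.m 1 0 0 = 1 := by
  have h := C.mul 1 1 0 0 0 0
  have e : C.m (1 * 1) (al (1 : S2 (ZMod p)) * 0 + be (1 : S2 (ZMod p)) * 0 + 0)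
      (ga (1 : S2 (ZMod p)) * 0 + de (1 : S2 (ZMod p)) * 0 + 0) = C.m 1 0 0 :=
    C.m_congr (mul_one 1) (by simp) (by simp)
  rw [e] at h
  exact mul_eq_left.mp h

theorem inv (A : S2 (ZMod p)) (a b : ZMod p) :
    (C.m A a b)⁻¹ = C.m A⁻¹ (-(de A * a) + be A * b) (ga A * a - al A * b) := by
  apply inv_eq_of_mul_eq_one_right
  rw [C.mul, ← C.one]
  have hd := det_eq A
  apply C.m_congr (mul_inv_cancel A)
  · linear_combination (-a) * hd
  · linear_combination (-b) * hd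

/-- the linear part -/
noncomputable def lin : X →* S2 (ZMod p) :=
  MonoidHom.mk' (fun x => (C.surj x).choose) (by
    intro x y
    obtain ⟨a, b, h1⟩ := (C.surj x).choose_spec
    obtain ⟨c, d, h2⟩ := (C.surj y).choose_spec
    obtain ⟨e, f, h3⟩ := (C.surj (x * y)).choose_spec
    have h4 : x * y = _ := congrArg₂ (· * ·) h1 h2
    rw [C.mul] at h4
    exact (C.inj (h3.symm.trans h4)).1)

@[simp] theorem lin_m (A : S2 (ZMod p)) (a b : ZMod p) : C.lin (C.m A a b) = A := by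
  obtain ⟨c, d, h1⟩ := (C.surj (C.m A a b)).choose_spec
  exact (C.inj h1).1.symm

theorem lin_surjective : Function.Surjective C.lin := fun A => ⟨C.m A 0 0, C.lin_m A 0 0⟩

theorem mem_ker_iff {x : X} : x ∈ C.lin.ker ↔ ∃ a b, x = C.m 1 a b := by
  constructor
  · intro hx
    obtain ⟨A, a, b, rfl⟩ := C.surj x
    rw [MonoidHom.mem_ker, lin_m] at hx
    exact ⟨a, b, by rw [hx]⟩
  · rintro ⟨a, b, rfl⟩
    rw [MonoidHom.mem_ker, lin_m]

theorem conj_trans (A : S2 (ZMod p)) (a b c d : ZMod p) :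
    C.m A a b * C.m 1 c d * (C.m A a b)⁻¹ = C.m 1 (al A * c + be A * d) (ga A * c + de A * d) := by
  rw [C.inv, C.mul, C.mul]
  have hd := det_eq A
  apply C.m_congr
  · simp
  · simp only [mul_one, al_mul, be_mul, al_one, be_one, ga_one, de_one]
    linear_combination (-a) * hd
  · simp only [mul_one, ga_mul, de_mul, al_one, be_one, ga_one, de_one]
    linear_combination (-b) * hd

theorem trans_mul (a b c d : ZMod p) : C.m 1 a b * C.m 1 c d = C.m 1 (a + c) (b + d) := by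
  rw [C.mul]
  apply C.m_congr (mul_one 1) <;> simp [add_comm]

theorem trans_pow (a b : ZMod p) (n : ℕ) : (C.m 1 a b) ^ n = C.m 1 (n * a) (n * b) := by
  induction n with
  | zero => simp [C.one]
  | succ n ih =>
    rw [pow_succ, ih, trans_mul]
    apply C.m_congr rfl <;> push_cast <;> ring

theorem ker_isPGroup : IsPGroup p C.lin.ker := by
  rintro ⟨x, hx⟩
  obtain ⟨a, b, rfl⟩ := C.mem_ker_iff.mp hx
  refine ⟨1, Subtype.ext ?_⟩
  show (C.m 1 a b) ^ p ^ 1 = 1
  rw [pow_one, trans_pow, ← C.one]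
  apply C.m_congr rfl <;> simp

/-- the subgroup of the `m (xx i) 0 0` -/
def gsub : Subgroup X where
  carrier := {x | ∃ i, x = C.m (xx i) 0 0}
  mul_mem' := by
    rintro _ _ ⟨i, rfl⟩ ⟨j, rfl⟩
    refine ⟨i + j, ?_⟩
    rw [C.mul]
    apply C.m_congr (xx_add i j).symm <;> simp
  one_mem' := ⟨0, by rw [xx_zero, C.one]⟩
  inv_mem' := by
    rintro _ ⟨i, rfl⟩
    refine ⟨-i, ?_⟩
    rw [C.inv]
    apply C.m_congr (xx_neg i).symm <;> simp

theorem comm_trans_g (a b i : ZMod p) :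
    ⁅C.m 1 a b, C.m (xx i) 0 0⁆ = C.m 1 (-(i * b)) 0 := by
  rw [commutatorElement_def, C.inv, C.inv, C.mul, C.mul, C.mul]
  apply C.m_congr
  · simp
  · simp
  · simp

theorem quad : ⁅⁅C.lin.ker, Subgroup.zpowers (C.m (xx 1) 0 0)⁆, Subgroup.zpowers (C.m (xx 1) 0 0)⁆ = ⊥ := by
  have hZ : Subgroup.zpowers (C.m (xx 1) 0 0) ≤ C.gsub := by
    rw [Subgroup.zpowers_le]
    exact ⟨1, rfl⟩
  rw [Subgroup.commutator_eq_bot_iff_le_centralizer, Subgroup.commutator_le]
  intro v hv z hz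
  obtain ⟨a, b, rfl⟩ := C.mem_ker_iff.mp hv
  obtain ⟨i, rfl⟩ := hZ hz
  rw [comm_trans_g, Subgroup.mem_centralizer_iff]
  intro z' hz'
  obtain ⟨j, rfl⟩ := hZ hz'
  rw [C.mul, C.mul]
  apply C.m_congr <;> simp

include C in
theorem not_stable (hp2 : p ≠ 2) : ¬ Cfsg.IsNormalizerPStable p X := by
  intro hst
  have hN : Subgroup.normalizer ((C.lin.ker : Subgroup X) : Set X) = ⊤ := Subgroup.normalizer_eq_top _
  obtain ⟨K, -, hK2, hK3, hK4⟩ := Cfsg.Agent.Lib.Helper9.stabAt_of_normalizerPStable hst C.lin.ker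
    C.ker_isPGroup (C.m (xx 1) 0 0) (by rw [hN]; trivial) C.quad
  have hKn : K.Normal := by
    rw [← Subgroup.normalizer_eq_top_iff, eq_top_iff, ← hN]
    exact hK2
  have hKn' : (K.map C.lin).Normal := hKn.map _ C.lin_surjective
  have hx : xx (1 : ZMod p) ∈ K.map C.lin := ⟨_, hK3, C.lin_m _ _ _⟩
  have hy : yy (-1 : ZMod p) ∈ K.map C.lin := by
    have h := hKn'.conj_mem _ hx (mk4 0 1 (-1) 0 (by ring))
    have e : mk4 (0 : ZMod p) 1 (-1) 0 (by ring) * xx 1 * (mk4 (0 : ZMod p) 1 (-1) 0 (by ring))⁻¹ = yy (-1) := by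
      apply ext' <;> simp
    rwa [e] at h
  have htop : K.map C.lin = ⊤ := by
    rw [eq_top_iff, ← closure_zmod p (one_ne_zero) (neg_ne_zero.mpr one_ne_zero), Subgroup.closure_le]
    rintro _ (rfl | rfl)
    · exact hx
    · exact hy
  obtain ⟨k, hk, hkm⟩ : (mone : S2 (ZMod p)) ∈ K.map C.lin := by rw [htop]; trivial
  obtain ⟨n, hn⟩ := hK4 k hk
  have hodd : Odd (p ^ n) := (hpF.out.odd_of_ne_two hp2).pow
  have hlin : C.lin (k ^ p ^ n) = mone := by
    rw [map_pow, hkm]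
    obtain ⟨r, hr⟩ := hodd
    rw [hr, pow_succ, pow_mul, pow_two, mone_mul_mone, one_pow, one_mul]
  obtain ⟨A, a, b, hA⟩ := C.surj (k ^ p ^ n)
  rw [hA, lin_m] at hlin
  rw [hA, hlin, Subgroup.mem_centralizer_iff] at hn
  have h1 := hn (C.m 1 1 0) (C.mem_ker_iff.mpr ⟨1, 0, rfl⟩)
  rw [C.mul, C.mul] at h1
  have h2 := (C.inj h1).2.1
  simp only [al_one, be_one, al_mone, be_mone] at h2
  have h3 : (2 : ZMod p) = 0 := by linear_combination h2
  have h' : ((2 : ℕ) : ZMod p) = 0 := by exact_mod_cast h3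
  rw [ZMod.natCast_eq_zero_iff] at h'
  exact hp2 ((Nat.prime_dvd_prime_iff_eq hpF.out Nat.prime_two).mp h')

end QdC

end Cfsg.Agent.Lib.Helper5.Dk
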