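import Mathlib
import Cfsg.Agent.Lib.Helper5.Qd8
import Cfsg.Prelude.Def_ConjugacyFunctors

set_option autoImplicit false
set_option linter.unusedSimpArgs false

/-! In `Qd(p)` no nontrivial characteristic subgroup of a Sylow `p`-subgroup controls strong fusion. -/

namespace Cfsg.Agent.Lib.Helper5.Dk

variable {p : ℕ} [hpF : Fact p.Prime] {X : Type*} [Group X]

namespace QdC

variable (C : QdC p X)

/-- the standard Sylow `p`-subgroup -/
def tsub : Subgroup X where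
  carrier := {x | ∃ i a b, x = C.m (xx i) a b}
  mul_mem' := by
    rintro _ _ ⟨i, a, b, rfl⟩ ⟨j, c, d, rfl⟩
    refine ⟨i + j, al (xx i) * c + be (xx i) * d + a, ga (xx i) * c + de (xx i) * d + b, ?_⟩
    rw [C.mul, xx_add]
  one_mem' := ⟨0, 0, 0, by rw [xx_zero, C.one]⟩
  inv_mem' := by
    rintro _ ⟨i, a, b, rfl⟩
    refine ⟨-i, -(de (xx i) * a) + be (xx i) * b, ga (xx i) * a - al (xx i) * b, ?_⟩
    rw [C.inv, xx_neg]

theorem tsub_isPGroup : IsPGroup p C.tsub := by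
  rintro ⟨x, i, a, b, rfl⟩
  refine ⟨2, Subtype.ext ?_⟩
  show (C.m (xx i) a b) ^ p ^ 2 = 1
  have h1 : (C.m (xx i) a b) ^ p ∈ C.lin.ker := by
    rw [MonoidHom.mem_ker, map_pow, lin_m, xx_pow]
    simp [xx_zero]
  obtain ⟨c, d, h2⟩ := C.mem_ker_iff.mp h1
  rw [pow_two, pow_mul, h2, trans_pow, ← C.one]
  apply C.m_congr rfl <;> simp

theorem tsub_maximal {Q : Subgroup X} (hQ : IsPGroup p Q) (hle : C.tsub ≤ Q) : Q = C.tsub := by
  apply le_antisymm _ hle
  intro h hh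
  obtain ⟨A, a, b, rfl⟩ := C.surj h
  have ht : ∀ x ∈ Q, tr (C.lin x) = 2 := by
    intro x hx
    obtain ⟨j, hj⟩ := hQ ⟨x, hx⟩
    have hj' : x ^ p ^ j = 1 := congrArg Subtype.val hj
    apply tr_eq_two_of_pow (p := p) j
    rw [← map_pow, hj', map_one]
  have h1 := ht _ hh
  have h2 := ht _ (Q.mul_mem hh (hle ⟨1, 0, 0, rfl⟩))
  rw [map_mul, lin_m, lin_m] at h2
  rw [lin_m] at h1
  simp only [tr, al_mul, de_mul, al_xx, be_xx, ga_xx, de_xx] at h1 h2
  have hga : ga A = 0 := by linear_combination h2 - h1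
  have hd := det_eq A
  rw [hga, mul_zero, sub_zero] at hd
  have hal : (al A - 1) * (al A - 1) = 0 := by linear_combination (al A) * h1 - hd
  have hal' : al A = 1 := sub_eq_zero.mp (mul_self_eq_zero.mp hal)
  have hde : de A = 1 := by linear_combination h1 - hal'
  refine ⟨be A, a, b, ?_⟩
  apply C.m_congr _ rfl rfl
  apply ext' <;> simp [hga, hal', hde]

/-- the standard Sylow `p`-subgroup, as a Sylow subgroup -/
def syl : Sylow p X where
  toSubgroup := C.tsub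
  isPGroup' := C.tsub_isPGroup
  is_maximal' := fun hQ hle => C.tsub_maximal hQ hle

/-- Heisenberg coordinates -/
def hc (i a b : ZMod p) : ↥C.tsub := ⟨C.m (xx i) a b, i, a, b, rfl⟩

theorem hc_mul (i a b j c d : ZMod p) :
    C.hc i a b * C.hc j c d = C.hc (i + j) (c + i * d + a) (d + b) := by
  apply Subtype.ext
  show C.m (xx i) a b * C.m (xx j) c d = C.m (xx (i + j)) (c + i * d + a) (d + b)
  rw [C.mul]
  apply C.m_congr (xx_add i j).symm <;> simp

theorem hc_one : C.hc 0 0 0 = 1 := by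
  apply Subtype.ext
  show C.m (xx 0) 0 0 = 1
  rw [xx_zero, C.one]

theorem hc_congr {i a b j c d : ZMod p} (h1 : i = j) (h2 : a = c) (h3 : b = d) :
    C.hc i a b = C.hc j c d := by rw [h1, h2, h3]

theorem hc_inv (i a b : ZMod p) : (C.hc i a b)⁻¹ = C.hc (-i) (i * b - a) (-b) := by
  apply inv_eq_of_mul_eq_one_right
  rw [hc_mul, ← hc_one]
  apply C.hc_congr <;> ring

theorem hc_surj (x : ↥C.tsub) : ∃ i a b, x = C.hc i a b := by
  obtain ⟨x, i, a, b, rfl⟩ := x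
  exact ⟨i, a, b, rfl⟩

theorem hc_inj {i a b j c d : ZMod p} (h : C.hc i a b = C.hc j c d) : i = j ∧ a = c ∧ b = d := by
  obtain ⟨h1, h2, h3⟩ := C.inj (congrArg Subtype.val h)
  exact ⟨xx_injective h1, h2, h3⟩

/-- the coordinate bijection -/
noncomputable def e3 : ZMod p × ZMod p × ZMod p ≃ ↥C.tsub :=
  Equiv.ofBijective (fun t => C.hc t.1 t.2.1 t.2.2) ⟨by
    rintro ⟨i, a, b⟩ ⟨j, c, d⟩ h
    obtain ⟨h1, h2, h3⟩ := C.hc_inj h
    simp only at h1 h2 h3
    rw [h1, h2, h3], by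
    intro x
    obtain ⟨i, a, b, rfl⟩ := C.hc_surj x
    exact ⟨(i, a, b), rfl⟩⟩

theorem e3_apply (i a b : ZMod p) : C.e3 (i, a, b) = C.hc i a b := rfl

/-- the swap on coordinates -/
def swp : ZMod p × ZMod p × ZMod p ≃ ZMod p × ZMod p × ZMod p :=
  Function.Involutive.toPerm (fun t => (t.2.2, t.1 * t.2.2 - t.2.1, t.1)) (by
    rintro ⟨i, a, b⟩
    simp only [Prod.mk.injEq, true_and, and_true]
    ring)

/-- the automorphism of the Sylow subgroup exchanging the two elementary abelian subgroups of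
order `p²` -/
noncomputable def psi : ↥C.tsub ≃* ↥C.tsub :=
  { C.e3.symm.trans (swp.trans C.e3) with
    map_mul' := by
      intro x y
      obtain ⟨i, a, b, rfl⟩ := C.hc_surj x
      obtain ⟨j, c, d, rfl⟩ := C.hc_surj y
      rw [hc_mul]
      simp only [← e3_apply]
      show C.e3 (swp (C.e3.symm (C.e3 _))) = C.e3 (swp (C.e3.symm (C.e3 _))) * C.e3 (swp (C.e3.symm (C.e3 _)))
      rw [Equiv.symm_apply_apply, Equiv.symm_apply_apply, Equiv.symm_apply_apply]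
      show C.hc _ _ _ = C.hc _ _ _ * C.hc _ _ _
      rw [hc_mul]
      apply C.hc_congr
      · show d + b = b + d
        ring
      · show (i + j) * (d + b) - (c + i * d + a) = (j * d - c) + b * j + (i * b - a)
        ring
      · show i + j = j + i
        ring }

theorem psi_hc (i a b : ZMod p) : C.psi (C.hc i a b) = C.hc b (i * b - a) i := by
  rw [← e3_apply]
  show C.e3 (swp (C.e3.symm (C.e3 _))) = _
  rw [Equiv.symm_apply_apply]
  rfl

theorem hc_comm (i a b j c d : ZMod p) :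
    C.hc i a b * C.hc j c d * (C.hc i a b)⁻¹ * (C.hc j c d)⁻¹ = C.hc 0 (i * d - j * b) 0 := by
  rw [hc_inv, hc_inv, hc_mul, hc_mul, hc_mul]
  apply C.hc_congr <;> ring

theorem hc_pow (c : ZMod p) (n : ℕ) : (C.hc 0 c 0) ^ n = C.hc 0 (n * c) 0 := by
  induction n with
  | zero => simp [hc_one]
  | succ n ih =>
    rw [pow_succ, ih, hc_mul]
    apply C.hc_congr <;> push_cast <;> ring

/-- a nontrivial characteristic subgroup of the Sylow subgroup contains its centre -/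
theorem z_mem (WQ : Subgroup ↥C.tsub) (hne : WQ ≠ ⊥)
    (hinv : ∀ φ : ↥C.tsub ≃* ↥C.tsub, WQ.map φ.toMonoidHom = WQ) : C.hc 0 1 0 ∈ WQ := by
  have hmem : ∀ (φ : ↥C.tsub ≃* ↥C.tsub) (x : ↥C.tsub), x ∈ WQ → φ x ∈ WQ := by
    intro φ x hx
    have : φ x ∈ WQ.map φ.toMonoidHom := ⟨x, hx, rfl⟩
    rwa [hinv] at this
  have hcomm : ∀ t q : ↥C.tsub, q ∈ WQ → t * q * t⁻¹ * q⁻¹ ∈ WQ := by
    intro t q hq
    exact WQ.mul_mem (hmem (MulAut.conj t) q hq) (WQ.inv_mem hq)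
  obtain ⟨c, hc0, hc⟩ : ∃ c : ZMod p, c ≠ 0 ∧ C.hc 0 c 0 ∈ WQ := by
    obtain ⟨q, hq, hq1⟩ : ∃ q ∈ WQ, q ≠ 1 := by
      by_contra hcon
      push Not at hcon
      exact hne ((Subgroup.eq_bot_iff_forall _).mpr hcon)
    obtain ⟨i, a, b, rfl⟩ := C.hc_surj q
    by_cases hi : i = 0
    · by_cases hb : b = 0
      · refine ⟨a, ?_, by rwa [hi, hb] at hq⟩
        rintro rfl
        apply hq1
        rw [hi, hb, hc_one]
      · refine ⟨b, hb, ?_⟩
        have := hcomm (C.hc 1 0 0) _ hq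
        rw [hc_comm] at this
        have e : C.hc 0 (1 * b - i * 0) 0 = C.hc 0 b 0 := C.hc_congr rfl (by ring) rfl
        rwa [e] at this
    · refine ⟨-i, neg_ne_zero.mpr hi, ?_⟩
      have := hcomm (C.hc 0 0 1) _ hq
      rw [hc_comm] at this
      have e : C.hc 0 (0 * b - i * 1) 0 = C.hc 0 (-i) 0 := C.hc_congr rfl (by ring) rfl
      rwa [e] at this
  have h1 := WQ.pow_mem hc (c⁻¹).val
  rw [hc_pow, ZMod.natCast_zmod_val, inv_mul_cancel₀ hc0] at h1
  exact h1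

theorem not_controls [Finite X] (WQ : Subgroup ↥C.tsub) (hne : WQ ≠ ⊥)
    (hinv : ∀ φ : ↥C.tsub ≃* ↥C.tsub, WQ.map φ.toMonoidHom = WQ) :
    ¬ Cfsg.ControlsStrongFusion p (WQ.map C.tsub.subtype) := by
  rintro ⟨T', -, hctl⟩
  have hV : C.lin.ker ≤ (T' : Subgroup X) := C.ker_isPGroup.le_sylow_of_normal T'
  have hz := C.z_mem WQ hne hinv
  have hzX : C.m 1 1 0 ∈ WQ.map C.tsub.subtype := by
    refine ⟨_, hz, ?_⟩
    show C.m (xx 0) 1 0 = _
    rw [xx_zero]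
  have hconj : C.m (mk4 0 (-1) 1 0 (by ring)) 0 0 * C.m 1 1 0 * (C.m (mk4 0 (-1) 1 0 (by ring)) 0 0)⁻¹ =
      C.m 1 0 1 := by
    rw [conj_trans]
    apply C.m_congr rfl <;> simp
  obtain ⟨n, hn, hn'⟩ := (hctl {C.m 1 1 0} (by
      rintro _ rfl
      exact hV (C.mem_ker_iff.mpr ⟨1, 0, rfl⟩))).2 (C.m (mk4 0 (-1) 1 0 (by ring)) 0 0) (by
      rintro _ ⟨_, rfl, rfl⟩
      show _ * _ * _ ∈ _
      rw [hconj]
      exact hV (C.mem_ker_iff.mpr ⟨0, 1, rfl⟩))
  have hn2 := hn' _ rfl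
  rw [hconj] at hn2
  have hz' : C.m 1 0 1 ∈ WQ.map C.tsub.subtype := by
    rw [hn2]
    exact (Subgroup.mem_normalizer_iff.mp hn _).mp hzX
  have hz'' : C.hc 0 0 1 ∈ WQ := by
    obtain ⟨q, hq, hq'⟩ := hz'
    have : q = C.hc 0 0 1 := by
      apply Subtype.ext
      show (q : X) = C.m (xx 0) 0 1
      rw [xx_zero]
      exact hq'
    rwa [← this]
  have hg : C.hc 1 0 0 ∈ WQ := by
    have h1 : C.psi (C.hc 0 0 1) ∈ WQ.map C.psi.toMonoidHom := ⟨_, hz'', rfl⟩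
    rw [hinv, psi_hc] at h1
    have e : C.hc 1 (0 * 1 - 0) 0 = C.hc 1 0 0 := C.hc_congr rfl (by ring) rfl
    rwa [e] at h1
  have hgX : C.m (xx 1) 0 0 ∈ WQ.map C.tsub.subtype := ⟨_, hg, rfl⟩
  have h3 := (Subgroup.mem_normalizer_iff.mp hn _).mp hgX
  obtain ⟨q, -, hq⟩ := h3
  obtain ⟨i, a, b, rfl⟩ := C.hc_surj q
  obtain ⟨A, a', b', rfl⟩ := C.surj n
  rw [conj_trans] at hn2
  obtain ⟨-, e1, e2⟩ := C.inj hn2
  have h4 := congrArg C.lin hq
  have h5 : C.lin (C.tsub.subtype (C.hc i a b)) = xx i := C.lin_m _ _ _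
  rw [h5, map_mul, map_mul, map_inv, lin_m, lin_m] at h4
  have h6 := congrArg ga h4
  simp only [ga_mul, de_mul, al_inv, ga_inv, al_xx, be_xx, ga_xx, de_xx] at h6
  have e2' : ga A = 1 := by linear_combination -e2
  rw [e2'] at h6
  have : (1 : ZMod p) = 0 := by linear_combination h6
  exact one_ne_zero this

end QdC

end Cfsg.Agent.Lib.Helper5.Dk

namespace Cfsg.Agent.Lib.Helper5.Dk

universe u

theorem QdC.not_controls_functor {p : ℕ} [hpF : Fact p.Prime] {X : Type u} [Group X] [Finite X]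
    (C : QdC p X) (W : ∀ (Q : Type u) [Group Q], Subgroup Q) (hW : Cfsg.IsCharPFunctor.{u} p W) :
    ¬ Cfsg.ControlsStrongFusion p (Cfsg.inducedFunctor W (C.syl : Subgroup X)) := by
  have hnt : Nontrivial ↥C.tsub := by
    refine ⟨C.hc 0 1 0, C.hc 0 0 0, fun h => ?_⟩
    exact one_ne_zero (C.hc_inj h).2.1
  exact C.not_controls (W ↥C.tsub) (hW.1 _ C.tsub_isPGroup hnt) (fun φ => hW.2 _ _ C.tsub_isPGroup φ)

end Cfsg.Agent.Lib.Helper5.Dk
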