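import Mathlib
import Cfsg.Agent.Lib.Helper5.ZJ2
import Cfsg.Prelude.Def_LocalEven

set_option autoImplicit false

namespace Cfsg.Agent.Lib.Helper5

open Cfsg Cfsg.Agent.Lib.Helper4
open scoped commutatorElement

variable {G : Type*} [Group G]

theorem thompsonSubgroupAOf_eq (D : Subgroup G) :
    Cfsg.thompsonSubgroupAOf D = sSup (MaxFam (fun A => IsMulCommutative A) D) := by
  apply le_antisymm
  · unfold Cfsg.thompsonSubgroupAOf Cfsg.thompsonSubgroupA
    rw [Subgroup.map_le_iff_le_comap]
    apply sSup_le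
    intro A hA
    rw [← Subgroup.map_le_iff_le_comap]
    apply le_sSup
    rw [← image_maxAbelian]
    exact ⟨A, hA, rfl⟩
  · apply sSup_le
    intro A hA
    rw [← image_maxAbelian] at hA
    obtain ⟨A', hA', rfl⟩ := hA
    exact Subgroup.map_mono (le_sSup hA')

theorem thompsonSubgroupOf_eq (p : ℕ) (D : Subgroup G) :
    Cfsg.thompsonSubgroupOf p D = sSup (MaxFam (Cfsg.IsElementaryAbelian p) D) := by
  apply le_antisymm
  · unfold Cfsg.thompsonSubgroupOf Cfsg.thompsonSubgroup
    rw [Subgroup.map_le_iff_le_comap]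
    apply sSup_le
    intro A hA
    rw [← Subgroup.map_le_iff_le_comap]
    apply le_sSup
    rw [← image_maxElemAb]
    exact ⟨A, hA, rfl⟩
  · apply sSup_le
    intro A hA
    rw [← image_maxElemAb] at hA
    obtain ⟨A', hA', rfl⟩ := hA
    exact Subgroup.map_mono (le_sSup hA')

theorem sSup_maxFam_le (P : Subgroup G → Prop) (D : Subgroup G) : sSup (MaxFam P D) ≤ D :=
  sSup_le fun _ hA => hA.1

/-- the intersection of the family lies in the centre of the join -/
theorem sInf_maxFam_le_center {P : Subgroup G → Prop} (hPab : ∀ A, P A → IsMulCommutative A)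
    {D : Subgroup G} (hne : (MaxFam P D).Nonempty) :
    sInf (MaxFam P D) ≤
      sSup (MaxFam P D) ⊓ Subgroup.centralizer ((sSup (MaxFam P D) : Subgroup G) : Set G) := by
  obtain ⟨A₀, hA₀⟩ := hne
  apply le_inf ((sInf_le hA₀).trans (le_sSup hA₀))
  intro x hx
  rw [Subgroup.mem_sInf] at hx
  have : sSup (MaxFam P D) ≤ Subgroup.centralizer {x} := by
    apply sSup_le
    intro A hA a ha
    rw [Subgroup.mem_centralizer_singleton_iff]
    exact (Helper4.isMulCommutative_iff A).mp (hPab A hA.2.1) a ha x (hx A hA)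
  rw [Subgroup.mem_centralizer_iff]
  intro y hy
  have := this hy
  rw [Subgroup.mem_centralizer_singleton_iff] at this
  exact this

theorem mem_of_sup_zpowers [Finite G] {P : Subgroup G → Prop} {D A : Subgroup G}
    (hA : A ∈ MaxFam P D) {x : G} (hx : x ∈ D) (hP : P (A ⊔ Subgroup.zpowers x)) : x ∈ A := by
  have hcard := hA.2.2 _ (sup_le hA.1 (Subgroup.zpowers_le.mpr hx)) hP
  have heq : A = A ⊔ Subgroup.zpowers x := Subgroup.eq_of_le_of_card_ge le_sup_left hcard
  rw [heq]
  exact Subgroup.mem_sup_right (Subgroup.mem_zpowers x)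

theorem isMulCommutative_bot' : IsMulCommutative (⊥ : Subgroup G) := by
  rw [Helper4.isMulCommutative_iff]
  intro a ha b hb
  rw [Subgroup.mem_bot] at ha hb
  rw [ha, hb]

theorem centerThompsonAOf_eq [Finite G] (D : Subgroup G) :
    Cfsg.centerThompsonAOf D = sInf (MaxFam (fun A => IsMulCommutative A) D) := by
  unfold Cfsg.centerThompsonAOf
  rw [thompsonSubgroupAOf_eq]
  apply le_antisymm
  · apply le_sInf
    intro A hA x hx
    apply mem_of_sup_zpowers hA (sSup_maxFam_le _ _ hx.1)
    apply isMulCommutative_sup hA.2.1 inferInstance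
    intro a ha b hb
    obtain ⟨k, rfl⟩ := Subgroup.mem_zpowers_iff.mp hb
    have hc : Commute a x := Subgroup.mem_centralizer_iff.mp hx.2 a (le_sSup hA ha)
    exact (hc.zpow_right k)
  · exact sInf_maxFam_le_center (fun _ h => h) (maxFam_nonempty _ isMulCommutative_bot' D)

theorem omegaOne_centerThompsonOf_eq [Finite G] (p : ℕ) (D : Subgroup G) :
    Cfsg.omegaOne p (Cfsg.centerThompsonOf p D) = sInf (MaxFam (Cfsg.IsElementaryAbelian p) D) := by
  unfold Cfsg.centerThompsonOf Cfsg.omegaOne
  rw [thompsonSubgroupOf_eq]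
  apply le_antisymm
  · rw [Subgroup.closure_le]
    rintro x ⟨hx, hxp⟩
    rw [SetLike.mem_coe, Subgroup.mem_sInf]
    intro A hA
    apply mem_of_sup_zpowers hA (sSup_maxFam_le _ _ hx.1)
    apply elemAb_sup hA.2.1 (elemAb_zpowers hxp)
    intro a ha b hb
    obtain ⟨k, rfl⟩ := Subgroup.mem_zpowers_iff.mp hb
    have hc : Commute a x := Subgroup.mem_centralizer_iff.mp hx.2 a (le_sSup hA ha)
    exact (hc.zpow_right k)
  · intro x hx
    apply Subgroup.subset_closure
    obtain ⟨A₀, hA₀⟩ := maxFam_nonempty (Cfsg.IsElementaryAbelian p) (elemAb_bot p) D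
    exact ⟨sInf_maxFam_le_center (fun _ h => h.1) ⟨A₀, hA₀⟩ hx,
      hA₀.2.1.2 x ((Subgroup.mem_sInf.mp hx) A₀ hA₀)⟩

theorem elemAb_rep {p : ℕ} (A As : Subgroup G) (hA : Cfsg.IsElementaryAbelian p A)
    (h2 : IsMulCommutative As) (h3 : Monoid.exponent As ∣ Monoid.exponent A) :
    Cfsg.IsElementaryAbelian p As := by
  refine ⟨h2, ?_⟩
  intro x hx
  have h4 : Monoid.exponent A ∣ p := by
    apply Monoid.exponent_dvd_of_forall_pow_eq_one
    intro g
    exact Subtype.ext (hA.2 g.1 g.2)
  have h5 := (Monoid.exponent_dvd_iff_forall_pow_eq_one).mp (h3.trans h4) ⟨x, hx⟩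
  exact congrArg Subtype.val h5

/-- ZJ theorem for a strongly closed subgroup, abelian version. -/
theorem zj_abelian [Finite G] {p : ℕ} [Fact p.Prime] (hp : p ≠ 2)
    (hc : Subgroup.centralizer (Cfsg.pCore p G : Set G) ≤ Cfsg.pCore p G)
    (hst : ∀ (V : Subgroup G) [V.Normal], IsPGroup p V → Cfsg.IsPStableOn p V)
    (S : Sylow p G) (D : Subgroup G) (hD : Cfsg.IsStronglyClosed D (S : Subgroup G)) :
    (Cfsg.centerThompsonAOf D).Normal := by
  rw [centerThompsonAOf_eq]
  exact zj_general hp hc hst S D hD _ isMulCommutative_bot' (fun _ h => h) (fun _ _ _ h _ => h)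
    (fun φ A hA => isMulCommutative_map' _ hA)

/-- ZJ theorem for a strongly closed subgroup, elementary abelian version. -/
theorem zj_elemAb [Finite G] {p : ℕ} [Fact p.Prime] (hp : p ≠ 2)
    (hc : Subgroup.centralizer (Cfsg.pCore p G : Set G) ≤ Cfsg.pCore p G)
    (hst : ∀ (V : Subgroup G) [V.Normal], IsPGroup p V → Cfsg.IsPStableOn p V)
    (S : Sylow p G) (D : Subgroup G) (hD : Cfsg.IsStronglyClosed D (S : Subgroup G)) :
    (Cfsg.omegaOne p (Cfsg.centerThompsonOf p D)).Normal := by
  rw [omegaOne_centerThompsonOf_eq]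
  exact zj_general hp hc hst S D hD _ (elemAb_bot p) (fun _ h => h.1) elemAb_rep
    (fun φ A hA => elemAb_map _ hA)

theorem stronglyClosed_self (S : Subgroup G) : Cfsg.IsStronglyClosed S S :=
  ⟨le_rfl, fun _ _ _ h => h⟩

/-- a normal subgroup of the form `sInf (MaxFam P S)`, `S` Sylow, is characteristic. -/
theorem sInf_maxFam_sylow_characteristic [Finite G] {p : ℕ} [Fact p.Prime] (S : Sylow p G)
    {P : Subgroup G → Prop}
    (hPaut : ∀ (φ : G ≃* G) (A : Subgroup G), P A → P (A.map φ.toMonoidHom))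
    (hn : (sInf (MaxFam P (S : Subgroup G))).Normal) :
    (sInf (MaxFam P (S : Subgroup G))).Characteristic := by
  rw [Subgroup.characteristic_iff_map_eq]
  intro φ
  rw [sInf_maxFam_map hPaut]
  have h1 : Helper16.SylIn p ((S : Subgroup G).map φ.toMonoidHom) ⊤ := by
    apply Helper16.sylIn_of_card_ge (Helper16.sylIn_top S) (S.2.map _) le_top
    have e2 : Nat.card ((S : Subgroup G).map φ.toMonoidHom) = Nat.card (S : Subgroup G) :=
      Subgroup.card_map_of_injective φ.injective
    rw [e2]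
  obtain ⟨g, -, hg⟩ := (Helper16.sylIn_top S).exists_conj h1
  rw [hg, ← sInf_maxFam_map hPaut]
  exact Subgroup.Normal.map_conj_eq _ g

/-- the image in `G` of the intersection of the family of a subgroup -/
theorem map_sInf_maxElemAb [Finite G] (p : ℕ) (D : Subgroup G) :
    (sInf (Cfsg.maxElementaryAbelianSubgroups p ↥D)).map D.subtype =
      sInf (MaxFam (Cfsg.IsElementaryAbelian p) D) := by
  rw [← image_maxElemAb]
  apply le_antisymm
  · apply le_sInf
    rintro _ ⟨A, hA, rfl⟩
    exact Subgroup.map_mono (sInf_le hA)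
  · intro x hx
    rw [Subgroup.mem_sInf] at hx
    obtain ⟨A₀, hA₀⟩ := exists_maxElemAb (G := ↥D) p
    obtain ⟨y, -, rfl⟩ := hx _ ⟨A₀, hA₀, rfl⟩
    refine ⟨y, ?_, rfl⟩
    rw [SetLike.mem_coe, Subgroup.mem_sInf]
    intro A hA
    obtain ⟨z, hz, hzy⟩ := hx _ ⟨A, hA, rfl⟩
    have : z = y := Subtype.ext hzy
    rwa [← this]

/-- normalizer `p`-stability gives `p`-stability on normal `p`-subgroups -/
theorem isPStableOn_of_normalizerPStable {p : ℕ} (hst : Cfsg.IsNormalizerPStable p G)
    (V : Subgroup G) [hV : V.Normal] (hVp : IsPGroup p V) : Cfsg.IsPStableOn p V := by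
  intro a ha
  have hN : ∀ g : G, g ∈ Subgroup.normalizer (V : Set G) := by
    intro g
    rw [Subgroup.normalizer_eq_top]
    exact Subgroup.mem_top g
  have h1 := hst V hVp a (hN a) ha
  let ψ : (↥(Subgroup.normalizer (V : Set G)) ⧸
      (Subgroup.centralizer (V : Set G)).subgroupOf (Subgroup.normalizer (V : Set G))) →*
      G ⧸ Subgroup.centralizer (V : Set G) :=
    QuotientGroup.map _ _ (Subgroup.normalizer (V : Set G)).subtype (fun x hx => hx)
  have hψ : Function.Bijective ψ := by
    constructor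
    · rw [injective_iff_map_eq_one]
      intro x
      induction x using QuotientGroup.induction_on with
      | H x =>
        intro hx
        have h2 : (QuotientGroup.mk (x : G) : G ⧸ Subgroup.centralizer (V : Set G)) = 1 := hx
        rw [QuotientGroup.eq_one_iff] at h2 ⊢
        exact h2
    · intro y
      induction y using QuotientGroup.induction_on with
      | H y => exact ⟨QuotientGroup.mk ⟨y, hN y⟩, rfl⟩
  have h2 := Helper17.pCore_map_le p (MulEquiv.ofBijective ψ hψ)
  exact h2 ⟨_, h1, rfl⟩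

end Cfsg.Agent.Lib.Helper5
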